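import Cfsg.Agent.ReeF4.MultElems

/-!
# The Tits group: all rows of a matrix over the field with two elements packed in one number
-/

set_option autoImplicit false

namespace CfsgLib.ReeF4.Sq2

open CfsgLib.ReeF4.Two (act)
open CfsgLib.ReeF4.Mult (forceN forceN_eq symRow actR_eq actS wordEq wG wG_eq beq_land_eq_testBit)

/-- Rows of width 52 in one number. -/
def pack : List ℕ → ℕ
  | [] => 0
  | r :: l => r + 2 ^ 52 * pack l

/-- A one at the start of every lane. -/
def ones : ℕ := pack (List.replicate 52 1)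

/-- The identity matrix, packed. -/
def idM : ℕ := pack ((List.range 52).map (2 ^ ·))

/-- A table acting on all lanes at once. -/
noncomputable def actP (o : ℕ) (L : List (ℕ × ℕ)) (M : ℕ) : ℕ :=
  forceN M fun M =>
    List.rec (motive := fun _ => ℕ) M
      (fun p _ r => Nat.xor r (Nat.mul (Nat.land o (Nat.shiftRight M p.1)) p.2)) L

/-- A word acting on all lanes at once. -/
noncomputable def actW (o : ℕ) : List ℕ → ℕ → ℕ
  | [], M => M
  | s :: w, M => forceN (actP o (symRow s) M) (actW o w)

/-- Two words give one element. -/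
noncomputable def wEq (u v : List ℕ) : Bool :=
  forceN ones fun o => forceN idM fun i => Nat.beq (actW o u i) (actW o v i)

theorem xor_lane {a b : ℕ} (A B : ℕ) (ha : a < 2 ^ 52) (hb : b < 2 ^ 52) :
    (a + 2 ^ 52 * A) ^^^ (b + 2 ^ 52 * B) = (a ^^^ b) + 2 ^ 52 * (A ^^^ B) := by
  rw [add_comm a, add_comm b, add_comm (a ^^^ b)]
  refine Nat.eq_of_testBit_eq fun i => ?_
  rw [Nat.testBit_xor, Nat.testBit_two_pow_mul_add A ha, Nat.testBit_two_pow_mul_add B hb,
    Nat.testBit_two_pow_mul_add _ (Nat.xor_lt_two_pow ha hb)]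
  split_ifs <;> simp

theorem pick_lane {r p : ℕ} (P O : ℕ) (hr : r < 2 ^ 52) (hp : p < 52) :
    Nat.land (1 + 2 ^ 52 * O) (Nat.shiftRight (r + 2 ^ 52 * P) p) =
      (bif r.testBit p then 1 else 0) + 2 ^ 52 * Nat.land O (Nat.shiftRight P p) := by
  show (1 + 2 ^ 52 * O) &&& ((r + 2 ^ 52 * P) >>> p) = _ + 2 ^ 52 * (O &&& (P >>> p))
  have hb : (bif r.testBit p then 1 else 0 : ℕ) < 2 ^ 52 := by cases r.testBit p <;> simp
  rw [add_comm (1 : ℕ), add_comm r, add_comm _ (2 ^ 52 * (O &&& _))]
  refine Nat.eq_of_testBit_eq fun i => ?_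
  rw [Nat.testBit_and, Nat.testBit_shiftRight, Nat.testBit_two_pow_mul_add O (by norm_num : 1 < 2 ^ 52),
    Nat.testBit_two_pow_mul_add _ hb]
  by_cases hi : i < 52
  · rw [if_pos hi, if_pos hi]
    rcases eq_or_ne i 0 with rfl | h0
    · rw [Nat.add_zero, Nat.testBit_two_pow_mul_add P hr, if_pos hp]
      cases r.testBit p <;> simp
    · have h1 : Nat.testBit 1 i = false := by
        rw [← pow_zero 2, Nat.testBit_two_pow]; simp; omega
      cases r.testBit p <;> simp [h1]
  · rw [if_neg hi, if_neg hi, Nat.testBit_two_pow_mul_add P hr, if_neg (by omega), Nat.testBit_and,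
      Nat.testBit_shiftRight, show p + i - 52 = p + (i - 52) by omega]

theorem pack_xor (f g : ℕ → ℕ) : ∀ R : List ℕ, (∀ r ∈ R, f r < 2 ^ 52 ∧ g r < 2 ^ 52) →
    Nat.xor (pack (R.map f)) (pack (R.map g)) = pack (R.map fun r => f r ^^^ g r) := by
  intro R
  induction R with
  | nil => intro; exact Nat.xor_self 0
  | cons r R ih =>
    intro h
    simp only [List.map_cons, pack]
    show (f r + _) ^^^ (g r + _) = _
    rw [xor_lane _ _ (h r List.mem_cons_self).1 (h r List.mem_cons_self).2]
    exact congrArg (fun x => _ + 2 ^ 52 * x) (ih fun x hx => h x (List.mem_cons_of_mem _ hx))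

theorem spread_eq {p q : ℕ} (hp : p < 52) : ∀ R : List ℕ, (∀ r ∈ R, r < 2 ^ 52) →
    Nat.mul (Nat.land (pack (List.replicate R.length 1)) (Nat.shiftRight (pack R) p)) q =
      pack (R.map fun r => bif r.testBit p then q else 0) := by
  intro R
  induction R with
  | nil => intro; simp [pack]
  | cons r R ih =>
    intro h
    simp only [List.length_cons, List.replicate_succ, List.map_cons, pack]
    rw [pick_lane _ _ (h r List.mem_cons_self) hp]
    show (_ + 2 ^ 52 * _) * q = _
    rw [← ih fun x hx => h x (List.mem_cons_of_mem _ hx)]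
    show _ = _ + 2 ^ 52 * (_ * q)
    cases r.testBit p <;> simp [add_mul, mul_assoc]

/-- The bounds on a table. -/
def tblOK (L : List (ℕ × ℕ)) : Bool := L.all fun p => decide (p.1 < 52) && decide (p.2 < 2 ^ 52)

theorem act_lt {L : List (ℕ × ℕ)} (hL : tblOK L = true) {v : ℕ} (hv : v < 2 ^ 52) :
    act L v < 2 ^ 52 := by
  induction L with
  | nil => exact hv
  | cons p L ih =>
    simp only [tblOK, List.all_cons, Bool.and_eq_true, decide_eq_true_eq] at hL
    rw [act]
    cases v.testBit p.1
    · exact ih hL.2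
    · exact Nat.xor_lt_two_pow (ih hL.2) hL.1.2

theorem actP_eq {L : List (ℕ × ℕ)} (hL : tblOK L = true) (R : List ℕ) (hR : ∀ r ∈ R, r < 2 ^ 52) :
    actP (pack (List.replicate R.length 1)) L (pack R) = pack (R.map (act L)) := by
  rw [actP, forceN_eq]
  induction L with
  | nil => simp [act]
  | cons p L ih =>
    simp only [tblOK, List.all_cons, Bool.and_eq_true, decide_eq_true_eq] at hL
    show Nat.xor (List.rec (motive := fun _ => ℕ) (pack R) _ L) _ = _
    rw [ih hL.2, spread_eq hL.1.1 R hR, pack_xor]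
    · refine congrArg pack (List.map_congr_left fun r _ => ?_)
      rw [act]
      cases r.testBit p.1 <;> simp
    · intro r hr
      refine ⟨act_lt hL.2 (hR r hr), ?_⟩
      cases r.testBit p.1
      · exact Nat.two_pow_pos 52
      · exact hL.1.2

theorem tables_ok : (List.range 14).all (fun s => tblOK (symRow s)) = true := by decide +kernel

theorem symRow_ok (s : ℕ) : tblOK (symRow s) = true := by
  have h := fun i hi => List.all_eq_true.1 tables_ok i (List.mem_range.2 hi)
  rcases Nat.lt_or_ge s 14 with hs | hs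
  · exact h s hs
  · have h13 := h 13 (by norm_num)
    have e : symRow s = symRow 13 := by
      rw [symRow, symRow, dif_neg (by omega), dif_neg (by norm_num),
        show (s != 12) = true from by simpa using (show s ≠ 12 by omega)]
      rfl
    rw [e]; exact h13

theorem actS_lt : ∀ (w : List ℕ) {v : ℕ}, v < 2 ^ 52 → actS w v < 2 ^ 52
  | [], _, hv => hv
  | s :: w, _, hv => by
    rw [actS, forceN_eq, actR_eq]
    exact actS_lt w (act_lt (symRow_ok s) hv)

theorem actW_eq : ∀ (w : List ℕ) (R : List ℕ), (∀ r ∈ R, r < 2 ^ 52) →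
    actW (pack (List.replicate R.length 1)) w (pack R) = pack (R.map (actS w))
  | [], R, _ => by
    show pack R = pack (R.map fun v => v)
    rw [List.map_id']
  | s :: w, R, hR => by
    rw [actW, forceN_eq, actP_eq (symRow_ok s) R hR]
    have h := actW_eq w (R.map (act (symRow s))) fun r hr => by
      obtain ⟨r', hr', rfl⟩ := List.mem_map.1 hr
      exact act_lt (symRow_ok s) (hR r' hr')
    rw [List.length_map, List.map_map] at h
    rw [h]
    refine congrArg pack (List.map_congr_left fun r _ => ?_)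
    rw [actS, forceN_eq, actR_eq]
    rfl

theorem pack_inj (f g : ℕ → ℕ) : ∀ R : List ℕ, (∀ r ∈ R, f r < 2 ^ 52 ∧ g r < 2 ^ 52) →
    pack (R.map f) = pack (R.map g) → ∀ r ∈ R, f r = g r := by
  intro R
  induction R with
  | nil => simp
  | cons a R ih =>
    intro h e r hr
    simp only [List.map_cons, pack] at e
    obtain ⟨h1, h2⟩ := h a List.mem_cons_self
    have e1 : f a = g a := by
      have := congrArg (fun x => x % 2 ^ 52) e
      simp only [Nat.add_mul_mod_self_left] at this
      rwa [Nat.mod_eq_of_lt h1, Nat.mod_eq_of_lt h2] at this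
    rcases List.mem_cons.1 hr with rfl | hr
    · exact e1
    · refine ih (fun x hx => h x (List.mem_cons_of_mem _ hx)) ?_ r hr
      exact Nat.eq_of_mul_eq_mul_left (by norm_num : 0 < 2 ^ 52) (Nat.add_left_cancel (e1 ▸ e))

theorem wEq_sound {u v : List ℕ} (h : wEq u v = true) : wG u = wG v := by
  refine wG_eq ?_
  rw [wEq, forceN_eq, forceN_eq] at h
  have hR : ∀ r ∈ (List.range 52).map (2 ^ ·), r < 2 ^ 52 := by
    intro r hr
    obtain ⟨a, ha, rfl⟩ := List.mem_map.1 hr
    exact Nat.pow_lt_pow_right (by norm_num) (List.mem_range.1 ha)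
  have e := Nat.eq_of_beq_eq_true h
  have hlen : ((List.range 52).map (2 ^ ·)).length = 52 := by simp
  have hu := actW_eq u _ hR
  have hv := actW_eq v _ hR
  rw [hlen] at hu hv
  rw [ones, idM, hu, hv] at e
  have := pack_inj _ _ _ (fun r hr => ⟨actS_lt u (hR r hr), actS_lt v (hR r hr)⟩) e
  simp only [wordEq, List.all_eq_true, List.mem_range]
  intro a ha
  rw [this _ (List.mem_map.2 ⟨a, List.mem_range.2 ha, rfl⟩)]
  exact Nat.beq_refl _

end CfsgLib.ReeF4.Sq2
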