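import Cfsg.Agent.ReeF4.BN

/-!
# Auxiliary facts for products of two classes in ²F₄

The negative side, the rows of the monomial elements, the normalisation of the unipotent radicals by
the rank one subgroups and the triangular form of the diagonal entries of products.
-/

set_option autoImplicit false

namespace CfsgLib.ReeF4

open Cfsg.Lie CfsgLib.Chevalley
open scoped MatrixGroups

variable {K : Type*} [Field K]

/-- The roots of an orbit of nodes and their negatives. -/
def clsPM (j : Bool) (r : Root D) : Bool := clsS j r || clsS j r.rev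

/-- The negatives of the roots off an orbit of nodes. -/
def complN (j : Bool) (r : Root D) : Bool := complS j r.rev

/-- The negatives of the roots of an orbit of nodes. -/
def clsN (j : Bool) (r : Root D) : Bool := clsS j r.rev

/-- Commutators of the roots of `P` with those of `S` lie in `S`. -/
def chkComm2 (P S : Root D → Bool) : Bool :=
  (List.finRange D.nroots).all fun r => !P r || (List.finRange D.nroots).all fun s => !S s ||
    (decide (s ≠ r) && decide (s ≠ r.rev) &&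
      (D.commTerms r s).all fun c => decide (c.1 < D.nroots) && S (rt c.1))

theorem chkComm2_ok : ∀ j : Bool, chkComm2 (clsPM j) (complS j) = true ∧
    chkComm2 (clsPM j) (complN j) = true := by
  decide +kernel

theorem conj_rootGen_of_chk {P S : Root D → Bool} (h : chkComm2 P S = true) {g z : GL D.Idx K}
    (hg : g ∈ rootGen hW.good K {r | P r = true}) (hz : z ∈ rootGen hW.good K {r | S r = true}) :
    g * z * g⁻¹ ∈ rootGen hW.good K {r | S r = true} := by
  have key : ∀ r, P r = true → ∀ u : K, ∀ z ∈ rootGen hW.good K {r | S r = true},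
      x K r u * z * (x K r u)⁻¹ ∈ rootGen hW.good K {r | S r = true} := by
    intro r hr u z hz
    refine (rootGen_le hW.good (K := (rootGen hW.good K {r | S r = true}).comap
      (MulAut.conj (x K r u)).toMonoidHom) fun s hs t => ?_) hz
    show x K r u * x K s t * (x K r u)⁻¹ ∈ rootGen hW.good K {r | S r = true}
    simp only [chkComm2, List.all_eq_true, Bool.or_eq_true, Bool.not_eq_true', Bool.and_eq_true,
      decide_eq_true_eq] at h
    obtain ⟨⟨h1, h2⟩, h3⟩ := ((h r (List.mem_finRange r)).resolve_left (by simp [hr]) s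
      (List.mem_finRange s)).resolve_left (by simp only [Set.mem_ofPred_eq] at hs; simp [hs])
    have e := X_comm hW.toGoodComm r s h1 h2 (-u) t
    have e2 : x K r u * x K s t * (x K r u)⁻¹ = x K s t * commRhs hW.good r s (-u) t := by
      have hi : (x K r u)⁻¹ = X hW.good r (-u) := X_inv _ _ _
      rw [hi, mul_assoc, show x K s t = X hW.good s t from rfl, e, ← hi]
      group
    rw [e2]
    refine mul_mem (X_mem_rootGen _ hs _) (Subgroup.list_prod_mem _ fun y hy => ?_)
    simp only [List.map_map, List.mem_map, Function.comp_apply] at hy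
    obtain ⟨c, hc, rfl⟩ := hy
    obtain ⟨h4, h5⟩ := h3 c hc
    rw [dif_pos h4]
    rw [rt, dif_pos h4] at h5
    exact X_mem_rootGen _ (S := {r | S r = true}) h5 _
  suffices H : (∀ z ∈ rootGen hW.good K {r | S r = true},
      g * z * g⁻¹ ∈ rootGen hW.good K {r | S r = true}) ∧
      ∀ z ∈ rootGen hW.good K {r | S r = true},
        g⁻¹ * z * g⁻¹⁻¹ ∈ rootGen hW.good K {r | S r = true} from H.1 z hz
  clear hz z
  induction hg using Subgroup.closure_induction with
  | mem y hy =>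
    obtain ⟨r, hr, t, rfl⟩ := hy
    exact ⟨key r hr t, by rw [X_inv]; exact key r hr (-t)⟩
  | one => simp
  | mul a b _ _ iha ihb =>
    refine ⟨fun z hz => ?_, fun z hz => ?_⟩
    · rw [show a * b * z * (a * b)⁻¹ = a * (b * z * b⁻¹) * a⁻¹ by group]
      exact iha.1 _ (ihb.1 z hz)
    · rw [show (a * b)⁻¹ * z * (a * b)⁻¹⁻¹ = b⁻¹ * (a⁻¹ * z * a⁻¹⁻¹) * b⁻¹⁻¹ by group]
      exact ihb.2 _ (iha.2 z hz)
  | inv a _ iha => exact ⟨iha.2, by rw [inv_inv]; exact iha.1⟩

/-! ### Rows -/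

theorem X_row_unit (r : Root D) (k : Root D) (hk : k ≠ r)
    (hc : ∀ s : Root D, ((D.chainEntry r s).all fun q => decide (q.1 ≠ (k : ℕ))) = true) (t : K)
    (a : D.Idx) :
    ((x K r t : GL D.Idx K) : Matrix D.Idx D.Idx K) (Sum.inr k) a =
      (1 : Matrix D.Idx D.Idx K) (Sum.inr k) a := by
  have hv : ∀ j (s : Root D), chainVal D r s j k = 0 := by
    intro j s
    rw [chainVal]
    cases hq : (D.chainEntry r s)[j]? with
    | none => rfl
    | some q =>
      have := List.all_eq_true.1 (hc s) q (List.mem_of_getElem? hq)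
      simp only [decide_eq_true_eq] at this
      simp [this]
  have e : ((x K r t : GL D.Idx K) : Matrix D.Idx D.Idx K) = xR D K r t := rfl
  rw [e]
  simp only [xR, Matrix.sum_apply, Finset.sum_range_succ, Finset.sum_range_zero, zero_add,
    Matrix.smul_apply, Matrix.map_apply, smul_eq_mul, E_zero, E_apply_one hW.good,
    E_apply_two hW.good, E_apply_three hW.good, pow_zero, one_mul]
  rcases a with i | s <;> simp [hk, hv, Matrix.one_apply]

theorem rootGen_row_unit {S : Set (Root D)} (k : Root D)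
    (hS : ∀ r ∈ S, k ≠ r ∧
      ∀ s : Root D, ((D.chainEntry r s).all fun q => decide (q.1 ≠ (k : ℕ))) = true)
    {g : GL D.Idx K} (hg : g ∈ rootGen hW.good K S) (a : D.Idx) :
    (g : Matrix D.Idx D.Idx K) (Sum.inr k) a = (1 : Matrix D.Idx D.Idx K) (Sum.inr k) a := by
  suffices H : (∀ a, (g : Matrix D.Idx D.Idx K) (Sum.inr k) a =
      (1 : Matrix D.Idx D.Idx K) (Sum.inr k) a) ∧
      ∀ a, ((g⁻¹ : GL D.Idx K) : Matrix D.Idx D.Idx K) (Sum.inr k) a =
      (1 : Matrix D.Idx D.Idx K) (Sum.inr k) a from H.1 a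
  clear a
  induction hg using Subgroup.closure_induction with
  | mem y hy =>
    obtain ⟨r, hr, t, rfl⟩ := hy
    refine ⟨X_row_unit r k (hS r hr).1 (hS r hr).2 t, ?_⟩
    rw [X_inv]
    exact X_row_unit r k (hS r hr).1 (hS r hr).2 (-t)
  | one => simp
  | mul p q _ _ ihp ihq =>
    have hm : ∀ p q : GL D.Idx K, (∀ a, (p : Matrix D.Idx D.Idx K) (Sum.inr k) a =
        (1 : Matrix D.Idx D.Idx K) (Sum.inr k) a) → (∀ a, (q : Matrix D.Idx D.Idx K) (Sum.inr k) a =
        (1 : Matrix D.Idx D.Idx K) (Sum.inr k) a) → ∀ a, ((p * q : GL D.Idx K) :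
        Matrix D.Idx D.Idx K) (Sum.inr k) a = (1 : Matrix D.Idx D.Idx K) (Sum.inr k) a := by
      intro p q hp hq a
      rw [Units.val_mul, Matrix.mul_apply, Finset.sum_congr rfl fun x _ => by rw [hp x]]
      simp [Matrix.one_apply, hq a]
    exact ⟨hm p q ihp.1 ihq.1, by rw [mul_inv_rev]; exact hm _ _ ihq.2 ihp.2⟩
  | inv p _ ihp => exact ⟨ihp.2, by rw [inv_inv]; exact ihp.1⟩

/-- The vector of a root. -/
def ev (K : Type*) [Field K] (k : ℕ) : D.Idx → K := Pi.single (Sum.inr (rt k)) 1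

/-- The image of a root vector under a root element. -/
theorem x_mulVec_ev (r s : ℕ) (cs : List (ℕ × ℤ))
    (h : D.chainEntry (rt r) (rt s) = cs ∧ rt s ≠ (rt r).rev ∧ (cs.all fun q => decide (q.1 < 48)) = true)
    (t : K) :
    ((x K (rt r) t : GL D.Idx K) : Matrix D.Idx D.Idx K).mulVec (ev K s) =
      ev K s + (cs.zipIdx.map fun q => (t ^ (q.2 + 1) * (q.1.2 : K)) • ev K q.1.1).sum := by
  obtain ⟨hcs, hne, hlt⟩ := h
  rw [show ((x K (rt r) t : GL D.Idx K) : Matrix D.Idx D.Idx K) = xR D K (rt r) t from rfl, ev,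
    hW.good.xR_col (rt r) (rt s) hne t, hcs]
  congr 2
  refine List.map_congr_left fun q hq => ?_
  have h1 := List.all_eq_true.1 hlt q.1 (List.fst_mem_of_mem_zipIdx hq)
  simp only [decide_eq_true_eq] at h1
  have h48 : D.nroots = 48 := by decide +kernel
  funext a
  rcases a with i | v
  · simp [ev]
  · have : (v : ℕ) = q.1.1 ↔ v = rt q.1.1 := by
      rw [rt, dif_pos (h48 ▸ h1), Fin.ext_iff]
    have e : ((rt q.1.1 : Root D) : ℕ) = q.1.1 := by rw [rt, dif_pos (h48 ▸ h1)]
    by_cases hv : v = rt q.1.1 <;> simp [ev, Pi.single_apply, this, hv, e]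

variable [CharP K 2]

/-- `g` permutes the rows of the root vectors by `π`. -/
def RowP (g : GL D.Idx K) (π : Equiv.Perm (Root D)) : Prop :=
  ∀ (M : Matrix D.Idx D.Idx K) (r : Root D) (c : D.Idx),
    ((g : Matrix D.Idx D.Idx K) * M) (Sum.inr r) c = M (Sum.inr (π r)) c

omit [CharP K 2] in
theorem RowP.mul {g h : GL D.Idx K} {π ρ : Equiv.Perm (Root D)} (hg : RowP g π) (hh : RowP h ρ) :
    RowP (g * h) (ρ * π) := fun M r c => by
  rw [Units.val_mul, Matrix.mul_assoc, hg, hh]
  rfl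

omit [CharP K 2] in
theorem RowP.inv {g : GL D.Idx K} {π : Equiv.Perm (Root D)} (hg : RowP g π) :
    RowP g⁻¹ π⁻¹ := fun M r c => by
  have h := hg (((g⁻¹ : GL D.Idx K) : Matrix D.Idx D.Idx K) * M) (π⁻¹ r) c
  rw [← Matrix.mul_assoc, ← Units.val_mul, mul_inv_cancel, Units.val_one, one_mul,
    show π (π⁻¹ r) = r from π.apply_symm_apply r] at h
  exact h.symm

theorem rowP_nR (i : Fin D.rank) : RowP (nR hW i : GL D.Idx K) (wPerm hW i) := fun M r c => by
  rw [Matrix.mul_apply, Finset.sum_eq_single (Sum.inr (wPerm hW i r) : D.Idx)]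
  · have h1 : (eta D i (wPerm hW i r) : K) = 1 := by
      rcases mul_self_eq_one_iff.1 (hW.eta_sq i (wPerm hW i r)) with h | h <;>
        simp [h, CharTwo.neg_eq]
    simp [nR_apply hW, hW.wPerm_wPerm, h1]
  · intro a _ ha
    rcases a with j | s
    · simp [nR_apply hW]
    · have : r ≠ wPerm hW i s := fun e => ha (by rw [e, hW.wPerm_wPerm])
      simp [nR_apply hW, this]
  · simp

theorem rowP_nJ_inv (j : Bool) : RowP (nJ K j)⁻¹ (dP (dJ j)) := by
  have hi : ∀ i : Fin D.rank, (wPerm hW i)⁻¹ = wPerm hW i := fun i =>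
    inv_eq_of_mul_eq_one_right (Equiv.ext fun r => hW.wPerm_wPerm i r)
  cases j
  · have := (((rowP_nR (K := K) (nd 0)).mul (rowP_nR (nd 3)))).inv
    simp only [mul_inv_rev, hi] at this
    rw [← dP_J0]
    exact this
  · have := ((((rowP_nR (K := K) (nd 1)).mul (rowP_nR (nd 2))).mul (rowP_nR (nd 1))).mul
      (rowP_nR (nd 2))).inv
    simp only [mul_inv_rev, hi] at this
    rw [← dP_J1]
    exact this

/-! ### The negative side -/

/-- The longest element. -/
abbrev n4 (K : Type*) [Field K] : GL D.Idx K := nD K (.r 4)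

theorem dp_four : ∀ r : Root D, dp (.r 4) r = r.rev := by decide +kernel

theorem mon_n4_inv : Mon ((n4 K)⁻¹) (dP (.r 4)) := by
  have h := (mon_nD (K := K) (.r 4)).inv
  rwa [← map_inv, show ((DihedralGroup.r 4 : DihedralGroup 8))⁻¹ = .r 4 by decide] at h

omit [CharP K 2] in
theorem conj_set {n : GL D.Idx K} {π : Equiv.Perm (Root D)} (hn : MonBy hW n π)
    {S P : Root D → Bool} (h : ∀ r, S r = true → P (π r) = true) {g : GL D.Idx K}
    (hg : g ∈ rootGen hW.good K {r | S r = true}) :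
    n * g * n⁻¹ ∈ rootGen hW.good K {r | P r = true} :=
  hn.conj_rootGen (fun r hr => h r hr) hg

omit [CharP K 2] in
theorem uS_zero_eq (S : Root D → Bool) : uS K S 0 = rootGen hW.good K {r | S r = true} := by
  rw [uS, sTail_zero]

omit [CharP K 2] in
theorem pos_eq_gen : D.posUnipotent K = rootGen hW.good K {r | allS r = true} := by
  rw [pos_eq_uS, uS_zero_eq]

omit [CharP K 2] in
theorem neg_eq_gen : D.negUnipotent K = rootGen hW.good K {r | allS r.rev = true} := by
  rw [negUnipotent_eq_rootGen hW.good]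
  congr 1
  ext r
  simp only [negSet, allS, Set.mem_ofPred_eq, isPos_iff, Fin.val_rev]
  have := hW.good.two_half
  have := r.isLt
  omega

variable (T : Tw K)

/-- The fixed part of the opposite unipotent group. -/
def Tw.V1 : Subgroup (GL D.Idx K) := D.negUnipotent K ⊓ T.fix

/-- The fixed points in the radical of a maximal parabolic subgroup. -/
abbrev Tw.UP (j : Bool) : Subgroup (GL D.Idx K) := T.uF (complS j) 0

/-- The fixed points in the root group of an orbit of nodes. -/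
abbrev Tw.Xp (j : Bool) : Subgroup (GL D.Idx K) := T.uF (clsS j) 0

/-- The fixed points in the opposite root group of an orbit of nodes. -/
def Tw.Xm (j : Bool) : Subgroup (GL D.Idx K) :=
  rootGen hW.good K {r | clsN j r = true} ⊓ T.fix

/-- The fixed points of the subgroup of an orbit of nodes. -/
def Tw.Lv (j : Bool) : Subgroup (GL D.Idx K) :=
  rootGen hW.good K {r | clsPM j r = true} ⊓ T.fix

theorem clsN_sub : ∀ (j : Bool) (r : Root D), (clsN j r = true → allS r.rev = true) ∧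
    (clsS j r = true → allS r = true) ∧ (complN j r = true → allS r.rev = true) ∧
    (complS j r = true → allS r = true) := by
  decide +kernel

theorem Tw.Xm_le_V1 (j : Bool) : T.Xm j ≤ T.V1 := by
  refine inf_le_inf_right _ ?_
  rw [neg_eq_gen]
  exact rootGen_mono _ fun r hr => (clsN_sub j r).1 hr

theorem Tw.Xm_le_Lv (j : Bool) : T.Xm j ≤ T.Lv j := by
  refine inf_le_inf_right _ (rootGen_mono _ fun r hr => ?_)
  simp only [clsN, Set.mem_ofPred_eq] at hr
  simp [clsPM, hr]

theorem Tw.Xp_le_Lv (j : Bool) : T.Xp j ≤ T.Lv j := by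
  refine inf_le_inf_right _ ?_
  rw [uS_zero_eq]
  exact rootGen_mono _ fun r hr => by simp only [Set.mem_ofPred_eq] at hr; simp [clsPM, hr]

theorem Tw.mem_UP {j : Bool} {g : GL D.Idx K} :
    g ∈ T.UP j ↔ g ∈ rootGen hW.good K {r | complS j r = true} ∧ g ∈ T.fix := by
  rw [Tw.UP, Tw.uF, Subgroup.mem_inf, uS_zero_eq]

/-- The rank one subgroup normalises the radical. -/
theorem Tw.conj_UP {j : Bool} {d u : GL D.Idx K} (hd : d ∈ T.Lv j) (hu : u ∈ T.UP j) :
    d * u * d⁻¹ ∈ T.UP j := by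
  obtain ⟨d1, d2⟩ := Subgroup.mem_inf.1 hd
  obtain ⟨u1, u2⟩ := T.mem_UP.1 hu
  exact T.mem_UP.2 ⟨conj_rootGen_of_chk (chkComm2_ok j).1 d1 u1,
    mul_mem (mul_mem d2 u2) (inv_mem d2)⟩

theorem Tw.conj_V1 {h v : GL D.Idx K} (hh : h ∈ T.H1) (hv : v ∈ T.V1) :
    h * v * h⁻¹ ∈ T.V1 := by
  obtain ⟨h1, h2⟩ := Subgroup.mem_inf.1 hh
  obtain ⟨v1, v2⟩ := Subgroup.mem_inf.1 hv
  exact Subgroup.mem_inf.2 ⟨(Subgroup.mem_normalizer_iff.1 (diag_le_normalizer_neg hW h1) v).1 v1,
    mul_mem (mul_mem h2 v2) (inv_mem h2)⟩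

theorem Tw.n4_fix : n4 K ∈ T.fix := T.nD_fix _

theorem Tw.n4_conj_U1 {u : GL D.Idx K} (hu : u ∈ T.U1) : n4 K * u * (n4 K)⁻¹ ∈ T.V1 := by
  obtain ⟨u1, u2⟩ := Subgroup.mem_inf.1 hu
  refine Subgroup.mem_inf.2 ⟨?_, mul_mem (mul_mem T.n4_fix u2) (inv_mem T.n4_fix)⟩
  rw [pos_eq_gen] at u1
  rw [neg_eq_gen]
  exact conj_set (monBy_nD _) (P := fun r => allS r.rev) (fun r hr => by
    show allS (dP (DihedralGroup.r 4) r).rev = true
    rw [dP_apply, dp_four, Fin.rev_rev]; exact hr) u1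

theorem Tw.n4_conj_V1 {v : GL D.Idx K} (hv : v ∈ T.V1) : n4 K * v * (n4 K)⁻¹ ∈ T.U1 := by
  obtain ⟨v1, v2⟩ := Subgroup.mem_inf.1 hv
  refine Subgroup.mem_inf.2 ⟨?_, mul_mem (mul_mem T.n4_fix v2) (inv_mem T.n4_fix)⟩
  rw [neg_eq_gen] at v1
  rw [pos_eq_gen]
  exact conj_set (monBy_nD _) (P := allS) (fun r hr => by
    show allS (dP (DihedralGroup.r 4) r) = true
    rw [dP_apply, dp_four]; exact hr) v1

theorem Tw.n4_inv_conj_U1 {u : GL D.Idx K} (hu : u ∈ T.U1) : (n4 K)⁻¹ * u * n4 K ∈ T.V1 := by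
  obtain ⟨u1, u2⟩ := Subgroup.mem_inf.1 hu
  refine Subgroup.mem_inf.2 ⟨?_, mul_mem (mul_mem (inv_mem T.n4_fix) u2) T.n4_fix⟩
  rw [pos_eq_gen] at u1
  rw [neg_eq_gen]
  have := conj_set mon_n4_inv.monBy (P := fun r => allS r.rev) (fun r hr => by
    show allS (dP (DihedralGroup.r 4) r).rev = true
    rw [dP_apply, dp_four, Fin.rev_rev]; exact hr) u1
  rwa [inv_inv] at this

theorem apart4 : (rt 33).rev = rt 14 ∧ (rt 27).rev = rt 20 ∧ (rt 25).rev = rt 22 ∧
    (rt 24).rev = rt 23 := by decide +kernel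

omit [CharP K 2] in
theorem hT_rev (r : Root D) (a : Kˣ) : hT K r.rev a = (hT K r a)⁻¹ := by
  rw [hT_inv, hT_eq_torC, hT_eq_torC]
  congr 1
  funext k
  rw [hW.good.coroot_rev, zpow_neg, ← inv_zpow]

theorem Tw.n4_conj_H1 {h : GL D.Idx K} (hh : h ∈ T.H1) : n4 K * h * (n4 K)⁻¹ = h⁻¹ := by
  have hd := (Subgroup.mem_inf.1 hh).1
  rw [diagonalSubgroup_eq hW] at hd
  suffices H : ∀ h ∈ D.diagonalSubgroup K, n4 K * h * (n4 K)⁻¹ = h⁻¹ from
    H h (Subgroup.mem_inf.1 hh).1
  intro h hh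
  rw [diagonalSubgroup_eq_range hW] at hh
  obtain ⟨c, rfl⟩ := hh
  have hrev : ∀ r, dP (DihedralGroup.r 4 : DihedralGroup 8) r.rev =
      (dP (DihedralGroup.r 4) r).rev := fun r => dp_rev _ r
  have e : ∀ r a, n4 K * hT K r a * (n4 K)⁻¹ = (hT K r a)⁻¹ := fun r a => by
    rw [Mon.conj_hT (mon_nD _) hrev, dP_apply, dp_four, hT_rev]
  show n4 K * torC D c * (n4 K)⁻¹ = (torC D c)⁻¹
  rw [torC_eq, show ∀ p q r s : GL D.Idx K, n4 K * (p * (q * (r * s))) * (n4 K)⁻¹ =
    n4 K * p * (n4 K)⁻¹ * ((n4 K * q * (n4 K)⁻¹) * ((n4 K * r * (n4 K)⁻¹) *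
      (n4 K * s * (n4 K)⁻¹))) from fun p q r s => by group, e, e, e, e, hT_inv, hT_inv, hT_inv,
    hT_inv, ← torC_eq (c := fun k => (c k)⁻¹), ← torC_eq c]
  exact map_inv (torHom D K) c

end CfsgLib.ReeF4
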