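import Cfsg.Agent.ReeF4Square.EightRep

/-!
# A class whose square covers ²F₄(8)

`x = z s` with `z` in the centre of the Levi subgroup of the second orbit and `s` of order `5` in its Sz(8)
part; `z⁵` centralises no element of the radical but `1`, and the class of `s` squares onto Sz(8) by the
certificate.
-/

set_option autoImplicit false
set_option maxHeartbeats 1000000

namespace CfsgLib.ReeF4

open Cfsg.Lie CfsgLib.Chevalley CfsgLib.ReeF4.Eight
open scoped MatrixGroups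

variable {K : Type*} [Field K] [CharP K 2]

/-- A bit as a field element. -/
def bitK (K : Type*) [Field K] (b : Bool) : K := if b then 1 else 0

theorem bitK_xor (a b : Bool) : bitK K (Bool.xor a b) = bitK K a + bitK K b := by
  cases a <;> cases b <;> simp [bitK, CharTwo.add_self_eq_zero]

omit [CharP K 2] in
theorem bitK_and (a b : Bool) : bitK K (a && b) = bitK K a * bitK K b := by
  cases a <;> cases b <;> simp [bitK]

/-- The element of a code at a root `g` of `g³ + g + 1`. -/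
def code8 (g : K) (n : ℕ) : K :=
  bitK K (n.testBit 0) + bitK K (n.testBit 1) * g + bitK K (n.testBit 2) * g ^ 2

theorem code8_xor (g : K) (a b : ℕ) : code8 g (a ^^^ b) = code8 g a + code8 g b := by
  simp only [code8, Nat.testBit_xor, bitK_xor]
  ring

omit [CharP K 2] in
theorem code8_mod (g : K) (n : ℕ) : code8 g (n % 8) = code8 g n := by
  rw [code8, code8, show (8 : ℕ) = 2 ^ 3 from rfl, Nat.testBit_mod_two_pow,
    Nat.testBit_mod_two_pow, Nat.testBit_mod_two_pow]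
  simp

theorem fmul_bits : ∀ a < 8, ∀ b < 8,
    (fmul a b).testBit 0 = Bool.xor (Bool.xor (a.testBit 0 && b.testBit 0)
      (a.testBit 1 && b.testBit 2)) (a.testBit 2 && b.testBit 1) ∧
    (fmul a b).testBit 1 = Bool.xor (Bool.xor (Bool.xor (Bool.xor (a.testBit 0 && b.testBit 1)
      (a.testBit 1 && b.testBit 0)) (a.testBit 1 && b.testBit 2)) (a.testBit 2 && b.testBit 1))
      (a.testBit 2 && b.testBit 2) ∧
    (fmul a b).testBit 2 = Bool.xor (Bool.xor (Bool.xor (a.testBit 0 && b.testBit 2)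
      (a.testBit 1 && b.testBit 1)) (a.testBit 2 && b.testBit 0)) (a.testBit 2 && b.testBit 2) := by
  decide +kernel

theorem code8_fmul {g : K} (hg : g ^ 3 = g + 1) (a b : ℕ) :
    code8 g (fmul a b) = code8 g a * code8 g b := by
  suffices H : ∀ a < 8, ∀ b < 8, code8 g (fmul a b) = code8 g a * code8 g b by
    rw [← code8_mod g a, ← code8_mod g b, ← H _ (Nat.mod_lt a (by norm_num)) _
      (Nat.mod_lt b (by norm_num))]
    simp [fmul, Nat.mod_mod]
  intro a ha b hb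
  obtain ⟨h0, h1, h2⟩ := fmul_bits a ha b hb
  simp only [code8, h0, h1, h2, bitK_xor, bitK_and]
  linear_combination (-(bitK K (a.testBit 1) * bitK K (b.testBit 2) +
    bitK K (a.testBit 2) * bitK K (b.testBit 1) + bitK K (a.testBit 2) * bitK K (b.testBit 2) * g)) * hg

theorem fmul_inv : ∀ a < 8, a = 0 ∨ ∃ b < 8, fmul a b = 1 := by decide +kernel

theorem code8_surjective [Finite K] (hK : Nat.card K = 8) {g : K} (hg : g ^ 3 = g + 1) (x : K) :
    ∃ n < 8, code8 g n = x := by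
  have h0 : code8 g 0 = 0 := by simp [code8, bitK]
  have h1 : code8 g 1 = 1 := by simp [code8, bitK, show (1 : ℕ).testBit 1 = false from rfl,
      show (1 : ℕ).testBit 2 = false from rfl]
  have hinj : Function.Injective fun n : Fin 8 => code8 g n := by
    intro a b h
    have hx : code8 g ((a : ℕ) ^^^ b) = 0 := by
      rw [code8_xor, show code8 g (a : ℕ) = code8 g (b : ℕ) from h, CharTwo.add_self_eq_zero]
    have hlt : (a : ℕ) ^^^ b < 8 := Nat.xor_lt_two_pow (n := 3) a.2 b.2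
    rcases fmul_inv _ hlt with e | ⟨c, -, hc⟩
    · exact Fin.ext (Nat.xor_eq_zero_iff.1 e)
    · have := code8_fmul hg ((a : ℕ) ^^^ b) c
      rw [hc, h1, hx, zero_mul] at this
      exact absurd this one_ne_zero
  obtain ⟨n, hn⟩ := ((Nat.bijective_iff_injective_and_card _).2
    ⟨hinj, by rw [hK, Nat.card_fin]⟩).2 x
  exact ⟨n, n.2, hn⟩

omit [CharP K 2] in
theorem exists_root8 [CharP K 2] [Finite K] (hK : Nat.card K = 8) : ∃ g : K, g ^ 3 = g + 1 := by
  classical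
  haveI := Fintype.ofFinite K
  rw [Nat.card_eq_fintype_card] at hK
  obtain ⟨w, hw⟩ : ∃ w : K, w ∉ ({0, 1} : Finset K) := by
    by_contra hc
    push Not at hc
    have h1 := Finset.card_le_card (s := (Finset.univ : Finset K)) (fun x _ => hc x)
    have := Finset.card_le_two (a := (0 : K)) (b := 1)
    rw [Finset.card_univ] at h1
    omega
  simp only [Finset.mem_insert, Finset.mem_singleton, not_or] at hw
  have h8 : w ^ 8 = w := hK ▸ FiniteField.pow_card w
  have h2 : (2 : K) = 0 := CharTwo.two_eq_zero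
  have e : w * (w - 1) * ((w ^ 3 + w + 1) * (w ^ 3 + w ^ 2 + 1)) = 0 := by
    linear_combination h8 + (w ^ 5 - w ^ 4) * h2
  rcases mul_eq_zero.1 ((mul_eq_zero.1 e).resolve_left
    (mul_ne_zero hw.1 (sub_ne_zero.2 hw.2))) with h | h
  · exact ⟨w, by linear_combination h - (w + 1) * h2⟩
  · refine ⟨w⁻¹, ?_⟩
    have := hw.1
    field_simp
    linear_combination (-1 : K) * h + h2

/-- The matrix of a coded matrix. -/
def matK (g : K) (M : M4) : Fin 4 → Fin 4 → K :=
  ![![code8 g M.a.a, code8 g M.a.b, code8 g M.a.c, code8 g M.a.d],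
    ![code8 g M.b.a, code8 g M.b.b, code8 g M.b.c, code8 g M.b.d],
    ![code8 g M.c.a, code8 g M.c.b, code8 g M.c.c, code8 g M.c.d],
    ![code8 g M.d.a, code8 g M.d.b, code8 g M.d.c, code8 g M.d.d]]

theorem matK_mul {g : K} (hg : g ^ 3 = g + 1) (M N : M4) :
    matK g (M.mul N) = fun r c => matK g M r 0 * matK g N 0 c + matK g M r 1 * matK g N 1 c +
      matK g M r 2 * matK g N 2 c + matK g M r 3 * matK g N 3 c := by
  funext r c
  fin_cases r <;> fin_cases c <;>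
    simp [matK, M4.mul, R4.mulM, code8_xor, code8_fmul hg]

theorem matK_one (g : K) : matK g one4 = oneK K := by
  funext r c
  fin_cases r <;> fin_cases c <;>
    simp [matK, one4, oneK, code8, bitK, show (1 : ℕ).testBit 1 = false from rfl,
      show (1 : ℕ).testBit 2 = false from rfl]

variable (T : Tw K)

/-- The upper element of a code. -/
def Tw.upE (g : K) (k : ℕ) : GL D.Idx K := T.clsE false (code8 g (k / 8)) (code8 g (k % 8))

/-- The lower element of a code. -/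
def Tw.loE (g : K) (k : ℕ) : GL D.Idx K := T.clsE true (code8 g (k / 8)) (code8 g (k % 8))

/-- A lower element times an upper element. -/
def Tw.luE (g : K) (k : ℕ) : GL D.Idx K := T.loE g (k / 64) * T.upE g (k % 64)

/-- The element of order `5`. -/
def Tw.sEl (g : K) : GL D.Idx K := T.loE g 1 * T.upE g 26

theorem Rep4.mulM {g₀ : K} (hg₀ : g₀ ^ 3 = g₀ + 1) {p q : GL D.Idx K} {M N : M4}
    (hp : Rep4 p (matK g₀ M)) (hq : Rep4 q (matK g₀ N)) : Rep4 (p * q) (matK g₀ (M.mul N)) := by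
  rw [matK_mul hg₀]
  exact hp.mul hq

theorem Tw.rep_code {g : K} (hg : g ^ 3 = g + 1) (hθ : ∀ x : K, T.θ x = x ^ 2) (k : ℕ) :
    Rep4 (T.upE g k) (matK g (upM k)) ∧ Rep4 (T.loE g k) (matK g (loM k)) := by
  obtain ⟨h1, h2⟩ := T.rep_cls (code8 g (k / 8)) (code8 g (k % 8))
  have c0 : code8 g 0 = 0 := by simp [code8, bitK]
  have c1 : code8 g 1 = 1 := by simp [code8, bitK, show (1 : ℕ).testBit 1 = false from rfl,
      show (1 : ℕ).testBit 2 = false from rfl]
  constructor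
  · have e : matK g (upM k) = T.upK (code8 g (k / 8)) (code8 g (k % 8)) := by
      funext r c
      fin_cases r <;> fin_cases c <;>
        simp [matK, upM, Tw.upK, pE, qE, sE, rE, code8_xor, code8_fmul hg, hθ, c0, c1] <;> ring
    rw [e]; exact h1
  · have e : matK g (loM k) = T.loK (code8 g (k / 8)) (code8 g (k % 8)) := by
      funext r c
      fin_cases r <;> fin_cases c <;>
        simp [matK, loM, Tw.loK, pE, qE, sE, rE, code8_xor, code8_fmul hg, hθ, c0, c1] <;> ring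
    rw [e]; exact h2

theorem Tw.rep_lu {g : K} (hg : g ^ 3 = g + 1) (hθ : ∀ x : K, T.θ x = x ^ 2) (k : ℕ) :
    Rep4 (T.luE g k) (matK g (luM k)) :=
  Rep4.mulM hg (T.rep_code hg hθ _).2 (T.rep_code hg hθ _).1

theorem Tw.rep_s {g : K} (hg : g ^ 3 = g + 1) (hθ : ∀ x : K, T.θ x = x ^ 2) :
    Rep4 (T.sEl g) (matK g sM) :=
  Rep4.mulM hg (T.rep_code hg hθ _).2 (T.rep_code hg hθ _).1

theorem Tw.luE_mem (g : K) (k : ℕ) : T.luE g k ∈ T.L2 :=
  mul_mem (T.clsE_mem_L2 _ _ _) (T.clsE_mem_L2 _ _ _)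

theorem Tw.sEl_mem (g : K) : T.sEl g ∈ T.L2 :=
  mul_mem (T.clsE_mem_L2 _ _ _) (T.clsE_mem_L2 _ _ _)

variable [Finite K]

theorem Tw.units_pow_seven (hK : Nat.card K = 8) (x : Kˣ) : x ^ 7 = 1 := by
  have : Nat.card Kˣ = 7 := by rw [Nat.card_units, hK]
  rw [← this]
  exact pow_card_eq_one'

theorem Tw.eq_one_of_pow8 (hK : Nat.card K = 8) {w : Kˣ} {k : ℕ} (hk : ¬ 7 ∣ k) (h : w ^ k = 1) :
    w = 1 := by
  have := pow_gcd_eq_one.2 ⟨h, Tw.units_pow_seven hK w⟩
  have hg : Nat.gcd k 7 = 1 := Nat.Coprime.gcd_eq_one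
    (((Nat.prime_iff_prime_int.2 (by norm_num)).coprime_iff_not_dvd.2 hk).symm)
  rwa [hg, pow_one] at this

theorem cls_slot_list : (List.finRange 12).map (fun i => complS true (lb i)) =
    [true, false, true, false, true, true, true, true, true, true, true, true] := by
  decide +kernel

/-- The torus element of the centre moves the radical. -/
theorem Tw.zTor_regular (hK : Nat.card K = 8) (hθ : ∀ x : K, T.θ x = x ^ 2) {w : Kˣ} (hw : w ≠ 1)
    (i : Fin 12) (hi : complS true (lb i) = true) :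
    ChevSimple.chi (mk4 (T.θU (T.phi w)) (T.θU w) w (T.phi w)) (lb i) ≠ 1 := by
  have h7 := Tw.units_pow_seven (K := K) hK
  have hU : ∀ x : Kˣ, T.θU x = x ^ 2 := fun x => by
    apply Units.ext
    simp [Tw.θU, hθ]
  have hinv : ∀ x : Kˣ, x⁻¹ = x ^ 6 := fun x =>
    inv_eq_of_mul_eq_one_right (by rw [← pow_succ']; exact h7 x)
  have hphi : T.phi w = w ^ 5 := by
    show w ^ 2 / T.θU w ^ 2 = w ^ 5
    rw [hU, div_eq_mul_inv, hinv, ← pow_mul, ← pow_mul, ← pow_add]
    rw [pow_eq_pow_mod _ (h7 w)]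
  have hlist := T.slot_chi w (T.phi w)
  simp only [hphi, hU, hinv, ← pow_mul, ← pow_add, Nat.reduceMul, Nat.reduceAdd] at hlist
  rw [hphi, hU, hU, ← pow_mul]
  intro e
  have h1 : ((List.finRange 12).map fun i =>
      (ChevSimple.chi (mk4 (w ^ 10) (w ^ 2) w (w ^ 5)) (lb i), complS true (lb i))) =
      List.zip ((List.finRange 12).map fun i =>
        ChevSimple.chi (mk4 (w ^ 10) (w ^ 2) w (w ^ 5)) (lb i))
        ((List.finRange 12).map fun i => complS true (lb i)) := by rw [List.zip_map']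
  have hmem : ((1 : Kˣ), true) ∈ (List.finRange 12).map fun i =>
      (ChevSimple.chi (mk4 (w ^ 10) (w ^ 2) w (w ^ 5)) (lb i), complS true (lb i)) :=
    List.mem_map.2 ⟨i, List.mem_finRange i, by rw [e, hi]⟩
  rw [h1, cls_slot_list, hlist] at hmem
  simp [List.zip] at hmem
  rcases hmem with h | h | h | h | h | h | h | h | h | h
  all_goals try simp only [← pow_succ, ← pow_succ', ← pow_add, Nat.reduceAdd] at h
  all_goals refine hw (Tw.eq_one_of_pow8 hK ?_ h.symm)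
  all_goals norm_num

/-- The element of two equal actions agree. -/
theorem Tw.eq_of_rep {w : Kˣ}
    (hw : ∀ i : Fin 12, complS true (lb i) = true →
      ChevSimple.chi (mk4 (T.θU (T.phi w)) (T.θU w) w (T.phi w)) (lb i) ≠ 1)
    {p q : GL D.Idx K} (hp : p ∈ T.L2) (hq : q ∈ T.L2) {M : Fin 4 → Fin 4 → K}
    (h1 : Rep4 p M) (h2 : Rep4 q M) : p = q := by
  refine inv_mul_eq_one.1 (T.eq_one_of_rep hw (mul_mem (inv_mem hp) hq) ?_)
  have hpi : ((p⁻¹ : GL D.Idx K) : Matrix D.Idx D.Idx K).mulVec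
      ((p : Matrix D.Idx D.Idx K).mulVec (ev K 44)) = ev K 44 := by
    rw [Matrix.mulVec_mulVec, ← Units.val_mul, inv_mul_cancel, Units.val_one, Matrix.one_mulVec]
  rw [h1.1] at hpi
  refine ⟨by rw [Units.val_mul, ← Matrix.mulVec_mulVec, h2.1, hpi], fun c => ?_⟩
  obtain ⟨l, hl⟩ := h1.2 c
  obtain ⟨l', hl'⟩ := h2.2 c
  refine ⟨l' - l, ?_⟩
  have e : (q : Matrix D.Idx D.Idx K).mulVec (ev K (ix c)) =
      (p : Matrix D.Idx D.Idx K).mulVec (ev K (ix c)) + (l' - l) • ev K 44 := by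
    rw [hl, hl']
    module
  rw [Units.val_mul, ← Matrix.mulVec_mulVec, e, Matrix.mulVec_add, Matrix.mulVec_smul, hpi,
    Matrix.mulVec_mulVec, ← Units.val_mul, inv_mul_cancel, Units.val_one, Matrix.one_mulVec]
  congr 1
  fin_cases c <;> simp [oneK, ix]

theorem clsPM_rev : ∀ r : Root D, clsPM true r = true → clsPM true r.rev = true := by decide +kernel

theorem rev_cls : (rt 27).rev = rt 20 ∧ (rt 25).rev = rt 22 ∧ (rt 28).rev = rt 19 ∧
    (rt 30).rev = rt 17 := by decide +kernel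

omit [Finite K] in
theorem Tw.n4_inv_conj_cls (t u : K) :
    (n4 K)⁻¹ * T.clsE false t u * n4 K = T.clsE true t u := by
  obtain ⟨h1, h2, h3, h4⟩ := rev_cls
  have hm := mon_n4_inv (K := K)
  simp only [Mon, inv_inv] at hm
  simp only [Tw.clsE, Tw.clsG, if_true, Bool.false_eq_true, if_false,
    show ∀ n p q : GL D.Idx K, n⁻¹ * (p * q) * n = (n⁻¹ * p * n) * (n⁻¹ * q * n) from
      fun n p q => by group, hm _ _, dP_apply, dp_four, h1, h2, h3, h4]

omit [Finite K] in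
theorem Tw.n4_conj_Lv {j : GL D.Idx K} (hj : j ∈ T.Lv true) : n4 K * j * (n4 K)⁻¹ ∈ T.Lv true := by
  obtain ⟨h1, h2⟩ := Subgroup.mem_inf.1 hj
  refine Subgroup.mem_inf.2 ⟨?_, mul_mem (mul_mem T.n4_fix h2) (inv_mem T.n4_fix)⟩
  exact conj_set (monBy_nD _) (P := clsPM true) (fun r hr => by
    rw [dP_apply, dp_four]; exact clsPM_rev r hr) h1

/-- Cosets of the radical by `z s` lie in one class. -/
theorem Tw.conj_radical (hK : Nat.card K = 8) (hθ : ∀ x : K, T.θ x = x ^ 2) {w : Kˣ} (hw : w ≠ 1)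
    {s : GL D.Idx K} (hs : s ∈ T.Lv true) (hs5 : s ^ 5 = 1) {y : GL D.Idx K} (hy : y ∈ T.UP true) :
    (∃ c ∈ T.UP true, c * (T.zTor w * s) * c⁻¹ = y * (T.zTor w * s)) ∧
      ∃ c ∈ T.UP true, c * (T.zTor w * s) * c⁻¹ = T.zTor w * s * y := by
  refine exists_conj_of_fixfree (T.UP true) (fun c hc => ?_) (fun c hc h => ?_) hy
  · rw [show T.zTor w * s * c * (T.zTor w * s)⁻¹ = T.zTor w * (s * c * s⁻¹) * (T.zTor w)⁻¹ by group]
    exact T.conj_uF_torus (T.tor2_mem_H1_sq _) (T.conj_UP hs hc)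
  · have h5 : (T.zTor w * s) ^ 5 = T.zTor (w ^ 5) := by
      rw [(show Commute (T.zTor w) s from T.zTor_commute w hs).mul_pow, hs5, mul_one, Tw.zTor,
        Tw.zTor, ← map_pow, Prod.pow_mk, map_pow]
    have h' : T.zTor (w ^ 5) * c = c * T.zTor (w ^ 5) := by
      rw [← h5]
      exact (show Commute (T.zTor w * s) c from h).pow_left 5
    refine T.fixfree (complS_set true) (T.zTor_regular hK hθ (w := w ^ 5) fun e => hw ?_) hc h'
    exact Tw.eq_one_of_pow8 hK (by norm_num) e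

theorem chk_all (a b : ℕ) (ha : a < 64) (hb : b < 64) : chk1 a b = true := by
  have h : ∀ k < 8, chk8 k = true := by
    intro k hk
    interval_cases k
    exacts [chk8_0, chk8_1, chk8_2, chk8_3, chk8_4, chk8_5, chk8_6, chk8_7]
  have := h (a / 8) (by omega)
  simp only [chk8, List.all_eq_true, List.mem_range] at this
  have := this (a % 8) (Nat.mod_lt _ (by norm_num)) b hb
  rwa [Nat.div_add_mod] at this

/-- The statement for `q = 8`. -/
theorem Tw.covers_eight (hK : Nat.card K = 8) (hθ : ∀ x : K, T.θ x = x ^ 2) :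
    ∃ x ∈ T.fix, Odd (orderOf x) ∧ ∀ g ∈ T.fix, g ≠ 1 →
      ∃ u ∈ T.fix, ∃ v ∈ T.fix, g = (u * x * u⁻¹) * (v * x * v⁻¹) := by
  classical
  haveI := Fintype.ofFinite K
  obtain ⟨g₀, hg₀⟩ := exists_root8 (K := K) hK
  obtain ⟨w, hw⟩ : ∃ w : Kˣ, w ≠ 1 := by
    haveI : Nontrivial Kˣ := Fintype.one_lt_card_iff_nontrivial.1 (by
      rw [Fintype.card_units, ← Nat.card_eq_fintype_card, hK]; norm_num)
    exact exists_ne 1
  have hreg := T.zTor_regular hK hθ hw
  set s := T.sEl g₀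
  have hsL : s ∈ T.Lv true := T.L2_le_Lv (T.sEl_mem g₀)
  have hs5 : s ^ 5 = 1 := by
    refine T.eq_one_of_rep hreg (pow_mem (T.sEl_mem g₀) 5) ?_
    have h := T.rep_s hg₀ hθ
    have := Rep4.mulM hg₀ h (Rep4.mulM hg₀ (Rep4.mulM hg₀ h h) (Rep4.mulM hg₀ h h))
    rw [sM_pow, matK_one] at this
    rwa [show s ^ 5 = s * (s * s * (s * s)) by simp [pow_succ, mul_assoc]]
  set z := T.zTor w with hz
  have hzH : z ∈ T.H1 := T.tor2_mem_H1_sq _
  have hzfix : z ∈ T.fix := (Subgroup.mem_inf.1 hzH).2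
  set x := z * s with hx
  refine ⟨x, mul_mem hzfix (Subgroup.mem_inf.1 hsL).2, ?_, fun g hg hne => ?_⟩
  · refine Odd.of_dvd_nat (n := 35) (by decide) (orderOf_dvd_of_pow_eq_one ?_)
    have hz7 : z ^ 7 = 1 := by
      rw [hz, Tw.zTor, ← map_pow, Prod.pow_mk, Tw.units_pow_seven hK, Tw.units_pow_seven hK]
      exact map_one T.tor2
    rw [hx, (show Commute z s from T.zTor_commute w hsL).mul_pow, show 35 = 7 * 5 from rfl, pow_mul,
      hz7, one_pow, mul_comm 7 5, pow_mul, hs5, one_pow, one_mul]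
  obtain ⟨c, hc, v, hv, u, hu, e⟩ :=
    T.reach_target (by omega) hg hne (w * w) (T.phi w * T.phi w)
  rw [show ((w * w, T.phi w * T.phi w) : Kˣ × Kˣ) = (w, T.phi w) * (w, T.phi w) from rfl, map_mul,
    show T.tor2 (w, T.phi w) = z from rfl] at e
  -- the two factors in the rank one subgroup
  obtain ⟨p, hp, a', ha', epa⟩ := T.exists_split_U1 true (T.n4_conj_V1 hv)
  obtain ⟨q, hq, b', hb', rfl⟩ := T.exists_split_U1 true hu
  obtain ⟨t, r, rfl⟩ := T.Xp_cls ha'
  obtain ⟨t', r', rfl⟩ := T.Xp_cls hb'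
  obtain ⟨i1, hi1, rfl⟩ := code8_surjective hK hg₀ t
  obtain ⟨i2, hi2, rfl⟩ := code8_surjective hK hg₀ r
  obtain ⟨i3, hi3, rfl⟩ := code8_surjective hK hg₀ t'
  obtain ⟨i4, hi4, rfl⟩ := code8_surjective hK hg₀ r'
  have hv' : v = (n4 K)⁻¹ * p * n4 K * T.loE g₀ (8 * i1 + i2) := by
    rw [Tw.loE, show (8 * i1 + i2) / 8 = i1 by omega, show (8 * i1 + i2) % 8 = i2 by omega,
      ← T.n4_inv_conj_cls]
    calc v = (n4 K)⁻¹ * (n4 K * v * (n4 K)⁻¹) * n4 K := by group
      _ = _ := by rw [← epa]; group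
  have hb0 : T.clsE false (code8 g₀ i3) (code8 g₀ i4) = T.upE g₀ (8 * i3 + i4) := by
    rw [Tw.upE, show (8 * i3 + i4) / 8 = i3 by omega, show (8 * i3 + i4) % 8 = i4 by omega]
  rw [hb0] at e
  clear hb' ha'
  set ka := 8 * i1 + i2
  set kb := 8 * i3 + i4
  set a := T.loE g₀ ka
  set b := T.upE g₀ kb
  set C := T.luE g₀ (witAt ka kb / 4096)
  set F := T.luE g₀ (witAt ka kb % 4096)
  have hab : a * b * C * F = C * s * (F * s) := by
    have hchk := chk_all ka kb (by omega) (by omega)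
    simp only [chk1, decide_eq_true_eq] at hchk
    have haL : a ∈ T.L2 := T.clsE_mem_L2 _ _ _
    have hbL : b ∈ T.L2 := T.clsE_mem_L2 _ _ _
    refine T.eq_of_rep hreg
      (mul_mem (mul_mem (mul_mem haL hbL) (T.luE_mem _ _)) (T.luE_mem _ _))
      (mul_mem (mul_mem (T.luE_mem _ _) (T.sEl_mem _)) (mul_mem (T.luE_mem _ _) (T.sEl_mem _)))
      (Rep4.mulM hg₀ (Rep4.mulM hg₀ (Rep4.mulM hg₀ (T.rep_code hg₀ hθ ka).2
        (T.rep_code hg₀ hθ kb).1) (T.rep_lu hg₀ hθ _)) (T.rep_lu hg₀ hθ _)) ?_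
    rw [hchk]
    exact Rep4.mulM hg₀ (Rep4.mulM hg₀ (T.rep_lu hg₀ hθ _) (T.rep_s hg₀ hθ))
      (Rep4.mulM hg₀ (T.rep_lu hg₀ hθ _) (T.rep_s hg₀ hθ))
  set E := C * F
  have hCL : C ∈ T.Lv true := T.L2_le_Lv (T.luE_mem _ _)
  have hEL : E ∈ T.Lv true := mul_mem hCL (T.L2_le_Lv (T.luE_mem _ _))
  have haL : a ∈ T.Lv true := T.clsE_mem_Lv _ _ _
  have hbL : b ∈ T.Lv true := T.clsE_mem_Lv _ _ _
  have hprod : z * z * (a * b) = (C * x * C⁻¹) * (E * x * E⁻¹) := by
    have e1 : a * b = (C * s * C⁻¹) * (E * s * E⁻¹) := by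
      calc a * b = a * b * C * F * F⁻¹ * C⁻¹ := by group
        _ = _ := by rw [hab]; simp only [E]; group
    have cz : ∀ l ∈ T.Lv true, z * l = l * z := fun l hl => T.zTor_commute w hl
    rw [e1, hx]
    calc z * z * (C * s * C⁻¹ * (E * s * E⁻¹))
        = z * (z * (C * s * C⁻¹)) * (E * s * E⁻¹) := by group
      _ = z * (C * s * C⁻¹ * z) * (E * s * E⁻¹) := by
          rw [cz _ (mul_mem (mul_mem hCL hsL) (inv_mem hCL))]
      _ = z * C * s * C⁻¹ * (z * E) * s * E⁻¹ := by group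
      _ = C * z * s * C⁻¹ * (E * z) * s * E⁻¹ := by rw [cz C hCL, cz E hEL]
      _ = _ := by group
  -- the radical parts
  have hq' : E⁻¹ * (b⁻¹ * q * b) * E ∈ T.UP true := by
    have := T.conj_UP (inv_mem hbL) hq
    have := T.conj_UP (inv_mem hEL) this
    rwa [inv_inv, inv_inv] at this
  have hC' : n4 K * C * (n4 K)⁻¹ ∈ T.Lv true := T.n4_conj_Lv hCL
  have hp' : (n4 K * C * (n4 K)⁻¹)⁻¹ * p * (n4 K * C * (n4 K)⁻¹) ∈ T.UP true := by
    have := T.conj_UP (inv_mem hC') hp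
    rwa [inv_inv] at this
  obtain ⟨m, hm, em⟩ := (T.conj_radical hK hθ hw hsL hs5 hq').2
  rw [← hz, ← hx] at em
  have hx' : n4 K * x * (n4 K)⁻¹ = T.zTor w⁻¹ * (n4 K * s * (n4 K)⁻¹) := by
    rw [hx, show T.zTor w⁻¹ = z⁻¹ by rw [hz, Tw.zTor, Tw.zTor, ← map_inv, Prod.inv_mk, map_inv],
      ← T.n4_conj_H1 hzH]
    group
  obtain ⟨l, hl, el⟩ := (T.conj_radical hK hθ (w := w⁻¹) (inv_ne_one.2 hw) (T.n4_conj_Lv hsL)
    (by rw [conj_pow, hs5, mul_one, mul_inv_cancel]) hp').1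
  rw [← hx'] at el
  refine ⟨c⁻¹ * (C * ((n4 K)⁻¹ * l * n4 K)), ?_, c⁻¹ * (E * m), ?_, ?_⟩
  · exact mul_mem (inv_mem hc) (mul_mem (Subgroup.mem_inf.1 hCL).2
      (mul_mem (mul_mem (inv_mem T.n4_fix) (Subgroup.mem_inf.1 hl).2) T.n4_fix))
  · exact mul_mem (inv_mem hc) (mul_mem (Subgroup.mem_inf.1 hEL).2 (Subgroup.mem_inf.1 hm).2)
  · set k := (n4 K)⁻¹ * l * n4 K with hk
    have el' : k * x * k⁻¹ = C⁻¹ * ((n4 K)⁻¹ * p * n4 K) * C * x := by
      calc k * x * k⁻¹ = (n4 K)⁻¹ * (l * (n4 K * x * (n4 K)⁻¹) * l⁻¹) * n4 K := by rw [hk]; group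
        _ = _ := by rw [el]; group
    set P := (n4 K)⁻¹ * p * n4 K
    calc g = c⁻¹ * (c * g * c⁻¹) * c := by group
      _ = c⁻¹ * (P * a * (z * z) * (q * b)) * c := by rw [e, hv']
      _ = c⁻¹ * (P * (z * z * (a * b)) * (b⁻¹ * q * b)) * c := by
          have cz : z * a = a * z := T.zTor_commute w haL
          rw [show z * z * (a * b) = z * (z * a) * b by group, cz,
            show z * (a * z) * b = z * a * z * b by group, cz]
          group
      _ = c⁻¹ * (C * (C⁻¹ * P * C * x) * C⁻¹ * (E * (x * (E⁻¹ * (b⁻¹ * q * b) * E)) * E⁻¹)) * c := by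
          rw [hprod]; group
      _ = c⁻¹ * (C * (k * x * k⁻¹) * C⁻¹ * (E * (m * x * m⁻¹) * E⁻¹)) * c := by rw [el', em]
      _ = _ := by group

end CfsgLib.ReeF4
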