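import Cfsg.Agent.ReeF4Square.Regular
import Cfsg.Agent.ReeF4Square.EightData

/-!
# The action of the second rank one subgroup on four coordinates, `q = 8`

The span of the root vectors 46, 45, 44, 43, 42 is invariant and 44 is fixed. An element of the subgroup
that commutes with the torus element regular on the radical is determined by the action on the quotient.
-/

set_option autoImplicit false
set_option maxHeartbeats 1000000

namespace CfsgLib.ReeF4

open Cfsg.Lie CfsgLib.Chevalley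
open scoped MatrixGroups

variable {K : Type*} [Field K]

/-- The four roots. -/
def ix (c : Fin 4) : ℕ := [46, 45, 43, 42].getD c 0

/-- `g` acts by `M` on the span of 46, 45, 43, 42 modulo the fixed vector 44. -/
def Rep4 (g : GL D.Idx K) (M : Fin 4 → Fin 4 → K) : Prop :=
  (g : Matrix D.Idx D.Idx K).mulVec (ev K 44) = ev K 44 ∧
    ∀ c, ∃ l : K, (g : Matrix D.Idx D.Idx K).mulVec (ev K (ix c)) =
      (M 0 c • ev K 46 + M 1 c • ev K 45 + M 2 c • ev K 43 + M 3 c • ev K 42) + l • ev K 44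

theorem Rep4.mul {g h : GL D.Idx K} {M N : Fin 4 → Fin 4 → K} (hg : Rep4 g M) (hh : Rep4 h N) :
    Rep4 (g * h) fun r c => M r 0 * N 0 c + M r 1 * N 1 c + M r 2 * N 2 c + M r 3 * N 3 c := by
  refine ⟨by rw [Units.val_mul, ← Matrix.mulVec_mulVec, hh.1, hg.1], fun c => ?_⟩
  obtain ⟨l, hl⟩ := hh.2 c
  obtain ⟨l0, h0⟩ := hg.2 0
  obtain ⟨l1, h1⟩ := hg.2 1
  obtain ⟨l2, h2⟩ := hg.2 2
  obtain ⟨l3, h3⟩ := hg.2 3
  simp only [ix, Fin.val_zero, Fin.val_one, Fin.val_two, show ((3 : Fin 4) : ℕ) = 3 from rfl,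
    List.getD_cons_zero, List.getD_cons_succ] at h0 h1 h2 h3
  refine ⟨N 0 c * l0 + N 1 c * l1 + N 2 c * l2 + N 3 c * l3 + l, ?_⟩
  rw [Units.val_mul, ← Matrix.mulVec_mulVec, hl]
  simp only [Matrix.mulVec_add, Matrix.mulVec_smul, hg.1, h0, h1, h2, h3]
  module

variable [CharP K 2] (T : Tw K)

/-- The matrix of an upper element. -/
def Tw.upK (t u : K) : Fin 4 → Fin 4 → K :=
  ![![1, t, T.θ u ^ 2, T.θ u ^ 2 * t + (T.θ t * t + u) ^ 2],
    ![0, 1, T.θ t ^ 2, T.θ u ^ 2 + t * T.θ t ^ 2], ![0, 0, 1, t], ![0, 0, 0, 1]]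

/-- The matrix of a lower element. -/
def Tw.loK (t u : K) : Fin 4 → Fin 4 → K :=
  ![![1, 0, 0, 0], ![t, 1, 0, 0], ![T.θ u ^ 2 + t * T.θ t ^ 2, T.θ t ^ 2, 1, 0],
    ![T.θ u ^ 2 * t + (T.θ t * t + u) ^ 2, T.θ u ^ 2, t, 1]]

theorem Tw.rep_cls (t u : K) :
    Rep4 (T.clsE false t u) (T.upK t u) ∧ Rep4 (T.clsE true t u) (T.loK t u) := by
  have h2 : (2 : K) = 0 := CharTwo.two_eq_zero
  have hm : (-1 : K) = 1 := CharTwo.neg_eq 1
  have a17_46 := fun w : K => x_mulVec_ev 17 46 [(43, -1)] (by decide +kernel) w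
  have a17_45 := fun w : K => x_mulVec_ev 17 45 [(42, -1)] (by decide +kernel) w
  have a17_44 := fun w : K => x_mulVec_ev 17 44 [] (by decide +kernel) w
  have a17_43 := fun w : K => x_mulVec_ev 17 43 [] (by decide +kernel) w
  have a17_42 := fun w : K => x_mulVec_ev 17 42 [] (by decide +kernel) w
  have a19_46 := fun w : K => x_mulVec_ev 19 46 [(44, 1), (42, -1)] (by decide +kernel) w
  have a19_45 := fun w : K => x_mulVec_ev 19 45 [] (by decide +kernel) w
  have a19_44 := fun w : K => x_mulVec_ev 19 44 [(42, -2)] (by decide +kernel) w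
  have a19_43 := fun w : K => x_mulVec_ev 19 43 [] (by decide +kernel) w
  have a19_42 := fun w : K => x_mulVec_ev 19 42 [] (by decide +kernel) w
  have a22_46 := fun w : K => x_mulVec_ev 22 46 [(45, 1)] (by decide +kernel) w
  have a22_45 := fun w : K => x_mulVec_ev 22 45 [] (by decide +kernel) w
  have a22_44 := fun w : K => x_mulVec_ev 22 44 [] (by decide +kernel) w
  have a22_43 := fun w : K => x_mulVec_ev 22 43 [(42, 1)] (by decide +kernel) w
  have a22_42 := fun w : K => x_mulVec_ev 22 42 [] (by decide +kernel) w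
  have a20_46 := fun w : K => x_mulVec_ev 20 46 [] (by decide +kernel) w
  have a20_45 := fun w : K => x_mulVec_ev 20 45 [(44, 1), (43, 1)] (by decide +kernel) w
  have a20_44 := fun w : K => x_mulVec_ev 20 44 [(43, 2)] (by decide +kernel) w
  have a20_43 := fun w : K => x_mulVec_ev 20 43 [] (by decide +kernel) w
  have a20_42 := fun w : K => x_mulVec_ev 20 42 [] (by decide +kernel) w
  have b30_46 := fun w : K => x_mulVec_ev 30 46 [] (by decide +kernel) w
  have b30_45 := fun w : K => x_mulVec_ev 30 45 [] (by decide +kernel) w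
  have b30_44 := fun w : K => x_mulVec_ev 30 44 [] (by decide +kernel) w
  have b30_43 := fun w : K => x_mulVec_ev 30 43 [(46, -1)] (by decide +kernel) w
  have b30_42 := fun w : K => x_mulVec_ev 30 42 [(45, -1)] (by decide +kernel) w
  have b28_46 := fun w : K => x_mulVec_ev 28 46 [] (by decide +kernel) w
  have b28_45 := fun w : K => x_mulVec_ev 28 45 [] (by decide +kernel) w
  have b28_44 := fun w : K => x_mulVec_ev 28 44 [(46, 2)] (by decide +kernel) w
  have b28_43 := fun w : K => x_mulVec_ev 28 43 [] (by decide +kernel) w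
  have b28_42 := fun w : K => x_mulVec_ev 28 42 [(44, -1), (46, -1)] (by decide +kernel) w
  have b25_46 := fun w : K => x_mulVec_ev 25 46 [] (by decide +kernel) w
  have b25_45 := fun w : K => x_mulVec_ev 25 45 [(46, 1)] (by decide +kernel) w
  have b25_44 := fun w : K => x_mulVec_ev 25 44 [] (by decide +kernel) w
  have b25_43 := fun w : K => x_mulVec_ev 25 43 [] (by decide +kernel) w
  have b25_42 := fun w : K => x_mulVec_ev 25 42 [(43, 1)] (by decide +kernel) w
  have b27_46 := fun w : K => x_mulVec_ev 27 46 [] (by decide +kernel) w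
  have b27_45 := fun w : K => x_mulVec_ev 27 45 [] (by decide +kernel) w
  have b27_44 := fun w : K => x_mulVec_ev 27 44 [(45, 2)] (by decide +kernel) w
  have b27_43 := fun w : K => x_mulVec_ev 27 43 [(44, 1), (45, 1)] (by decide +kernel) w
  have b27_42 := fun w : K => x_mulVec_ev 27 42 [] (by decide +kernel) w
  simp only [List.zipIdx_nil, List.zipIdx_cons, List.map_nil, List.map_cons, List.sum_nil,
    List.sum_cons, add_zero, zero_add, pow_one, Int.cast_one, mul_one, Int.cast_neg,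
    Int.cast_ofNat, h2, hm, neg_zero, mul_zero, zero_smul] at a17_46 a17_45 a17_44 a17_43 a17_42 a19_46 a19_45 a19_44 a19_43 a19_42 a22_46 a22_45 a22_44 a22_43 a22_42 a20_46 a20_45 a20_44 a20_43 a20_42 b30_46 b30_45 b30_44 b30_43 b30_42 b28_46 b28_45 b28_44 b28_43 b28_42 b25_46 b25_45 b25_44 b25_43 b25_42 b27_46 b27_45 b27_44 b27_43 b27_42
  have hP : T.θ (T.θ u) ^ 2 = u := T.θ_θ_sq u
  constructor
  · constructor
    · simp only [Tw.clsE, Tw.clsG, Bool.false_eq_true, if_false, Units.val_mul,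
        ← Matrix.mulVec_mulVec, b30_44, b28_44, b25_44, b27_44]
    · intro c
      fin_cases c
      all_goals
        simp only [ix, Fin.mk_one, Fin.zero_eta, Fin.reduceFinMk, Fin.val_zero, Fin.val_one,
          Fin.val_two, show ((3 : Fin 4) : ℕ) = 3 from rfl, List.getD_cons_zero,
          List.getD_cons_succ, Tw.clsE, Tw.clsG, if_true, Bool.false_eq_true, if_false,
          Units.val_mul, ← Matrix.mulVec_mulVec, Matrix.mulVec_add, Matrix.mulVec_smul,
          b30_46, b30_45, b30_43, b30_42, b28_46, b28_45,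
          b28_43, b28_42, b28_44, b25_46, b25_45, b25_43, b25_42, b25_44, b27_46, b27_45, b27_43,
          b27_42, b27_44]
        simp [Tw.upK]
      · exact ⟨0, by module⟩
      · exact ⟨T.θ t, by module⟩
      · refine ⟨T.θ t * T.θ t * 0 + (T.θ t * t + u) + t * T.θ t, ?_⟩
        match_scalars <;> ring_nf <;> simp [h2] <;> ring
  · constructor
    · simp only [Tw.clsE, Tw.clsG, if_true, Units.val_mul,
        ← Matrix.mulVec_mulVec, a17_44, a19_44, a22_44, a20_44]
    · intro c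
      fin_cases c
      all_goals
        simp only [ix, Fin.mk_one, Fin.zero_eta, Fin.reduceFinMk, Fin.val_zero, Fin.val_one,
          Fin.val_two, show ((3 : Fin 4) : ℕ) = 3 from rfl, List.getD_cons_zero,
          List.getD_cons_succ, Tw.clsE, Tw.clsG, if_true, Bool.false_eq_true, if_false,
          Units.val_mul, ← Matrix.mulVec_mulVec, Matrix.mulVec_add, Matrix.mulVec_smul,
          a17_46, a17_45, a17_43, a17_42, a19_46, a19_45,
          a19_43, a19_42, a19_44, a22_46, a22_45, a22_43, a22_42, a22_44, a20_46, a20_45, a20_43,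
          a20_42, a20_44]
        simp [Tw.loK]
      · refine ⟨(T.θ t * t + u) + t * T.θ t, ?_⟩
        match_scalars <;> ring_nf <;> simp [h2] <;> ring
      · exact ⟨T.θ t, by module⟩

/-- The subgroup generated by the two root groups of the second orbit. -/
def Tw.L2 : Subgroup (GL D.Idx K) := Subgroup.closure {g | ∃ b t u, T.clsE b t u = g}

theorem Tw.clsE_mem_L2 (b : Bool) (t u : K) : T.clsE b t u ∈ T.L2 :=
  Subgroup.subset_closure ⟨b, t, u, rfl⟩

theorem cls_roots : (∀ r : Root D, clsS true r = true ↔ r = rt 27 ∨ r = rt 25 ∨ r = rt 28 ∨ r = rt 30) ∧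
    [20, 22, 19, 17].all (fun n => clsN true (rt n)) = true := by
  decide +kernel

theorem Tw.clsE_mem_Lv (b : Bool) (t u : K) : T.clsE b t u ∈ T.Lv true := by
  refine Subgroup.mem_inf.2 ⟨?_, T.cls_fix b t u⟩
  obtain ⟨h1, h2⟩ := cls_roots
  simp only [List.all_cons, List.all_nil, Bool.and_true, Bool.and_eq_true] at h2
  obtain ⟨p1, p2, p3, p4⟩ := h2
  cases b <;> simp only [Tw.clsE, Tw.clsG, if_true, Bool.false_eq_true, if_false] <;>
    refine mul_mem (mul_mem (mul_mem ?_ ?_) ?_) ?_ <;>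
    refine X_mem_rootGen _ (S := {r | clsPM true r = true}) ?_ _
  · simp [clsPM, (h1 (rt 27)).2 (Or.inl rfl)]
  · simp [clsPM, (h1 (rt 25)).2 (Or.inr (Or.inl rfl))]
  · simp [clsPM, (h1 (rt 28)).2 (Or.inr (Or.inr (Or.inl rfl)))]
  · simp [clsPM, (h1 (rt 30)).2 (Or.inr (Or.inr (Or.inr rfl)))]
  all_goals simp only [clsN] at p1 p2 p3 p4
  · simp [clsPM, p1]
  · simp [clsPM, p2]
  · simp [clsPM, p3]
  · simp [clsPM, p4]

theorem Tw.L2_le_Lv : T.L2 ≤ T.Lv true :=
  (Subgroup.closure_le _).2 (by rintro _ ⟨b, t, u, rfl⟩; exact T.clsE_mem_Lv b t u)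

/-- A torus element centralising the second orbit. -/
def Tw.zTor (w : Kˣ) : GL D.Idx K := T.tor2 (w, T.phi w)

theorem cls_cartan : [27, 25, 28, 30, 20, 22, 19, 17].map (fun r => (List.range 4).map fun k =>
    D.cartan k (rt r)) = [[-1, 2, -1, 0], [0, -2, 2, -1], [-1, 0, 1, -1], [-2, 2, 0, -1],
      [1, -2, 1, 0], [0, 2, -2, 1], [1, 0, -1, 1], [2, -2, 0, 1]] := by
  decide +kernel

variable [Finite K]

omit [Finite K] in
theorem Tw.zTor_chi (w : Kˣ) (r : Root D) (hr : clsPM true r = true) :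
    ChevSimple.chi (mk4 (T.θU (T.phi w)) (T.θU w) w (T.phi w)) r = 1 := by
  have hl : r = rt 27 ∨ r = rt 25 ∨ r = rt 28 ∨ r = rt 30 ∨ r = rt 20 ∨ r = rt 22 ∨ r = rt 19 ∨
      r = rt 17 := by
    revert hr; revert r; decide +kernel
  have hθ : T.θU (T.phi w) = T.θU w ^ 2 / w := by
    show T.θU (w ^ 2 / T.θU w ^ 2) = _
    rw [map_div, map_pow, map_pow, T.θU_θU_sq]
  have hc := cls_cartan
  simp only [List.map_cons, List.map_nil, List.range_succ, List.range_zero, List.nil_append,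
    List.cons_append, List.cons.injEq, and_true] at hc
  obtain ⟨⟨a0, a1, a2, a3⟩, ⟨b0, b1, b2, b3⟩, ⟨c0, c1, c2, c3⟩, ⟨d0, d1, d2, d3⟩,
    ⟨e0, e1, e2, e3⟩, ⟨f0, f1, f2, f3⟩, ⟨g0, g1, g2, g3⟩, i0, i1, i2, i3⟩ := hc
  have hp : ∀ r, ChevSimple.chi (mk4 (T.θU (T.phi w)) (T.θU w) w (T.phi w)) r =
      T.θU (T.phi w) ^ D.cartan 0 r * T.θU w ^ D.cartan 1 r * w ^ D.cartan 2 r *
        T.phi w ^ D.cartan 3 r := fun r => T.tor2_chi (w, T.phi w) r
  have hphi : T.phi w = w ^ 2 / T.θU w ^ 2 := rfl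
  rcases hl with rfl | rfl | rfl | rfl | rfl | rfl | rfl | rfl <;>
    simp only [hp, a0, a1, a2, a3, b0, b1, b2, b3, c0, c1, c2, c3, d0, d1, d2, d3, e0, e1, e2, e3,
      f0, f1, f2, f3, g0, g1, g2, g3, i0, i1, i2, i3] <;>
    simp only [hθ] <;> simp only [hphi] <;>
    apply Units.ext <;>
    simp [zpow_ofNat, zpow_neg]
  all_goals field_simp

omit [Finite K] in
theorem Tw.zTor_commute (w : Kˣ) {g : GL D.Idx K} (hg : g ∈ T.Lv true) :
    T.zTor w * g = g * T.zTor w := by
  have h := (Subgroup.mem_inf.1 hg).1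
  suffices H : rootGen hW.good K {r | clsPM true r = true} ≤ Subgroup.centralizer {T.zTor w} by
    exact Subgroup.mem_centralizer_iff.1 (H h) _ rfl
  refine rootGen_le _ fun r hr t => Subgroup.mem_centralizer_iff.2 ?_
  rintro _ rfl
  have e := ChevSimple.torC_conj_X hW.good (mk4 (T.θU (T.phi w)) (T.θU w) w (T.phi w)) r t
  rw [T.zTor_chi w r hr, Units.val_one, one_mul, ← T.tor2_apply, mul_inv_eq_iff_eq_mul] at e
  exact e

/-- An element of `⟨X, X₋⟩` of the second orbit lies in `U¹H¹ ∪ U¹H¹nU¹`. -/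
theorem Tw.L2_inPar {g : GL D.Idx K} (hg : g ∈ T.L2) : T.inPar true g := by
  have hcls : ∀ t u, T.clsE false t u ∈ T.U1 := fun t u => by
    rw [← T.θ_sq_θ u, map_pow, ← map_pow T.θ, ← cls_lifts]
    exact mul_mem (T.uF_le_U1 allS_ok 0 ⟨uS_anti (Nat.zero_le _)
      (T.lift_mem_uS allS_ok 1 t (slot_facts 1).1), T.lift_fix _ _⟩)
      (T.uF_le_U1 allS_ok 0 ⟨uS_anti (Nat.zero_le _)
      (T.lift_mem_uS allS_ok 3 _ (slot_facts 3).1), T.lift_fix _ _⟩)
  have step : ∀ x y, T.inPar true x → (∃ b t u, T.clsE b t u = y ∨ (T.clsE b t u)⁻¹ = y) →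
      T.inPar true (x * y) := by
    intro x y hx hy
    have hV : ∀ z ∈ T.U1, T.inPar true (x * (nJ K true * z * (nJ K true)⁻¹)) := fun z hz => by
      have := T.inPar_mul_H1 (T.inPar_mul_nJ (T.inPar_mul_U1 (T.inPar_mul_nJ hx) hz))
        (inv_mem (T.nJ_sq_mem true))
      convert this using 1
      group
    obtain ⟨b, t, u, rfl | rfl⟩ := hy <;> cases b
    · exact T.inPar_mul_U1 hx (hcls t u)
    · rw [← T.conj_cls]; exact hV _ (hcls t u)
    · exact T.inPar_mul_U1 hx (inv_mem (hcls t u))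
    · rw [← T.conj_cls, conj_inv]; exact hV _ (inv_mem (hcls t u))
  have h1 : T.inPar true 1 := Or.inl ⟨1, one_mem _, 1, one_mem _, one_mul 1⟩
  induction hg using Subgroup.closure_induction_right with
  | one => exact h1
  | mul_right x y _ hy ih =>
    obtain ⟨b, t, u, rfl⟩ := hy
    exact step _ _ ih ⟨b, t, u, Or.inl rfl⟩
  | mul_inv_cancel x y _ hy ih =>
    obtain ⟨b, t, u, rfl⟩ := hy
    exact step _ _ ih ⟨b, t, u, Or.inr rfl⟩

/-- The identity matrix. -/
def oneK (K : Type*) [Field K] : Fin 4 → Fin 4 → K := fun r c => if r = c then 1 else 0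

theorem ix_facts : (ord false (Sum.inr (rt 42) : D.Idx) ≤ ord false (Sum.inr (rt 46) : D.Idx) ∧
    ord false (Sum.inr (rt 42) : D.Idx) ≤ ord false (Sum.inr (rt 44) : D.Idx)) ∧
    dp (dJ true) (rt 42) = rt 46 ∧ dp (dJ true) (rt 46) = rt 42 := by
  decide +kernel

/-- An element commuting with a regular torus element of the centre is determined by its action. -/
theorem Tw.eq_one_of_rep {w : Kˣ}
    (hw : ∀ i : Fin 12, complS true (lb i) = true →
      ChevSimple.chi (mk4 (T.θU (T.phi w)) (T.θU w) w (T.phi w)) (lb i) ≠ 1)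
    {d : GL D.Idx K} (hd : d ∈ T.L2) (hr : Rep4 d (oneK K)) : d = 1 := by
  have hz := T.zTor_commute w (T.L2_le_Lv hd)
  obtain ⟨-, hrep⟩ := hr
  obtain ⟨l0, h0⟩ := hrep 0
  simp [ix, oneK] at h0
  rcases T.L2_inPar hd with ⟨u, hu, h, hh, e⟩ | ⟨u, hu, h, hh, v, hv, e⟩
  · obtain ⟨x, hx, y, hy, rfl⟩ := T.exists_split_U1 true hu
    obtain ⟨p, rfl⟩ := T.exists_tor2_sq hh
    have hcy : T.zTor w * y = y * T.zTor w := T.zTor_commute w (T.Xp_le_Lv true hy)
    have hch : T.zTor w * T.tor2 p = T.tor2 p * T.zTor w := by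
      rw [Tw.zTor, ← map_mul, ← map_mul, mul_comm]
    have hcx : T.zTor w * x = x * T.zTor w := by
      rw [← e] at hz
      calc T.zTor w * x = T.zTor w * (x * y * T.tor2 p) * (T.tor2 p)⁻¹ * y⁻¹ := by group
        _ = x * y * (T.tor2 p * T.zTor w) * (T.tor2 p)⁻¹ * y⁻¹ := by rw [hz]; group
        _ = x * y * (T.zTor w * T.tor2 p) * (T.tor2 p)⁻¹ * y⁻¹ := by rw [hch]
        _ = x * (y * T.zTor w) * y⁻¹ := by group
        _ = _ := by rw [← hcy]; group
    obtain rfl : x = 1 := T.fixfree (complS_set true) hw hx hcx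
    rw [one_mul] at e
    subst e
    obtain ⟨t, s, rfl⟩ := T.Xp_cls hy
    obtain ⟨-, hup⟩ := (T.rep_cls t s).1
    have hdiag : ∀ k : ℕ, ((T.tor2 p : GL D.Idx K) : Matrix D.Idx D.Idx K).mulVec (ev K k) =
        (ChevSimple.chi (mk4 (T.θU p.2) (T.θU p.1) p.1 p.2) (rt k) : K) • ev K k := fun k => by
      obtain ⟨a, b⟩ := p
      rw [T.tor2_apply, ChevSimple.torC_apply, ev, Matrix.diagonal_mulVec_single, ← Pi.single_smul]
      simp [ChevSimple.chiIdx, ChevSimple.chi, wt]
    obtain ⟨l1, h1⟩ := hrep 1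
    obtain ⟨l2, h2⟩ := hrep 2
    obtain ⟨m0, u0⟩ := hup 0
    obtain ⟨m1, u1⟩ := hup 1
    obtain ⟨m2, u2⟩ := hup 2
    simp [ix, oneK, Units.val_mul, ← Matrix.mulVec_mulVec, hdiag, Matrix.mulVec_smul, Tw.upK]
      at h0 h1 h2 u0 u1 u2
    rw [u0] at h0
    rw [u1] at h1
    rw [u2] at h2
    have q0 := congrFun h0 (Sum.inr (rt 46))
    have q1 := congrFun h1 (Sum.inr (rt 45))
    have q2 := congrFun h1 (Sum.inr (rt 46))
    have q3 := congrFun h2 (Sum.inr (rt 46))
    have hne : rt 46 ≠ rt 45 ∧ rt 46 ≠ rt 44 ∧ rt 46 ≠ rt 43 ∧ rt 45 ≠ rt 44 := by decide +kernel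
    obtain ⟨n5, n4', n3, n54⟩ := hne
    simp [ev, Pi.single_apply, n5, n4', n3, n54, n5.symm] at q0 q1 q2 q3
    have c46 : p.1 / p.2 = 1 := by rw [← (T.mk4_chi p).2.1]; exact q0
    have c45 : T.θU p.1 ^ 2 / p.1 = 1 := by rw [← (T.mk4_chi p).2.2.1]; exact q1
    have hp1 : p.1 = 1 := T.θU_sq_fix (div_eq_one.1 c45)
    have hp2 : p.2 = 1 := by rw [← div_eq_one.1 c46, hp1]
    obtain rfl : p = (1, 1) := Prod.ext hp1 hp2
    simp [q2, q3, Tw.clsE, Tw.clsG, x_zero]
    exact map_one T.tor2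
  · exfalso
    obtain ⟨c, rfl⟩ := exists_torC T hh
    set n := nJ K true
    have hrow : RowP n (dP (dJ true)) := by
      have := (rowP_nJ_inv (K := K) true).inv
      rwa [inv_inv, ← map_inv, inv_eq_of_mul_eq_one_right (dJ_sq true)] at this
    obtain ⟨⟨o1, o2⟩, p1, -⟩ := ix_facts
    have e2 : u⁻¹ * d = torC D c * (n * v) := by rw [← e]; group
    have e3 := congrArg (fun g : GL D.Idx K =>
      (g : Matrix D.Idx D.Idx K).mulVec (ev K 46) (Sum.inr (rt 42))) e2
    have hui := (T.U1_lower (inv_mem hu)).2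
    have hne : rt 42 ≠ rt 46 ∧ rt 42 ≠ rt 44 := by decide +kernel
    have hrhs : ((torC D c * (n * v) : GL D.Idx K) : Matrix D.Idx D.Idx K).mulVec (ev K 46)
        (Sum.inr (rt 42)) = (ChevSimple.chi c (rt 42) : K) := by
      rw [ev, Matrix.mulVec_single_one, Matrix.col_apply, Units.val_mul, ChevSimple.torC_apply,
        Matrix.diagonal_mul, Units.val_mul, hrow, dP_apply, p1, (T.U1_lower hv).1, mul_one]
      rfl
    rw [hrhs, Units.val_mul, ← Matrix.mulVec_mulVec, h0, Matrix.mulVec_add, Matrix.mulVec_smul] at e3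
    generalize u⁻¹ = u' at e3 hui
    simp [ev, hui _ _ (by simpa using hne.1) o1, hui _ _ (by simpa using hne.2) o2] at e3
    exact (ChevSimple.chi c (rt 42)).ne_zero e3.symm

end CfsgLib.ReeF4
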