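import Cfsg.Agent.ReeF4Square.Basic

/-!
# Rewriting `y d` as `a h w` in a rank one subgroup of ²F₄

For `y ≠ 1` in the root group of an orbit of nodes and a prescribed `h` of the torus of the orbit
there is `d` in the opposite root group with `y d ∈ V¹ h U¹`. The torus part is read off two diagonal
entries.
-/

set_option autoImplicit false
set_option maxHeartbeats 1000000

namespace CfsgLib.ReeF4

open Cfsg.Lie CfsgLib.Chevalley
open scoped MatrixGroups

variable {K : Type*} [Field K] [CharP K 2] (T : Tw K) [Finite K]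

/-- `U¹H¹ ∪ U¹H¹nU¹`. -/
def Tw.inPar (j : Bool) (g : GL D.Idx K) : Prop :=
  (∃ u ∈ T.U1, ∃ h ∈ T.H1, u * h = g) ∨ T.inCell (nJ K j) g

theorem Tw.nD_dJ_div (j : Bool) : nD K (dJ j) * (nJ K j)⁻¹ ∈ T.H1 :=
  Subgroup.mem_inf.2 ⟨diag_of_monBy (nD_monomial _) (nJ_monomial j) (monBy_nD _) (monBy_nJ j),
    mul_mem (T.nD_fix _) (inv_mem (T.nJ_fix j))⟩

theorem Tw.nJ_sq_mem (j : Bool) : nJ K j * nJ K j ∈ T.H1 := by
  have hp : MonBy hW (nJ K j * nJ K j) (1 : Equiv.Perm (Root D)) := by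
    rw [← map_one dP, ← dJ_sq j, map_mul]
    exact (monBy_nJ j).mul (monBy_nJ j)
  have := diag_of_monBy (mul_mem (nJ_monomial j) (nJ_monomial j)) (one_mem _) hp (MonBy.one hW)
  rw [inv_one, mul_one] at this
  exact Subgroup.mem_inf.2 ⟨this, mul_mem (T.nJ_fix j) (T.nJ_fix j)⟩

theorem Tw.inPar_mul_U1 {j : Bool} {g w : GL D.Idx K} (hg : T.inPar j g) (hw : w ∈ T.U1) :
    T.inPar j (g * w) := by
  rcases hg with ⟨u, hu, h, hh, rfl⟩ | ⟨u, hu, h, hh, v, hv, rfl⟩
  · exact Or.inl ⟨u * (h * w * h⁻¹), mul_mem hu (T.conj_U1 hh hw), h, hh, by group⟩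
  · exact Or.inr ⟨u, hu, h, hh, v * w, mul_mem hv hw, by group⟩

theorem Tw.inPar_mul_H1 {j : Bool} {g k : GL D.Idx K} (hg : T.inPar j g) (hk : k ∈ T.H1) :
    T.inPar j (g * k) := by
  rcases hg with ⟨u, hu, h, hh, rfl⟩ | ⟨u, hu, h, hh, v, hv, rfl⟩
  · exact Or.inl ⟨u, hu, h * k, mul_mem hh hk, by group⟩
  · exact Or.inr ⟨u, hu, h * (nJ K j * k * (nJ K j)⁻¹),
      mul_mem hh (T.conj_H1 (nJ_monomial j) (T.nJ_fix j) hk), k⁻¹ * v * k,
      by have := T.conj_U1 (inv_mem hk) hv; rwa [inv_inv] at this, by group⟩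

theorem Tw.inPar_nJ_mul_nJ (j : Bool) {y : GL D.Idx K} (hy : y ∈ T.U1) :
    T.inPar j (nJ K j * y * nJ K j) := by
  set n := nJ K j with hn
  set k := nD K (dJ j) * n⁻¹ with hk
  have hkH : k ∈ T.H1 := T.nD_dJ_div j
  have hy' : k * y * k⁻¹ ∈ T.U1 := T.conj_U1 hkH hy
  have hl : n * k⁻¹ * n⁻¹ ∈ T.H1 := T.conj_H1 (nJ_monomial j) (T.nJ_fix j) (inv_mem hkH)
  have e : n * y * n = (n * k⁻¹ * n⁻¹) * (n * (k * y * k⁻¹) * nD K (dJ j)) := by
    rw [hk]; group
  rw [e]
  rcases T.nJ_mul_U1_mul j hy' (dJ j) with ⟨u, hu, h, hh, v, hv, e'⟩ | ⟨u, hu, h, hh, v, hv, e'⟩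
  · have hnn : n * nD K (dJ j) ∈ T.H1 := by
      have e2 : n * nD K (dJ j) = n * k * n⁻¹ * (n * n) := by rw [hk]; group
      rw [e2]
      exact mul_mem (T.conj_H1 (nJ_monomial j) (T.nJ_fix j) hkH) (T.nJ_sq_mem j)
    set l := n * k⁻¹ * n⁻¹
    set p := n * nD K (dJ j)
    refine Or.inl ⟨(l * u * l⁻¹) * ((l * h * p) * v * (l * h * p)⁻¹),
      mul_mem (T.conj_U1 hl hu) (T.conj_U1 (mul_mem (mul_mem hl hh) hnn) hv),
      l * h * p, mul_mem (mul_mem hl hh) hnn, ?_⟩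
    rw [← e']
    group
  · set l := n * k⁻¹ * n⁻¹
    refine Or.inr ⟨l * u * l⁻¹, T.conj_U1 hl hu, l * h * k, mul_mem (mul_mem hl hh) hkH, v, hv, ?_⟩
    rw [← e', show nD K (dJ j) = k * n by rw [hk]; group, ← hn]
    group

theorem Tw.inPar_mul_nJ {j : Bool} {g : GL D.Idx K} (hg : T.inPar j g) :
    T.inPar j (g * nJ K j) := by
  rcases hg with ⟨u, hu, h, hh, rfl⟩ | ⟨u, hu, h, hh, v, hv, rfl⟩
  · exact Or.inr ⟨u, hu, h, hh, 1, one_mem _, by group⟩
  · rcases T.inPar_nJ_mul_nJ j hv with ⟨u', hu', h', hh', e⟩ | ⟨u', hu', h', hh', v', hv', e⟩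
    · refine Or.inl ⟨u * (h * u' * h⁻¹), mul_mem hu (T.conj_U1 hh hu'), h * h', mul_mem hh hh', ?_⟩
      rw [show u * h * nJ K j * v * nJ K j = u * h * (nJ K j * v * nJ K j) by group, ← e]
      group
    · refine Or.inr ⟨u * (h * u' * h⁻¹), mul_mem hu (T.conj_U1 hh hu'), h * h', mul_mem hh hh',
        v', hv', ?_⟩
      rw [show u * h * nJ K j * v * nJ K j = u * h * (nJ K j * v * nJ K j) by group, ← e]
      group

/-- The two possible shapes of `y · n z n⁻¹`. -/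
theorem Tw.mul_conj_cases (j : Bool) {y z : GL D.Idx K} (hy : y ∈ T.U1) (hz : z ∈ T.U1) :
    (∃ u ∈ T.U1, ∃ h ∈ T.H1, (nJ K j)⁻¹ * (u * h) = y * (nJ K j * z * (nJ K j)⁻¹)) ∨
      ∃ a ∈ T.Xm j, ∃ h ∈ T.H1, ∃ w ∈ T.U1, a * h * w = y * (nJ K j * z * (nJ K j)⁻¹) := by
  set n := nJ K j with hn
  have h1 : T.inPar j (n * y * n * z * n⁻¹) := by
    have := T.inPar_mul_H1 (T.inPar_mul_nJ (T.inPar_mul_U1 (T.inPar_nJ_mul_nJ j hy) hz))
      (inv_mem (T.nJ_sq_mem j))
    convert this using 1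
    rw [← hn]; group
  rcases h1 with ⟨u, hu, h, hh, e⟩ | ⟨u, hu, h, hh, v, hv, e⟩
  · exact Or.inl ⟨u, hu, h, hh, by rw [e]; group⟩
  · refine Or.inr ?_
    obtain ⟨c, hc, w, hw, rfl⟩ := T.exists_split_U1 j hu
    have hmi : MonBy hW n⁻¹ (dP (dJ j)) := by
      have := (monBy_nJ (K := K) j).inv
      rwa [← map_inv, inv_eq_of_mul_eq_one_right (dJ_sq j)] at this
    have hfi : n⁻¹ ∈ T.fix := inv_mem (T.nJ_fix j)
    have ha : n⁻¹ * w * n⁻¹⁻¹ ∈ T.Xm j := by
      obtain ⟨w1, w2⟩ := Subgroup.mem_inf.1 hw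
      refine Subgroup.mem_inf.2 ⟨?_, mul_mem (mul_mem hfi w2) (inv_mem hfi)⟩
      rw [uS_zero_eq] at w1
      exact conj_set hmi (P := clsN j) (fun r hr => cls_image j r hr) w1
    have hc' : w⁻¹ * c * w⁻¹⁻¹ ∈ T.UP j := T.conj_UP (inv_mem (T.Xp_le_Lv j hw)) hc
    have hx : n⁻¹ * (w⁻¹ * c * w) * n⁻¹⁻¹ ∈ T.U1 := by
      rw [inv_inv w] at hc'
      exact T.move_U1 hmi hfi (fun r hr => (set_root (complS_set j) ((dJ_facts j r).2 hr).1).1) hc'
    have hh' : n⁻¹ * h * n ∈ T.H1 := by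
      have := T.conj_H1 (inv_mem (nJ_monomial j)) hfi hh
      rwa [inv_inv] at this
    set h' := n⁻¹ * h * n
    set x := n⁻¹ * (w⁻¹ * c * w) * n⁻¹⁻¹
    have hx' : h'⁻¹ * x * h' ∈ T.U1 := by
      have := T.conj_U1 (inv_mem hh') hx
      rwa [inv_inv] at this
    refine ⟨_, ha, h', hh', h'⁻¹ * x * h' * v, mul_mem hx' hv, ?_⟩
    rw [show y * (n * z * n⁻¹) = n⁻¹ * (n * y * n * z * n⁻¹) by group, ← e, ← hn]
    simp only [x, h']
    group

/-! ### The diagonal entries -/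

omit [Finite K] in
theorem Tw.U1_lower {u : GL D.Idx K} (hu : u ∈ T.U1) :
    IsLower false (u : Matrix D.Idx D.Idx K) :=
  isLower_of_mem hW.good (m := 0) (by
    have := (Subgroup.mem_inf.1 hu).1
    rw [posUnipotent_eq hW.good] at this
    exact uGe_mono hW.good (Nat.zero_le _) this)

omit [Finite K] in
theorem exists_torC {h : GL D.Idx K} (hh : h ∈ T.H1) : ∃ c, torC D c = h := by
  have := (Subgroup.mem_inf.1 hh).1
  rwa [diagonalSubgroup_eq_range hW] at this

/-- A row fixed by the opposite root group. -/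
def chkRow (j : Bool) (k : Root D) : Bool :=
  (List.finRange D.nroots).all fun r => !clsN j r || (decide (k ≠ r) &&
    (List.finRange D.nroots).all fun s => (D.chainEntry r s).all fun q => decide (q.1 ≠ (k : ℕ)))

omit [Finite K] in
theorem Tw.diag_entry {j : Bool} {k : Root D} (hk : chkRow j k = true) {a u : GL D.Idx K}
    (ha : a ∈ T.Xm j) (c : Fin D.rank → Kˣ) (hu : u ∈ T.U1) :
    ((a * torC D c * u : GL D.Idx K) : Matrix D.Idx D.Idx K) (Sum.inr k) (Sum.inr k) =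
      (ChevSimple.chi c k : K) := by
  simp only [chkRow, List.all_eq_true, Bool.or_eq_true, Bool.not_eq_true', Bool.and_eq_true,
    decide_eq_true_eq] at hk
  have hrow := rootGen_row_unit k (S := {r | clsN j r = true}) (fun r hr => by
    obtain ⟨h1, h2⟩ := (hk r (List.mem_finRange r)).resolve_left
      (by simp only [Set.mem_ofPred_eq] at hr; simp [hr])
    exact ⟨h1, fun s => List.all_eq_true.2 fun q hq => decide_eq_true
      (h2 s (List.mem_finRange s) q hq)⟩) (Subgroup.mem_inf.1 ha).1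
  rw [mul_assoc, Units.val_mul, Matrix.mul_apply,
    Finset.sum_congr rfl fun x _ => by rw [hrow x]]
  simp [Matrix.one_apply, Units.val_mul, ChevSimple.torC_apply, Matrix.diagonal_mul,
    (T.U1_lower hu).1, ChevSimple.chiIdx, ChevSimple.chi, wt]

omit [Finite K] in
/-- The entry on the diagonal of `n⁻¹ u h` at a root lowered by `n`. -/
theorem Tw.diag_entry_zero {j : Bool} {k : Root D}
    (hk : dp (dJ j) k ≠ k ∧ ord false (Sum.inr (dp (dJ j) k) : D.Idx) ≤ ord false (Sum.inr k : D.Idx))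
    {u : GL D.Idx K} (hu : u ∈ T.U1) (c : Fin D.rank → Kˣ) :
    (((nJ K j)⁻¹ * (u * torC D c) : GL D.Idx K) : Matrix D.Idx D.Idx K) (Sum.inr k) (Sum.inr k) =
      0 := by
  rw [Units.val_mul, rowP_nJ_inv j, Units.val_mul, ChevSimple.torC_apply, Matrix.mul_diagonal,
    dP_apply, (T.U1_lower hu).2 _ _ (by simpa using hk.1) hk.2, zero_mul]

theorem test_facts :
    (chkRow false (rt 47) = true ∧ chkRow false (rt 45) = true ∧ chkRow true (rt 46) = true ∧
      chkRow true (rt 47) = true) ∧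
    (dp (dJ false) (rt 47) ≠ rt 47 ∧ ord false (Sum.inr (dp (dJ false) (rt 47)) : D.Idx) ≤
      ord false (Sum.inr (rt 47) : D.Idx)) ∧
    (dp (dJ true) (rt 46) ≠ rt 46 ∧ ord false (Sum.inr (dp (dJ true) (rt 46)) : D.Idx) ≤
      ord false (Sum.inr (rt 46) : D.Idx)) := by
  decide +kernel

theorem cartan_rows :
    [47, 46, 45, 24, 25].map (fun r => (List.range 4).map fun k => D.cartan k (rt r)) =
      [[0, 0, 0, 1], [0, 0, 1, -1], [0, 2, -1, 0], [0, 0, -1, 2], [0, -2, 2, -1]] := by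
  decide +kernel

omit [CharP K 2] [Finite K] in
theorem chi_eq (c : Fin D.rank → Kˣ) :
    ChevSimple.chi c (rt 47) = c (nd 3) ∧ ChevSimple.chi c (rt 46) = c (nd 2) / c (nd 3) ∧
    ChevSimple.chi c (rt 45) = c (nd 1) ^ 2 / c (nd 2) ∧
    ChevSimple.chi c (rt 24) = c (nd 3) ^ 2 / c (nd 2) ∧
    ChevSimple.chi c (rt 25) = c (nd 2) ^ 2 / (c (nd 1) ^ 2 * c (nd 3)) := by
  obtain ⟨v0, v1, v2, v3⟩ := nd_vals.1
  have hc := cartan_rows
  simp only [List.map_cons, List.map_nil, List.range_succ, List.range_zero, List.nil_append,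
    List.cons_append, List.cons.injEq, and_true] at hc
  obtain ⟨⟨a0, a1, a2, a3⟩, ⟨b0, b1, b2, b3⟩, ⟨c0, c1, c2, c3⟩, ⟨d0, d1, d2, d3⟩,
    e0, e1, e2, e3⟩ := hc
  simp only [ChevSimple.chi, prod_nodes, v0, v1, v2, v3]
  refine ⟨?_, ?_, ?_, ?_, ?_⟩
  · simp [a0, a1, a2, a3]
  · simp [b0, b1, b2, b3, div_eq_mul_inv]
  · simp [c0, c1, c2, c3, zpow_ofNat, div_eq_mul_inv]
  · simp [d0, d1, d2, d3, zpow_ofNat, div_eq_mul_inv, mul_comm]
  · simp [e0, e1, e2, e3, zpow_ofNat, div_eq_mul_inv, zpow_neg, mul_comm, mul_left_comm, mul_assoc]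

/-- The character of the two simple orbits on the fixed torus. -/
def Tw.chS (j : Bool) (p : Kˣ × Kˣ) : Kˣ :=
  if j then p.1 ^ 2 / (T.θU p.1 ^ 2 * p.2) else p.2 ^ 2 / p.1

omit [Finite K] in
theorem Tw.mk4_chi (p : Kˣ × Kˣ) :
    let c : Fin D.rank → Kˣ := mk4 (T.θU p.2) (T.θU p.1) p.1 p.2
    ChevSimple.chi c (rt 47) = p.2 ∧ ChevSimple.chi c (rt 46) = p.1 / p.2 ∧
    ChevSimple.chi c (rt 45) = T.θU p.1 ^ 2 / p.1 ∧
    ChevSimple.chi c (rt 24) = T.chS false p ∧ ChevSimple.chi c (rt 25) = T.chS true p := by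
  simp only [chi_eq, mk4_apply, Tw.chS]
  simp

omit [Finite K] in
theorem Tw.exists_tor2_sq {h : GL D.Idx K} (hh : h ∈ T.H1) : ∃ p, T.tor2 p = h := by
  rw [Tw.H1, T.diag_inf_fix] at hh
  exact hh

omit [Finite K] in
theorem Tw.θU_sq_fix {a : Kˣ} (h : T.θU a ^ 2 = a) : a = 1 := by
  have e1 : T.θU a = a := by
    calc T.θU a = T.θU (T.θU a ^ 2) := by rw [h]
      _ = T.θU (T.θU a) ^ 2 := map_pow _ _ _
      _ = a := T.θU_θU_sq a
  have e2 : a * a = a * 1 := by rw [mul_one, ← sq]; rwa [e1] at h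
  exact mul_left_cancel e2

/-! ### The two classes -/

omit [Finite K] in
/-- The column computation for the first orbit. -/
theorem Tw.entry_pair (b t : K) :
    ((T.pairE false b * T.pairE true t : GL D.Idx K) : Matrix D.Idx D.Idx K)
        (Sum.inr (rt 47)) (Sum.inr (rt 47)) = 1 + t * b ∧
      ((T.pairE false b * T.pairE true t : GL D.Idx K) : Matrix D.Idx D.Idx K)
        (Sum.inr (rt 45)) (Sum.inr (rt 45)) = 1 := by
  have key : ∀ (g : GL D.Idx K) k,
      (g : Matrix D.Idx D.Idx K) (Sum.inr (rt k)) (Sum.inr (rt k)) =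
      ((g : Matrix D.Idx D.Idx K).mulVec (ev K k)) (Sum.inr (rt k)) := fun g k => by simp [ev]
  have c14_47 := x_mulVec_ev (K := K) 14 47 [] (by decide +kernel) (T.θ t)
  have c14_46 := x_mulVec_ev (K := K) 14 46 [] (by decide +kernel) (T.θ t)
  have c14_45 := x_mulVec_ev (K := K) 14 45 [] (by decide +kernel) (T.θ t)
  have c23_47 := x_mulVec_ev (K := K) 23 47 [(46, 1)] (by decide +kernel) t
  have c23_45 := x_mulVec_ev (K := K) 23 45 [] (by decide +kernel) t
  have c24_47 := x_mulVec_ev (K := K) 24 47 [] (by decide +kernel) b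
  have c24_46 := x_mulVec_ev (K := K) 24 46 [(47, 1)] (by decide +kernel) b
  have c24_45 := x_mulVec_ev (K := K) 24 45 [] (by decide +kernel) b
  have c33_47 := x_mulVec_ev (K := K) 33 47 [] (by decide +kernel) (T.θ b)
  have c33_46 := x_mulVec_ev (K := K) 33 46 [] (by decide +kernel) (T.θ b)
  have c33_45 := x_mulVec_ev (K := K) 33 45 [] (by decide +kernel) (T.θ b)
  simp only [List.zipIdx_nil, List.zipIdx_cons, List.map_nil, List.map_cons, List.sum_nil,
    List.sum_cons, add_zero, zero_add, pow_one, Int.cast_one, mul_one] at c14_47 c14_46 c14_45 c23_47 c23_45 c24_47 c24_46 c24_45 c33_47 c33_46 c33_45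
  have hne : rt 47 ≠ rt 46 := by decide +kernel
  rw [key _ 47, key _ 45]
  constructor <;>
    simp only [Tw.pairE, if_true, Bool.false_eq_true, if_false, Units.val_mul,
      ← Matrix.mulVec_mulVec, Matrix.mulVec_add, Matrix.mulVec_smul, c14_47, c14_46, c14_45,
      c23_47, c23_45, c24_47, c24_46, c24_45, c33_47, c33_46, c33_45]
  · simp [ev, Pi.single_apply, hne]
  · simp [ev]

omit [Finite K] in
/-- The column computations for the second orbit. -/
theorem Tw.entry_cls (t u s v : K) :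
    ((T.clsE false t u * T.clsE true s v : GL D.Idx K) : Matrix D.Idx D.Idx K)
        (Sum.inr (rt 46)) (Sum.inr (rt 46)) =
      1 + t * s + T.θ u ^ 2 * (T.θ v ^ 2 + s * T.θ s ^ 2) +
        (T.θ t ^ 2 * t ^ 2 + u ^ 2 + t * T.θ u ^ 2) *
          (T.θ s ^ 2 * s ^ 2 + v ^ 2 + s * T.θ v ^ 2) ∧
      ((T.clsE false t u * T.clsE true s v : GL D.Idx K) : Matrix D.Idx D.Idx K)
        (Sum.inr (rt 47)) (Sum.inr (rt 47)) = 1 := by
  have h2 : (2 : K) = 0 := CharTwo.two_eq_zero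
  have hm : (-1 : K) = 1 := CharTwo.neg_eq 1
  have key : ∀ (g : GL D.Idx K) k,
      (g : Matrix D.Idx D.Idx K) (Sum.inr (rt k)) (Sum.inr (rt k)) =
      ((g : Matrix D.Idx D.Idx K).mulVec (ev K k)) (Sum.inr (rt k)) := fun g k => by simp [ev]
  have a17_47 := fun w : K => x_mulVec_ev 17 47 [] (by decide +kernel) w
  have a17_46 := fun w : K => x_mulVec_ev 17 46 [(43, -1)] (by decide +kernel) w
  have a19_47 := fun w : K => x_mulVec_ev 19 47 [] (by decide +kernel) w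
  have a19_46 := fun w : K => x_mulVec_ev 19 46 [(44, 1), (42, -1)] (by decide +kernel) w
  have a19_43 := fun w : K => x_mulVec_ev 19 43 [] (by decide +kernel) w
  have a22_47 := fun w : K => x_mulVec_ev 22 47 [] (by decide +kernel) w
  have a22_46 := fun w : K => x_mulVec_ev 22 46 [(45, 1)] (by decide +kernel) w
  have a22_44 := fun w : K => x_mulVec_ev 22 44 [] (by decide +kernel) w
  have a22_43 := fun w : K => x_mulVec_ev 22 43 [(42, 1)] (by decide +kernel) w
  have a22_42 := fun w : K => x_mulVec_ev 22 42 [] (by decide +kernel) w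
  have a20_47 := fun w : K => x_mulVec_ev 20 47 [] (by decide +kernel) w
  have a20_46 := fun w : K => x_mulVec_ev 20 46 [] (by decide +kernel) w
  have a20_45 := fun w : K => x_mulVec_ev 20 45 [(44, 1), (43, 1)] (by decide +kernel) w
  have a20_44 := fun w : K => x_mulVec_ev 20 44 [(43, 2)] (by decide +kernel) w
  have a20_43 := fun w : K => x_mulVec_ev 20 43 [] (by decide +kernel) w
  have a20_42 := fun w : K => x_mulVec_ev 20 42 [] (by decide +kernel) w
  have b30_47 := fun w : K => x_mulVec_ev 30 47 [] (by decide +kernel) w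
  have b30_46 := fun w : K => x_mulVec_ev 30 46 [] (by decide +kernel) w
  have b30_45 := fun w : K => x_mulVec_ev 30 45 [] (by decide +kernel) w
  have b30_44 := fun w : K => x_mulVec_ev 30 44 [] (by decide +kernel) w
  have b30_43 := fun w : K => x_mulVec_ev 30 43 [(46, -1)] (by decide +kernel) w
  have b30_42 := fun w : K => x_mulVec_ev 30 42 [(45, -1)] (by decide +kernel) w
  have b28_47 := fun w : K => x_mulVec_ev 28 47 [] (by decide +kernel) w
  have b28_46 := fun w : K => x_mulVec_ev 28 46 [] (by decide +kernel) w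
  have b28_45 := fun w : K => x_mulVec_ev 28 45 [] (by decide +kernel) w
  have b28_44 := fun w : K => x_mulVec_ev 28 44 [(46, 2)] (by decide +kernel) w
  have b28_43 := fun w : K => x_mulVec_ev 28 43 [] (by decide +kernel) w
  have b28_42 := fun w : K => x_mulVec_ev 28 42 [(44, -1), (46, -1)] (by decide +kernel) w
  have b25_47 := fun w : K => x_mulVec_ev 25 47 [] (by decide +kernel) w
  have b25_46 := fun w : K => x_mulVec_ev 25 46 [] (by decide +kernel) w
  have b25_45 := fun w : K => x_mulVec_ev 25 45 [(46, 1)] (by decide +kernel) w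
  have b25_44 := fun w : K => x_mulVec_ev 25 44 [] (by decide +kernel) w
  have b25_43 := fun w : K => x_mulVec_ev 25 43 [] (by decide +kernel) w
  have b25_42 := fun w : K => x_mulVec_ev 25 42 [(43, 1)] (by decide +kernel) w
  have b27_47 := fun w : K => x_mulVec_ev 27 47 [] (by decide +kernel) w
  have b27_46 := fun w : K => x_mulVec_ev 27 46 [] (by decide +kernel) w
  have b27_45 := fun w : K => x_mulVec_ev 27 45 [] (by decide +kernel) w
  have b27_44 := fun w : K => x_mulVec_ev 27 44 [(45, 2)] (by decide +kernel) w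
  have b27_43 := fun w : K => x_mulVec_ev 27 43 [(44, 1), (45, 1)] (by decide +kernel) w
  have b27_42 := fun w : K => x_mulVec_ev 27 42 [] (by decide +kernel) w
  simp only [List.zipIdx_nil, List.zipIdx_cons, List.map_nil, List.map_cons, List.sum_nil,
    List.sum_cons, add_zero, zero_add, pow_one, Int.cast_one, mul_one, Int.cast_neg,
    Int.cast_ofNat, h2, hm, mul_zero, zero_smul] at a17_47 a17_46 a19_47 a19_46 a19_43 a22_47 a22_46 a22_44 a22_43 a22_42 a20_47 a20_46 a20_45 a20_44 a20_43 a20_42 b30_47 b30_46 b30_45 b30_44 b30_43 b30_42 b28_47 b28_46 b28_45 b28_44 b28_43 b28_42 b25_47 b25_46 b25_45 b25_44 b25_43 b25_42 b27_47 b27_46 b27_45 b27_44 b27_43 b27_42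
  have hne : rt 46 ≠ rt 45 ∧ rt 46 ≠ rt 44 ∧ rt 46 ≠ rt 43 ∧ rt 46 ≠ rt 42 := by decide +kernel
  obtain ⟨n5, n4', n3, n2⟩ := hne
  rw [key _ 46, key _ 47]
  constructor <;>
    simp only [Tw.clsE, Tw.clsG, if_true, Bool.false_eq_true, if_false, Units.val_mul,
      ← Matrix.mulVec_mulVec, Matrix.mulVec_add, Matrix.mulVec_smul, smul_add, smul_smul,
      a17_47, a17_46, a19_47, a19_46, a19_43, a22_47, a22_46, a22_44, a22_43, a22_42, a20_47,
      a20_46, a20_45, a20_44, a20_43, a20_42, b30_47, b30_46, b30_45, b30_44, b30_43, b30_42,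
      b28_47, b28_46, b28_45, b28_44, b28_43, b28_42, b25_47, b25_46, b25_45, b25_44, b25_43,
      b25_42, b27_47, b27_46, b27_45, b27_44, b27_43, b27_42]
  · simp only [ev, Pi.add_apply, Pi.smul_apply, Pi.single_apply, Sum.inr.injEq, if_true,
      n5, n4', n3, n2, if_false, smul_eq_mul]
    have e1 := T.θ_θ_sq u
    have h4 : (4 : K) = 0 := by linear_combination (2 : K) * h2
    linear_combination (norm := ring_nf) (0 : K) * e1
    simp [h2, h4]
  · simp [ev]

omit [Finite K] in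
/-- The norm of the second orbit vanishes only at the origin. -/
theorem Tw.norm_ne_zero {t u : K} (h : t ≠ 0 ∨ u ≠ 0) :
    T.θ t ^ 2 * t ^ 2 + u ^ 2 + t * T.θ u ^ 2 ≠ 0 := by
  intro e
  rcases eq_or_ne t 0 with rfl | ht
  · simp at e
    exact h.elim (fun h => h rfl) fun h => h e
  set w := u / (t * T.θ t) with hw
  have hθt : T.θ t ≠ 0 := by simpa using (map_ne_zero T.θ).2 ht
  have hu : u = w * (t * T.θ t) := by rw [hw]; field_simp
  rw [hu, map_mul, map_mul] at e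
  have e2 : T.θ t ^ 2 * t ^ 2 * (1 + w ^ 2 + T.θ w ^ 2) = 0 := by
    rw [← e]
    linear_combination (-(T.θ t ^ 2 * T.θ w ^ 2 * t)) * T.θ_θ_sq t
  have e3 : T.θ w ^ 2 = 1 + w ^ 2 := by
    have := (mul_eq_zero.1 e2).resolve_left (by positivity)
    rw [← CharTwo.add_eq_zero]
    linear_combination this
  have e4 : w ^ 2 = 1 + (T.θ w ^ 2) ^ 2 := by
    have := congrArg (fun z => T.θ z ^ 2) e3
    simp only [map_add, map_one, map_pow, CharTwo.add_sq, one_pow] at this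
    rw [← this, ← pow_mul, pow_mul', T.θ_θ_sq]
  rw [e3, CharTwo.add_sq, one_pow, ← pow_mul, ← add_assoc, CharTwo.add_self_eq_zero,
    zero_add] at e4
  have e5 : w * (w - 1) = 0 := by
    have h6 : (w * (w - 1)) ^ 2 = 0 := by
      rw [CharTwo.sub_eq_add, mul_add, CharTwo.add_sq, mul_one]
      linear_combination e4 + (w ^ 4) * (CharTwo.two_eq_zero (R := K))
    exact pow_eq_zero_iff two_ne_zero |>.1 h6
  rcases mul_eq_zero.1 e5 with e6 | e6
  · simp [e6] at e3
  · rw [sub_eq_zero] at e6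
    simp [e6, CharTwo.add_self_eq_zero] at e3

/-- The element of the torus of an orbit. -/
def Tw.torJ (j : Bool) (s : Kˣ) : GL D.Idx K := T.tor2 (if j then (s, 1) else (1, s))

omit [Finite K] in
theorem Tw.torJ_mem_H1 (j : Bool) (s : Kˣ) : T.torJ j s ∈ T.H1 := by
  rw [Tw.H1, T.diag_inf_fix]; exact ⟨_, rfl⟩

theorem cls_pair_eq : ∀ r : Root D, clsS false r = true → r = rt 33 ∨ r = rt 24 := by decide +kernel

theorem cls_slots : (∀ i : Fin 12, clsS false (lb i) = true → i = 0) ∧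
    (∀ i : Fin 12, clsS true (lb i) = true → i = 1 ∨ i = 3) ∧
    (la 0 = rt 33 ∧ lb 0 = rt 24 ∧ extra 0 = []) ∧
    (la 1 = rt 27 ∧ lb 1 = rt 25 ∧ extra 1 = [rt 28]) ∧
    (la 3 = rt 28 ∧ lb 3 = rt 30 ∧ extra 3 = []) := by
  decide +kernel

omit [Finite K] in
theorem lift_zero_eq (t : K) : T.lift 0 t = T.pairE false t := by
  obtain ⟨-, -, ⟨h1, h2, h3⟩, -⟩ := cls_slots
  simp [Tw.lift, Tw.pairE, h1, h2, h3]

omit [Finite K] in
theorem cls_lifts (t w : K) : T.lift 1 t * T.lift 3 w = T.clsE false t (T.θ w) := by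
  obtain ⟨-, -, -, ⟨h1, h2, h3⟩, h4, h5, h6⟩ := cls_slots
  simp [Tw.lift, Tw.clsE, Tw.clsG, h1, h2, h3, h4, h5, h6, T.θ_θ_sq, ← mul_assoc]
  rw [mul_assoc (_ * _) (x K (rt 28) _) (x K (rt 28) _), x_mul]

theorem Tw.Xp_pair {y : GL D.Idx K} (hy : y ∈ T.Xp false) : ∃ b, y = T.pairE false b := by
  let L : Subgroup (GL D.Idx K) :=
    { carrier := {g | ∃ b, g = T.pairE false b}
      one_mem' := ⟨0, by simp [Tw.pairE, x_zero]⟩
      mul_mem' := by
        rintro _ _ ⟨b, rfl⟩ ⟨c, rfl⟩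
        refine ⟨b + c, ?_⟩
        simp only [Tw.pairE, Bool.false_eq_true, if_false, map_add, ← x_mul]
        exact ((commute_24_33 b (T.θ c)).mul_mul_mul_comm _ _)
      inv_mem' := by
        rintro _ ⟨b, rfl⟩
        refine ⟨b, inv_eq_of_mul_eq_one_right ?_⟩
        simp only [Tw.pairE, Bool.false_eq_true, if_false]
        rw [(commute_24_33 b (T.θ b)).mul_mul_mul_comm, x_mul, x_mul, CharTwo.add_self_eq_zero,
          CharTwo.add_self_eq_zero, x_zero, x_zero, one_mul] }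
  exact T.uF_le (clsS_set false) (L := L)
    (fun i hi t => by obtain rfl := cls_slots.1 i hi; exact ⟨t, lift_zero_eq T t⟩) 0 hy

theorem cls_drop : ∀ i : Fin 12, i ≠ 1 → i ≠ 3 → clsS true (lb i) = false := by decide +kernel

theorem Tw.uF_succ_cls {i : Fin 12} (hi : i ≠ 1) (hi' : i ≠ 3) {g : GL D.Idx K}
    (hg : g ∈ T.uF (clsS true) i) : g ∈ T.uF (clsS true) ((i : ℕ) + 1) := by
  obtain ⟨t, ht, z, hz, rfl⟩ := T.exists_split_fix (clsS_set true) i hg
  rwa [ht (cls_drop i hi hi'), T.lift_zero, one_mul]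

theorem Tw.uF_cls_eq_bot : ∀ n i : ℕ, 12 ≤ i + n → 4 ≤ i → T.uF (clsS true) i = ⊥ := by
  intro n
  induction n with
  | zero =>
    intro i hi _
    rw [Tw.uF, uS_eq_bot (clsS_set true) (by omega), bot_inf_eq]
  | succ n ih =>
    intro i hi h4
    by_cases h12 : i < 12
    · refine le_antisymm (fun g hg => ?_) bot_le
      have := T.uF_succ_cls (i := ⟨i, h12⟩) (by simp [Fin.ext_iff]; omega)
        (by simp [Fin.ext_iff]; omega) hg
      rwa [ih (i + 1) (by omega) (by omega)] at this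
    · rw [Tw.uF, uS_eq_bot (clsS_set true) (by omega), bot_inf_eq]

theorem Tw.Xp_cls {y : GL D.Idx K} (hy : y ∈ T.Xp true) : ∃ t u, y = T.clsE false t u := by
  have h1 := T.uF_succ_cls (i := 0) (by decide) (by decide) hy
  obtain ⟨t, -, z, hz, rfl⟩ := T.exists_split_fix (clsS_set true) 1 h1
  have h3 := T.uF_succ_cls (i := 2) (by decide) (by decide) hz
  obtain ⟨w, -, z', hz', rfl⟩ := T.exists_split_fix (clsS_set true) 3 h3
  rw [show ((3 : Fin 12) : ℕ) + 1 = 4 from rfl, T.uF_cls_eq_bot 12 4 (by omega) le_rfl,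
    Subgroup.mem_bot] at hz'
  exact ⟨t, T.θ w, by rw [hz', mul_one, cls_lifts]⟩

omit [Finite K] in
theorem Tw.conj_pair (t : K) :
    nJ K false * T.pairE false t * (nJ K false)⁻¹ = T.pairE true t := by
  simp only [Tw.pairE, if_true, Bool.false_eq_true, if_false,
    show ∀ n p q : GL D.Idx K, n * (p * q) * n⁻¹ = (n * p * n⁻¹) * (n * q * n⁻¹) from
      fun n p q => by group, mon_nJ false _ _, dP_apply, base_facts.2.1.1, base_facts.2.1.2]

omit [Finite K] in
theorem Tw.conj_cls (t u : K) :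
    nJ K true * T.clsE false t u * (nJ K true)⁻¹ = T.clsE true t u := by
  obtain ⟨-, -, h1, h2, h3, h4⟩ := base_facts
  simp only [Tw.clsE, Tw.clsG, if_true, Bool.false_eq_true, if_false,
    show ∀ n p q : GL D.Idx K, n * (p * q) * n⁻¹ = (n * p * n⁻¹) * (n * q * n⁻¹) from
      fun n p q => by group, mon_nJ true _ _, dP_apply, h1, h2, h3, h4]

/-- The key step: the torus part can be prescribed. -/
theorem Tw.key (j : Bool) {y : GL D.Idx K} (hy : y ∈ T.Xp j) (hne : y ≠ 1) (s : Kˣ) :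
    ∃ d ∈ T.Xm j, ∃ a ∈ T.V1, ∃ w ∈ T.U1, y * d = a * T.torJ j s * w := by
  have hy1 : y ∈ T.U1 := T.uF_le_U1 (clsS_set j) 0 hy
  have mkXm : ∀ z ∈ T.Xp j, nJ K j * z * (nJ K j)⁻¹ ∈ T.Xm j := by
    intro z hz
    obtain ⟨z1, z2⟩ := Subgroup.mem_inf.1 hz
    refine Subgroup.mem_inf.2 ⟨?_, mul_mem (mul_mem (T.nJ_fix j) z2) (inv_mem (T.nJ_fix j))⟩
    rw [uS_zero_eq] at z1
    exact conj_set (monBy_nJ j) (P := clsN j) (fun r hr => cls_image j r hr) z1
  obtain ⟨⟨r47, r45, r46, r47'⟩, t47, t46⟩ := test_facts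
  cases j
  · obtain ⟨b, rfl⟩ := T.Xp_pair hy
    have hb : b ≠ 0 := fun h => hne (by simp [h, Tw.pairE, x_zero])
    set t : K := (1 + s) / b
    have hz : T.pairE false t ∈ T.Xp false := by
      rw [← lift_zero_eq]
      exact Subgroup.mem_inf.2 ⟨uS_anti (Nat.zero_le _)
        (T.lift_mem_uS (clsS_set false) 0 t (by decide +kernel)), T.lift_fix 0 t⟩
    refine ⟨_, mkXm _ hz, ?_⟩
    obtain ⟨e1, e2⟩ := T.entry_pair b t
    have ev1 : (1 : K) + t * b = (s : K) := by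
      simp only [t, div_mul_cancel₀ _ hb]
      rw [← add_assoc, CharTwo.add_self_eq_zero, zero_add]
    rw [ev1] at e1
    rcases T.mul_conj_cases false hy1 (T.uF_le_U1 (clsS_set false) 0 hz) with
      ⟨u, hu, h, hh, e⟩ | ⟨a, ha, h, hh, w, hw, e⟩
    · exfalso
      obtain ⟨c, rfl⟩ := exists_torC T hh
      have h0 := T.diag_entry_zero t47 hu c
      rw [e, T.conj_pair] at h0
      rw [h0] at e1
      exact s.ne_zero e1.symm
    · refine ⟨a, T.Xm_le_V1 _ ha, w, hw, ?_⟩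
      obtain ⟨p, rfl⟩ := T.exists_tor2_sq hh
      have h1 := T.diag_entry r47 ha (mk4 (T.θU p.2) (T.θU p.1) p.1 p.2) hw
      have h2 := T.diag_entry r45 ha (mk4 (T.θU p.2) (T.θU p.1) p.1 p.2) hw
      rw [← T.tor2_apply, e, T.conj_pair] at h1 h2
      rw [(T.mk4_chi p).1, e1] at h1
      rw [(T.mk4_chi p).2.2.1, e2] at h2
      have hp2 : p.2 = s := Units.ext h1.symm
      have hp1 : p.1 = 1 := T.θU_sq_fix (div_eq_one.1 (Units.ext h2.symm))
      rw [← e, Tw.torJ, show p = (1, s) from Prod.ext hp1 hp2]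
      simp
  · obtain ⟨t, u, rfl⟩ := T.Xp_cls hy
    have htu : t ≠ 0 ∨ u ≠ 0 := by
      by_contra hc
      push Not at hc
      exact hne (by simp [hc.1, hc.2, Tw.clsE, Tw.clsG, x_zero])
    set P := T.θ t ^ 2 * t ^ 2 + u ^ 2 + t * T.θ u ^ 2 with hP
    have hP0 : P ≠ 0 := T.norm_ne_zero htu
    set r : K := T.θ u ^ 2 / P with hr
    obtain ⟨v, hv⟩ : ∃ v : K, v ^ 2 = ((s : K) + 1 + t * r) / P := by
      refine ⟨T.θ (T.θ (((s : K) + 1 + t * r) / P)), ?_⟩
      exact T.θ_θ_sq _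
    have ev1 : 1 + t * r + T.θ u ^ 2 * (T.θ v ^ 2 + r * T.θ r ^ 2) +
        P * (T.θ r ^ 2 * r ^ 2 + v ^ 2 + r * T.θ v ^ 2) = (s : K) := by
      have hPr : P * r = T.θ u ^ 2 := by rw [hr]; field_simp
      have hPv : P * v ^ 2 = (s : K) + 1 + t * r := by rw [hv]; field_simp
      have h2 : (2 : K) = 0 := CharTwo.two_eq_zero
      linear_combination (T.θ r ^ 2 * r + T.θ v ^ 2) * hPr + hPv +
        (1 + t * r + T.θ u ^ 2 * T.θ v ^ 2 + T.θ u ^ 2 * r * T.θ r ^ 2) * h2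
    have hz : T.clsE false r v ∈ T.Xp true := by
      have : T.clsE false r v = T.lift 1 r * T.lift 3 (T.θ v ^ 2) := by
        rw [cls_lifts, T.θ_sq_θ]
      rw [this]
      refine mul_mem ?_ ?_ <;> exact Subgroup.mem_inf.2 ⟨uS_anti (Nat.zero_le _)
        (T.lift_mem_uS (clsS_set true) _ _ (by decide +kernel)), T.lift_fix _ _⟩
    refine ⟨_, mkXm _ hz, ?_⟩
    obtain ⟨e1, e2⟩ := T.entry_cls t u r v
    rw [← hP, ev1] at e1
    rcases T.mul_conj_cases true hy1 (T.uF_le_U1 (clsS_set true) 0 hz) with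
      ⟨w, hw, h, hh, e⟩ | ⟨a, ha, h, hh, w, hw, e⟩
    · exfalso
      obtain ⟨c, rfl⟩ := exists_torC T hh
      have h0 := T.diag_entry_zero t46 hw c
      rw [e, T.conj_cls] at h0
      rw [h0] at e1
      exact s.ne_zero e1.symm
    · refine ⟨a, T.Xm_le_V1 _ ha, w, hw, ?_⟩
      obtain ⟨p, rfl⟩ := T.exists_tor2_sq hh
      have h1 := T.diag_entry r46 ha (mk4 (T.θU p.2) (T.θU p.1) p.1 p.2) hw
      have h2 := T.diag_entry r47' ha (mk4 (T.θU p.2) (T.θU p.1) p.1 p.2) hw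
      rw [← T.tor2_apply, e, T.conj_cls] at h1 h2
      rw [(T.mk4_chi p).2.1, e1] at h1
      rw [(T.mk4_chi p).1, e2] at h2
      have hp2 : p.2 = 1 := Units.ext h2.symm
      have hp1 : p.1 = s := by
        apply Units.ext
        rw [hp2] at h1
        simpa using h1.symm
      rw [← e, Tw.torJ, show p = (s, 1) from Prod.ext hp1 hp2]
      simp

end CfsgLib.ReeF4
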