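import Cfsg.Agent.ReeF4Square.Key

/-!
# Prescribing the torus part of `v h u` up to conjugation

Every element of ²F₄(q) is conjugate to some `v h u` with `v` in `V¹`, `u` in `U¹` by counting, and for a
non-identity element every torus part that is regular for both simple orbits can be reached.
-/

set_option autoImplicit false
set_option maxHeartbeats 1000000

namespace CfsgLib.ReeF4

open Cfsg.Lie CfsgLib.Chevalley
open scoped MatrixGroups

variable {K : Type*} [Field K] [CharP K 2] (T : Tw K)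

/-- `g` is conjugate to an element `v h u` with torus part `p`. -/
def Tw.Reach (g : GL D.Idx K) (p : Kˣ × Kˣ) : Prop :=
  ∃ c ∈ T.fix, ∃ v ∈ T.V1, ∃ u ∈ T.U1, c * g * c⁻¹ = v * T.tor2 p * u

theorem Tw.Reach.trans {g g' c : GL D.Idx K} (hc : c ∈ T.fix) (e : c * g * c⁻¹ = g') {p : Kˣ × Kˣ}
    (h : T.Reach g' p) : T.Reach g p := by
  obtain ⟨d, hd, v, hv, u, hu, e'⟩ := h
  exact ⟨d * c, mul_mem hd hc, v, hv, u, hu, by rw [← e', ← e]; group⟩

theorem Tw.tor2_mem_H1_sq (p : Kˣ × Kˣ) : T.tor2 p ∈ T.H1 := by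
  rw [Tw.H1, T.diag_inf_fix]; exact ⟨p, rfl⟩

/-- The inverse conjugated by the longest element. -/
theorem Tw.Reach.iota {g : GL D.Idx K} {p : Kˣ × Kˣ}
    (h : T.Reach (n4 K * g⁻¹ * (n4 K)⁻¹) p) : T.Reach g p := by
  obtain ⟨c, hc, v, hv, u, hu, e⟩ := h
  refine ⟨n4 K * c * n4 K, mul_mem (mul_mem T.n4_fix hc) T.n4_fix, _,
    T.n4_conj_U1 (inv_mem hu), _, T.n4_conj_V1 (inv_mem hv), ?_⟩
  have h1 : T.tor2 p = n4 K * (T.tor2 p)⁻¹ * (n4 K)⁻¹ := by
    rw [T.n4_conj_H1 (inv_mem (T.tor2_mem_H1_sq p)), inv_inv]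
  calc n4 K * c * n4 K * g * (n4 K * c * n4 K)⁻¹
      = n4 K * (c * (n4 K * g⁻¹ * (n4 K)⁻¹) * c⁻¹)⁻¹ * (n4 K)⁻¹ := by group
    _ = n4 K * (v * T.tor2 p * u)⁻¹ * (n4 K)⁻¹ := by rw [e]
    _ = n4 K * u⁻¹ * (n4 K)⁻¹ * (n4 K * (T.tor2 p)⁻¹ * (n4 K)⁻¹) *
        (n4 K * v⁻¹ * (n4 K)⁻¹) := by group
    _ = _ := by rw [← h1]

/-- The pair moving along the torus of an orbit. -/
def pairJ (j : Bool) (s : Kˣ) : Kˣ × Kˣ := if j then (s, 1) else (1, s)

theorem Tw.torJ_eq (j : Bool) (s : Kˣ) : T.torJ j s = T.tor2 (pairJ j s) := rfl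

theorem Tw.U1_inf_V1 {g : GL D.Idx K} (h1 : g ∈ T.U1) (h2 : g ∈ T.V1) : g = 1 :=
  Subgroup.mem_bot.1 (borel_inf_neg (F := K) hW ▸
    (⟨T.U1_le_borel h1, (Subgroup.mem_inf.1 h2).1⟩ :
      g ∈ D.borelSubgroup K ⊓ D.negUnipotent K))

variable [Finite K]

theorem Tw.Xp_inf_UP {j : Bool} {y : GL D.Idx K} (h1 : y ∈ T.Xp j) (h2 : y ∈ T.UP j) : y = 1 := by
  have hU : nJ K j * y * (nJ K j)⁻¹ ∈ T.U1 := T.move_U1 (monBy_nJ j) (T.nJ_fix j)
    (fun r hr => (set_root (complS_set j) ((dJ_facts j r).2 hr).1).1) h2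
  have hV : nJ K j * y * (nJ K j)⁻¹ ∈ T.V1 := by
    obtain ⟨y1, y2⟩ := Subgroup.mem_inf.1 h1
    refine T.Xm_le_V1 j (Subgroup.mem_inf.2
      ⟨?_, mul_mem (mul_mem (T.nJ_fix j) y2) (inv_mem (T.nJ_fix j))⟩)
    rw [uS_zero_eq] at y1
    exact conj_set (monBy_nJ j) (P := clsN j) (fun r hr => cls_image j r hr) y1
  have := T.U1_inf_V1 hU hV
  calc y = (nJ K j)⁻¹ * (nJ K j * y * (nJ K j)⁻¹) * nJ K j := by group
    _ = 1 := by rw [this]; group

/-- Moving the torus part along an orbit, the upper part not in the radical. -/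
theorem Tw.reach_of_upper {j : Bool} {v u : GL D.Idx K} (hv : v ∈ T.V1) (hu : u ∈ T.U1)
    (hne : u ∉ T.UP j) (p : Kˣ × Kˣ) (s : Kˣ) :
    T.Reach (v * T.tor2 p * u) (p * pairJ j s) := by
  obtain ⟨x, hx, y, hy, rfl⟩ := T.exists_split_U1 j hu
  have hy1 : y ≠ 1 := fun e => hne (by rwa [e, mul_one])
  obtain ⟨d, hd, a, ha, w, hw, e⟩ := T.key j hy hy1 s
  have hh : T.tor2 p ∈ T.H1 := T.tor2_mem_H1_sq p
  have hx' : y⁻¹ * x * y ∈ T.UP j := by
    have := T.conj_UP (inv_mem (T.Xp_le_Lv j hy)) hx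
    rwa [inv_inv] at this
  have hx'' : d⁻¹ * (y⁻¹ * x * y) * d ∈ T.U1 := by
    have := T.uF_le_U1 (complS_set j) 0 (T.conj_UP (inv_mem (T.Xm_le_Lv j hd)) hx')
    rwa [inv_inv] at this
  refine ⟨d⁻¹, inv_mem (Subgroup.mem_inf.1 hd).2, d⁻¹ * v * (T.tor2 p * a * (T.tor2 p)⁻¹),
    mul_mem (mul_mem (inv_mem (T.Xm_le_V1 j hd)) hv) (T.conj_V1 hh ha),
    w * (d⁻¹ * (y⁻¹ * x * y) * d), mul_mem hw hx'', ?_⟩
  rw [map_mul, ← T.torJ_eq]
  calc d⁻¹ * (v * T.tor2 p * (x * y)) * d⁻¹⁻¹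
      = d⁻¹ * v * T.tor2 p * (y * d) * (d⁻¹ * (y⁻¹ * x * y) * d) := by group
    _ = d⁻¹ * v * T.tor2 p * (a * T.torJ j s * w) * (d⁻¹ * (y⁻¹ * x * y) * d) := by rw [e]
    _ = _ := by group

omit [CharP K 2] [Finite K] in
theorem slot_cls : ∀ j : Bool, clsS j (lb (if j then 1 else 0)) = true ∧
    lb (if j then 1 else 0) = (if j then rt 25 else rt 24) := by
  decide +kernel

omit [Finite K] in
/-- The slot of an orbit moved by a torus element. -/
theorem Tw.lift_commute {i : Fin 12} {c : Fin D.rank → Kˣ} [Finite K] {t : K} (ht : t ≠ 0)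
    (h : torC D c * T.lift i t * (torC D c)⁻¹ = T.lift i t) : ChevSimple.chi c (lb i) = 1 := by
  obtain ⟨z, hz, e⟩ := torC_conj_lift T (c := c) i t
  obtain ⟨z', hz', e'⟩ := T.lift_eq_lead allS_ok i t (slot_facts i).1
  rw [e, e'] at h
  obtain ⟨-, h2⟩ := lead_unique hz hz' h
  exact Units.ext ((mul_eq_right₀ ht).1 h2)

/-- Moving along an orbit from a torus part not centralising it. -/
theorem Tw.reach_move {g : GL D.Idx K} {p : Kˣ × Kˣ} (hg : T.Reach g p) {j : Bool}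
    (hχ : T.chS j p ≠ 1) (s : Kˣ) : T.Reach g (p * pairJ j s) := by
  obtain ⟨c, hc, v, hv, u, hu, e⟩ := hg
  refine Tw.Reach.trans T hc e ?_
  by_cases h1 : u ∈ T.UP j
  swap
  · exact T.reach_of_upper hv hu h1 p s
  set h := T.tor2 p with hh'
  have hh : h ∈ T.H1 := T.tor2_mem_H1_sq p
  by_cases h2 : n4 K * v * (n4 K)⁻¹ ∈ T.UP j
  swap
  · refine Tw.Reach.iota T ?_
    have e2 : n4 K * (v * h * u)⁻¹ * (n4 K)⁻¹ =
        (n4 K * u⁻¹ * (n4 K)⁻¹) * h * (n4 K * v⁻¹ * (n4 K)⁻¹) := by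
      conv_rhs => rw [show h = n4 K * h⁻¹ * (n4 K)⁻¹ by
        rw [T.n4_conj_H1 (inv_mem hh), inv_inv]]
      group
    rw [e2]
    refine T.reach_of_upper (T.n4_conj_U1 (inv_mem hu)) (T.n4_conj_V1 (inv_mem hv)) (fun hc' => h2 ?_) p s
    have := inv_mem hc'
    rwa [mul_inv_rev, mul_inv_rev, inv_inv, inv_inv, ← mul_assoc] at this
  · -- both parts in the radicals
    set i : Fin 12 := if j then 1 else 0
    obtain ⟨hi, hlb⟩ := slot_cls j
    set y := T.lift i (1 : K)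
    have hy : y ∈ T.Xp j := Subgroup.mem_inf.2 ⟨uS_anti (Nat.zero_le _)
      (T.lift_mem_uS (clsS_set j) i 1 hi), T.lift_fix i 1⟩
    have hvy : y * v * y⁻¹ ∈ T.V1 := by
      obtain ⟨h21, -⟩ := T.mem_UP.1 h2
      have h3 := conj_set mon_n4_inv.monBy (P := complN j) (fun r hr => by
        show complS j (dP (DihedralGroup.r 4) r).rev = true
        rw [dP_apply, dp_four, Fin.rev_rev]; exact hr) h21
      rw [inv_inv, show (n4 K)⁻¹ * (n4 K * v * (n4 K)⁻¹) * n4 K = v by group] at h3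
      obtain ⟨y1, y2⟩ := Subgroup.mem_inf.1 (T.Xp_le_Lv j hy)
      refine Subgroup.mem_inf.2 ⟨?_, mul_mem (mul_mem y2 (Subgroup.mem_inf.1 hv).2) (inv_mem y2)⟩
      rw [neg_eq_gen]
      exact rootGen_mono _ (fun r hr => (clsN_sub j r).2.2.1 hr)
        (conj_rootGen_of_chk (chkComm2_ok j).2 y1 h3)
    set z := h⁻¹ * y * h * y⁻¹
    have hz : z ∈ T.Xp j := by
      refine mul_mem ?_ (inv_mem hy)
      obtain ⟨y1, y2⟩ := Subgroup.mem_inf.1 hy
      obtain ⟨hd, hf⟩ := Subgroup.mem_inf.1 (inv_mem hh)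
      refine Subgroup.mem_inf.2 ⟨?_, mul_mem (mul_mem hf y2) (Subgroup.mem_inf.1 hh).2⟩
      have := diag_conj_rootGen hW hd y1
      rwa [inv_inv] at this
    have hu' : y * u * y⁻¹ ∈ T.UP j := T.conj_UP (T.Xp_le_Lv j hy) h1
    have hnew : z * (y * u * y⁻¹) ∉ T.UP j := fun hc' => by
      have hz1 := T.Xp_inf_UP hz (by
        have := mul_mem hc' (inv_mem hu'); rwa [mul_inv_cancel_right] at this)
      apply hχ
      obtain ⟨a, b⟩ := p
      have hcomm : h * y * h⁻¹ = y := by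
        calc h * y * h⁻¹ = h * (h⁻¹ * y * h * y⁻¹)⁻¹ * (h⁻¹ * y * h) * h⁻¹ := by group
          _ = y := by rw [show h⁻¹ * y * h * y⁻¹ = 1 from hz1]; group
      have := T.lift_commute (c := mk4 (T.θU b) (T.θU a) a b) one_ne_zero hcomm
      rw [hlb] at this
      cases j
      · rw [← (T.mk4_chi (a, b)).2.2.2.1]; exact this
      · rw [← (T.mk4_chi (a, b)).2.2.2.2]; exact this
    refine Tw.Reach.trans T (c := y) (Subgroup.mem_inf.1 hy).2 ?_
      (T.reach_of_upper hvy (mul_mem (T.uF_le_U1 (clsS_set j) 0 hz)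
        (T.uF_le_U1 (complS_set j) 0 hu')) hnew p s)
    rw [← hh']
    simp only [z]
    group

/-- Moving along an orbit from an element whose parts are not both in the radicals. -/
theorem Tw.reach_first {g c v u : GL D.Idx K} (hc : c ∈ T.fix) (hv : v ∈ T.V1) (hu : u ∈ T.U1)
    {p : Kˣ × Kˣ} (e : c * g * c⁻¹ = v * T.tor2 p * u) {j : Bool}
    (hne : u ∉ T.UP j ∨ n4 K * v * (n4 K)⁻¹ ∉ T.UP j) (s : Kˣ) :
    T.Reach g (p * pairJ j s) := by
  refine Tw.Reach.trans T hc e ?_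
  rcases hne with h | h
  · exact T.reach_of_upper hv hu h p s
  · refine Tw.Reach.iota T ?_
    have hh := T.tor2_mem_H1_sq p
    have e2 : n4 K * (v * T.tor2 p * u)⁻¹ * (n4 K)⁻¹ =
        (n4 K * u⁻¹ * (n4 K)⁻¹) * T.tor2 p * (n4 K * v⁻¹ * (n4 K)⁻¹) := by
      conv_rhs => rw [show T.tor2 p = n4 K * (T.tor2 p)⁻¹ * (n4 K)⁻¹ by
        rw [T.n4_conj_H1 (inv_mem hh), inv_inv]]
      group
    rw [e2]
    refine T.reach_of_upper (T.n4_conj_U1 (inv_mem hu)) (T.n4_conj_V1 (inv_mem hv))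
      (fun hc' => h ?_) p s
    have := inv_mem hc'
    rwa [mul_inv_rev, mul_inv_rev, inv_inv, inv_inv, ← mul_assoc] at this

/-- A non-identity element is conjugate to one that is not degenerate. -/
theorem Tw.exists_nondeg {g : GL D.Idx K} (hg : g ≠ 1) {p : Kˣ × Kˣ} (h : T.Reach g p)
    (hp : T.tor2 p = 1) :
    ∃ c ∈ T.fix, ∃ v ∈ T.V1, ∃ u ∈ T.U1, c * g * c⁻¹ = v * T.tor2 p * u ∧
      ∃ j, u ∉ T.UP j ∨ n4 K * v * (n4 K)⁻¹ ∉ T.UP j := by
  by_contra hc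
  push Not at hc
  obtain ⟨c, hcf, v, hv, u, hu, e⟩ := h
  rw [hp, mul_one] at e
  have key : ∀ k : ℕ, (n₀ K * n₁ K) ^ k * v * ((n₀ K * n₁ K) ^ k)⁻¹ ∈ T.V1 ∧
      (n₀ K * n₁ K) ^ k * u * ((n₀ K * n₁ K) ^ k)⁻¹ ∈ T.U1 := by
    have step : ∀ (j : Bool) (m : GL D.Idx K), m ∈ T.fix → m * v * m⁻¹ ∈ T.V1 →
        m * u * m⁻¹ ∈ T.U1 → nJ K j * m * v * (nJ K j * m)⁻¹ ∈ T.V1 ∧
        nJ K j * m * u * (nJ K j * m)⁻¹ ∈ T.U1 := by
      intro j m hm hmv hmu
      obtain ⟨h1, h2⟩ := hc (m * c) (mul_mem hm hcf) _ hmv _ hmu (by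
        rw [hp, mul_one, show m * c * g * (m * c)⁻¹ = m * (c * g * c⁻¹) * m⁻¹ by group, e]
        group) j
      refine ⟨?_, ?_⟩
      · obtain ⟨h21, -⟩ := T.mem_UP.1 h2
        have h3 := conj_set mon_n4_inv.monBy (P := complN j) (fun r hr => by
          show complS j (dP (DihedralGroup.r 4) r).rev = true
          rw [dP_apply, dp_four, Fin.rev_rev]; exact hr) h21
        rw [inv_inv, show (n4 K)⁻¹ * (n4 K * (m * v * m⁻¹) * (n4 K)⁻¹) * n4 K = m * v * m⁻¹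
          by group] at h3
        refine Subgroup.mem_inf.2 ⟨?_, ?_⟩
        · rw [show nJ K j * m * v * (nJ K j * m)⁻¹ = nJ K j * (m * v * m⁻¹) * (nJ K j)⁻¹ by group,
            neg_eq_gen]
          refine conj_set (monBy_nJ j) (P := fun r => allS r.rev) (fun r hr => ?_) h3
          show allS (dP (dJ j) r).rev = true
          rw [dP_apply, ← dp_rev]
          exact (clsN_sub j _).2.2.2 ((dJ_facts j r.rev).2 hr).1
        · rw [show nJ K j * m * v * (nJ K j * m)⁻¹ = nJ K j * (m * v * m⁻¹) * (nJ K j)⁻¹ by group]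
          exact mul_mem (mul_mem (T.nJ_fix j) (Subgroup.mem_inf.1 hmv).2) (inv_mem (T.nJ_fix j))
      · rw [show nJ K j * m * u * (nJ K j * m)⁻¹ = nJ K j * (m * u * m⁻¹) * (nJ K j)⁻¹ by group]
        exact T.move_U1 (monBy_nJ j) (T.nJ_fix j)
          (fun r hr => (set_root (complS_set j) ((dJ_facts j r).2 hr).1).1) h1
    intro k
    induction k with
    | zero => simpa using And.intro hv hu
    | succ k ih =>
      have hm : (n₀ K * n₁ K) ^ k ∈ T.fix :=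
        pow_mem (mul_mem (T.nJ_fix false) (T.nJ_fix true)) k
      obtain ⟨a, b⟩ := step true _ hm ih.1 ih.2
      have := step false _ (mul_mem (T.nJ_fix true) hm) a b
      rwa [show nJ K false * (nJ K true * (n₀ K * n₁ K) ^ k) = (n₀ K * n₁ K) ^ (k + 1) by
        rw [pow_succ', mul_assoc]; rfl] at this
  obtain ⟨hv4, hu4⟩ := key 4
  have hn : (n₀ K * n₁ K) ^ 4 = n4 K := rfl
  rw [hn] at hv4 hu4
  have h1 : n4 K * u * (n4 K)⁻¹ = 1 := T.U1_inf_V1 hu4 (T.n4_conj_U1 hu)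
  have h2 : n4 K * v * (n4 K)⁻¹ = 1 := T.U1_inf_V1 (T.n4_conj_V1 hv) hv4
  rw [conj_eq_one_iff] at h1 h2
  rw [h1, h2, mul_one, conj_eq_one_iff] at e
  exact hg e

/-! ### Counting -/

omit [Finite K] in
theorem Tw.V1_eq_map : T.V1 = T.U1.map (MulAut.conj (n4 K)⁻¹).toMonoidHom := by
  refine le_antisymm (fun v hv => ?_) ?_
  · exact ⟨n4 K * v * (n4 K)⁻¹, T.n4_conj_V1 hv, by simp [MulAut.conj_apply]; group⟩
  · rintro _ ⟨u, hu, rfl⟩
    simpa [MulAut.conj_apply] using T.n4_inv_conj_U1 hu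

theorem Tw.natCard_V1 : Nat.card ↥T.V1 = Nat.card K ^ 12 := by
  rw [T.V1_eq_map, Nat.card_congr (Subgroup.equivMapOfInjective T.U1 _
    (MulAut.conj (n4 K)⁻¹).injective).toEquiv.symm, T.natCard_U1]

/-- Every element is conjugate to some `v h u`. -/
theorem Tw.exists_reach (hq : 8 ≤ Nat.card K) {g : GL D.Idx K} (hg : g ∈ T.fix) :
    ∃ p, T.Reach g p := by
  let X := ↥T.V1 × ↥T.H1 × ↥T.U1
  have hm : ∀ x : X, (x.1 : GL D.Idx K) * x.2.1 * x.2.2 ∈ T.fix := fun x =>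
    mul_mem (mul_mem (Subgroup.mem_inf.1 x.1.2).2 (Subgroup.mem_inf.1 x.2.1.2).2)
      (Subgroup.mem_inf.1 x.2.2.2).2
  let φ : X → ↥T.fix := fun x => ⟨_, hm x⟩
  have hinj : Function.Injective φ := by
    rintro ⟨⟨v, hv⟩, ⟨h, hh⟩, ⟨u, hu⟩⟩ ⟨⟨v', hv'⟩, ⟨h', hh'⟩, ⟨u', hu'⟩⟩ e
    have e' : v * h * u = v' * h' * u' := congrArg Subtype.val e
    have h1 : v'⁻¹ * v ∈ D.borelSubgroup K ⊓ D.negUnipotent K := by
      refine Subgroup.mem_inf.2 ⟨?_, mul_mem (inv_mem (Subgroup.mem_inf.1 hv').1)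
        (Subgroup.mem_inf.1 hv).1⟩
      rw [show v'⁻¹ * v = v'⁻¹ * (v * h * u) * u⁻¹ * h⁻¹ by group, e',
        show v'⁻¹ * (v' * h' * u') * u⁻¹ * h⁻¹ = h' * u' * u⁻¹ * h⁻¹ by group]
      exact mul_mem (mul_mem (mul_mem (T.H1_le_borel hh') (T.U1_le_borel hu'))
        (inv_mem (T.U1_le_borel hu))) (inv_mem (T.H1_le_borel hh))
    rw [borel_inf_neg hW, Subgroup.mem_bot] at h1
    obtain rfl : v' = v := inv_mul_eq_one.1 h1
    have e2 : h * u = h' * u' := mul_left_cancel (a := v') (by rw [← mul_assoc, e', mul_assoc])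
    have h2 : u' * u⁻¹ ∈ D.posUnipotent K ⊓ D.diagonalSubgroup K := by
      refine Subgroup.mem_inf.2 ⟨mul_mem (Subgroup.mem_inf.1 hu').1
        (inv_mem (Subgroup.mem_inf.1 hu).1), ?_⟩
      rw [show u' * u⁻¹ = h'⁻¹ * (h' * u') * u⁻¹ by group, ← e2,
        show h'⁻¹ * (h * u) * u⁻¹ = h'⁻¹ * h by group]
      exact mul_mem (inv_mem (Subgroup.mem_inf.1 hh').1) (Subgroup.mem_inf.1 hh).1
    rw [pos_inf_diag hW, Subgroup.mem_bot, mul_inv_eq_one] at h2
    subst h2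
    obtain rfl : h = h' := mul_right_cancel e2
    rfl
  let g' : ↥T.fix := ⟨g, hg⟩
  obtain ⟨x, y, hxy⟩ : ∃ x y, φ x = g' * φ y := by
    by_contra hno
    push Not at hno
    have hs : Function.Injective (Sum.elim φ fun y => g' * φ y) :=
      hinj.sumElim (fun a b hab => hinj (mul_left_cancel hab)) hno
    have hle := Nat.card_le_card_of_injective _ hs
    rw [Nat.card_sum, Nat.card_prod, Nat.card_prod, T.natCard_V1, T.natCard_H1, T.natCard_U1,
      ← T.G1_eq_fix, T.natCard_G1 rfl] at hle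
    set q := Nat.card K with hq'
    clear_value q
    obtain ⟨r, rfl⟩ : ∃ r, q = r + 1 := ⟨q - 1, by omega⟩
    have h4 : (r + 1) ^ 4 - 1 ≤ (r + 1) ^ 4 := Nat.sub_le _ _
    simp only [Nat.add_sub_cancel] at hle
    have h5 : (r + 1) ^ 12 * r * ((r + 1) ^ 3 + 1) * ((r + 1) ^ 4 - 1) * ((r + 1) ^ 6 + 1) <
        (r + 1) ^ 12 * (r ^ 2 * (r + 1) ^ 12) + (r + 1) ^ 12 * (r ^ 2 * (r + 1) ^ 12) := by
      have h6 : ((r + 1) ^ 3 + 1) * (r + 1) ^ 4 * ((r + 1) ^ 6 + 1) < 2 * r * (r + 1) ^ 12 := by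
        have h7 : 2 * (r + 1) ^ 12 * r = 2 * r * (r + 1) ^ 12 := by ring
        have h8 : (r + 1) ^ 10 + (r + 1) ^ 7 + (r + 1) ^ 4 + (r + 1) ^ 12 * 2 <
            (r + 1) ^ 12 * (r + 1) := by
          have a1 : (r + 1) ^ 10 ≤ (r + 1) ^ 12 := Nat.pow_le_pow_right (by omega) (by omega)
          have a2 : (r + 1) ^ 7 ≤ (r + 1) ^ 12 := Nat.pow_le_pow_right (by omega) (by omega)
          have a3 : (r + 1) ^ 4 ≤ (r + 1) ^ 12 := Nat.pow_le_pow_right (by omega) (by omega)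
          have a4 : (r + 1) ^ 12 * 8 ≤ (r + 1) ^ 12 * (r + 1) := Nat.mul_le_mul_left _ (by omega)
          have a5 : 0 < (r + 1) ^ 12 := by positivity
          omega
        nlinarith [h8]
      calc (r + 1) ^ 12 * r * ((r + 1) ^ 3 + 1) * ((r + 1) ^ 4 - 1) * ((r + 1) ^ 6 + 1)
          ≤ (r + 1) ^ 12 * r * ((r + 1) ^ 3 + 1) * (r + 1) ^ 4 * ((r + 1) ^ 6 + 1) := by gcongr
        _ = (r + 1) ^ 12 * r * (((r + 1) ^ 3 + 1) * (r + 1) ^ 4 * ((r + 1) ^ 6 + 1)) := by ring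
        _ < (r + 1) ^ 12 * r * (2 * r * (r + 1) ^ 12) :=
          Nat.mul_lt_mul_of_pos_left h6 (Nat.mul_pos (by positivity) (by omega))
        _ = _ := by ring
    omega
  obtain ⟨⟨v, hv⟩, ⟨h, hh⟩, ⟨u, hu⟩⟩ := x
  obtain ⟨⟨v', hv'⟩, ⟨h', hh'⟩, ⟨u', hu'⟩⟩ := y
  have e : v * h * u = g * (v' * h' * u') := congrArg Subtype.val hxy
  obtain ⟨p, hp⟩ := T.exists_tor2_sq (mul_mem hh (inv_mem hh'))
  refine ⟨p, v'⁻¹, inv_mem (Subgroup.mem_inf.1 hv').2, v'⁻¹ * v, mul_mem (inv_mem hv') hv,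
    h' * (u * u'⁻¹) * h'⁻¹, T.conj_U1 hh' (mul_mem hu (inv_mem hu')), ?_⟩
  rw [hp]
  calc v'⁻¹ * g * v'⁻¹⁻¹ = v'⁻¹ * (g * (v' * h' * u')) * (u'⁻¹ * h'⁻¹) := by group
    _ = _ := by rw [← e]; group

/-! ### The target -/

/-- The square of a unit over the square of its image under `θ`. -/
def Tw.phi : Kˣ →* Kˣ where
  toFun a := a ^ 2 / T.θU a ^ 2
  map_one' := by simp
  map_mul' a b := by simp [mul_pow, div_mul_div_comm]

omit [Finite K] in
theorem Tw.phi_injective : Function.Injective T.phi := by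
  refine (injective_iff_map_eq_one _).2 fun a ha => ?_
  have h : a ^ 2 = T.θU a ^ 2 := div_eq_one.1 ha
  have h2 : T.θU a = a := by
    have := congrArg Units.val h
    simp only [Units.val_pow_eq_pow_val] at this
    exact Units.ext (CharTwo.sq_injective (R := K) this).symm
  exact T.θU_sq_fix (by rw [← h]; have := T.θU_θU_sq a; rwa [h2, h2] at this)

omit [Finite K] in
theorem Tw.chS_eq (a b : Kˣ) :
    (T.chS false (a, b) = 1 ↔ a = b ^ 2) ∧ (T.chS true (a, b) = 1 ↔ T.phi a = b) := by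
  refine ⟨?_, ?_⟩
  · simp [Tw.chS, div_eq_one, eq_comm]
  · show a ^ 2 / (T.θU a ^ 2 * b) = 1 ↔ a ^ 2 / T.θU a ^ 2 = b
    rw [← div_div, div_eq_one]

/-- Every non-identity element reaches every regular torus part. -/
theorem Tw.reach_target (hq : 8 ≤ Nat.card K) {g : GL D.Idx K} (hg : g ∈ T.fix) (hne : g ≠ 1)
    (A B : Kˣ) : T.Reach g (A, B) := by
  classical
  haveI := Fintype.ofFinite K
  have hcard : 7 ≤ Fintype.card Kˣ := by
    rw [Fintype.card_units]; rw [Nat.card_eq_fintype_card] at hq; omega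
  -- from a torus part moving the second orbit
  have main : ∀ a b, T.Reach g (a, b) → T.chS true (a, b) ≠ 1 → T.Reach g (A, B) := by
    intro a b h hχ
    obtain ⟨a', ha1, ha2⟩ : ∃ a', a' ≠ b ^ 2 ∧ T.phi a' ≠ B := by
      obtain ⟨f, hf⟩ : ∃ f, ∀ x, T.phi x = B → x = f := by
        by_cases hB : ∃ x, T.phi x = B
        · obtain ⟨f, hf⟩ := hB
          exact ⟨f, fun x hx => T.phi_injective (hx.trans hf.symm)⟩
        · exact ⟨1, fun x hx => absurd ⟨x, hx⟩ hB⟩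
      obtain ⟨a', ha'⟩ : ∃ a', a' ∉ ({b ^ 2, f} : Finset Kˣ) := by
        by_contra hc
        push Not at hc
        have : (Finset.univ : Finset Kˣ).card ≤ ({b ^ 2, f} : Finset Kˣ).card :=
          Finset.card_le_card fun x _ => hc x
        have := Finset.card_le_two (a := b ^ 2) (b := f)
        rw [Finset.card_univ] at *
        omega
      simp only [Finset.mem_insert, Finset.mem_singleton, not_or] at ha'
      exact ⟨a', ha'.1, fun e => ha'.2 (hf a' e)⟩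
    have h1 : T.Reach g (a', b) := by
      have := T.reach_move h hχ (a' / a)
      simpa [pairJ] using this
    have h2 : T.Reach g (a', B) := by
      have := T.reach_move h1 (fun e => ha1 ((T.chS_eq a' b).1.1 e)) (B / b)
      simpa [pairJ] using this
    have := T.reach_move h2 (fun e => ha2 ((T.chS_eq a' B).2.1 e)) (A / a')
    simpa [pairJ] using this
  -- from a torus part moving the first orbit
  have hfree : ∀ a b, (∀ s, T.Reach g ((a, b) * pairJ false s)) → T.Reach g (A, B) := by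
    intro a b h
    obtain ⟨b', hb'⟩ : ∃ b', b' ≠ T.phi a := by
      by_contra hc
      push Not at hc
      have : Subsingleton Kˣ := ⟨fun x y => (hc x).trans (hc y).symm⟩
      have := Fintype.card_le_one_iff_subsingleton.2 this
      omega
    refine main a b' ?_ fun e => hb' ((T.chS_eq a b').2.1 e).symm
    have := h (b' / b)
    simpa [pairJ] using this
  obtain ⟨⟨a, b⟩, h⟩ := T.exists_reach hq hg
  by_cases h1 : T.chS true (a, b) ≠ 1
  · exact main a b h h1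
  by_cases h2 : T.chS false (a, b) ≠ 1
  · exact hfree a b fun s => T.reach_move h h2 s
  simp only [ne_eq, not_not] at h1 h2
  have hb : b = 1 := by
    have e1 : a = b ^ 2 := (T.chS_eq a b).1.1 h2
    have e2 : T.phi b ^ 2 = b := by rw [← map_pow, ← e1]; exact (T.chS_eq a b).2.1 h1
    have e3 : T.θU b ^ 4 = b ^ 3 := by
      have e : b ^ 4 = b * T.θU b ^ 4 := by
        have : (b ^ 2 / T.θU b ^ 2) ^ 2 = b := e2
        rw [div_pow, ← pow_mul, ← pow_mul, div_eq_iff_eq_mul] at this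
        exact this
      have : b * b ^ 3 = b * T.θU b ^ 4 := by rw [← e, ← pow_succ']
      exact (mul_left_cancel this).symm
    have e4 : T.θU b ^ 3 = b ^ 2 := by
      have e5 := congrArg T.θU e3
      rw [map_pow, map_pow, show (4 : ℕ) = 2 * 2 from rfl, pow_mul, T.θU_θU_sq] at e5
      exact e5.symm
    have e6 : b ^ 8 = b ^ 9 := by
      calc b ^ 8 = (b ^ 2) ^ 4 := (pow_mul b 2 4)
        _ = (T.θU b ^ 3) ^ 4 := by rw [e4]
        _ = (T.θU b ^ 4) ^ 3 := by rw [← pow_mul, ← pow_mul]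
        _ = b ^ 9 := by rw [e3, ← pow_mul]
    rw [pow_succ b 8, eq_comm, mul_eq_left] at e6
    exact e6
  have ha : a = 1 := by rw [(T.chS_eq a b).1.1 h2, hb, one_pow]
  subst ha hb
  obtain ⟨c, hc, v, hv, u, hu, e, j, hj⟩ := T.exists_nondeg hne h (map_one T.tor2)
  cases j
  · exact hfree 1 1 fun s => T.reach_first hc hv hu e hj s
  · obtain ⟨a', ha'⟩ : ∃ a' : Kˣ, a' ≠ 1 := by
      by_contra hc
      push Not at hc
      have : Subsingleton Kˣ := ⟨fun x y => (hc x).trans (hc y).symm⟩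
      have := Fintype.card_le_one_iff_subsingleton.2 this
      omega
    refine main a' 1 ?_ fun e' => ha' (T.phi_injective (((T.chS_eq a' 1).2.1 e').trans
      (map_one T.phi).symm))
    have := T.reach_first hc hv hu e hj a'
    simpa [pairJ] using this

end CfsgLib.ReeF4
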