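import Cfsg.Agent.ReeF4Square.Moves
import Mathlib.GroupTheory.OrderOfElement

/-!
# Classes whose square covers ²F₄(q), `q ≥ 32`

For `q ≥ 32` the torus contains `x` centralising no element of `U¹` but `1`; then `x U¹` and `V¹ x` lie in
the class of `x`.
-/

set_option autoImplicit false
set_option maxHeartbeats 1000000

namespace CfsgLib.ReeF4

open Cfsg.Lie CfsgLib.Chevalley
open scoped MatrixGroups

/-- An element normalising a finite subgroup without fixed points is conjugate to each element of its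
coset. -/
theorem exists_conj_of_fixfree {G : Type*} [Group G] (N : Subgroup G) [Finite ↥N] {x : G}
    (hn : ∀ y ∈ N, x * y * x⁻¹ ∈ N) (hf : ∀ y ∈ N, x * y = y * x → y = 1) {w : G} (hw : w ∈ N) :
    (∃ y ∈ N, y * x * y⁻¹ = w * x) ∧ ∃ y ∈ N, y * x * y⁻¹ = x * w := by
  let φ : ↥N → ↥N := fun y => ⟨y * (x * (y : G)⁻¹ * x⁻¹), mul_mem y.2 (hn _ (inv_mem y.2))⟩
  have hinj : Function.Injective φ := by
    rintro ⟨y, hy⟩ ⟨y', hy'⟩ e
    have e' : y * (x * y⁻¹ * x⁻¹) = y' * (x * y'⁻¹ * x⁻¹) := congrArg Subtype.val e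
    have h2 : x * (y'⁻¹ * y) = y'⁻¹ * y * x := by
      calc x * (y'⁻¹ * y) = y'⁻¹ * (y' * (x * y'⁻¹ * x⁻¹)) * x * y := by group
        _ = y'⁻¹ * (y * (x * y⁻¹ * x⁻¹)) * x * y := by rw [e']
        _ = _ := by group
    have := hf _ (mul_mem (inv_mem hy') hy) h2
    exact Subtype.ext (inv_mul_eq_one.1 this).symm
  have hs := Finite.surjective_of_injective hinj
  have h : ∀ w ∈ N, ∃ y ∈ N, y * x * y⁻¹ = w * x := fun w hw => by
    obtain ⟨⟨y, hy⟩, e⟩ := hs ⟨w, hw⟩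
    refine ⟨y, hy, ?_⟩
    rw [show w = y * (x * y⁻¹ * x⁻¹) from (congrArg Subtype.val e).symm]
    group
  refine ⟨h w hw, ?_⟩
  obtain ⟨y, hy, e⟩ := h _ (hn w hw)
  exact ⟨y, hy, by rw [e]; group⟩

variable {K : Type*} [Field K] [CharP K 2] (T : Tw K)

theorem Tw.conj_uF_torus {S : Root D → Bool} {h y : GL D.Idx K} (hh : h ∈ T.H1) (hy : y ∈ T.uF S 0) :
    h * y * h⁻¹ ∈ T.uF S 0 := by
  obtain ⟨h1, h2⟩ := Subgroup.mem_inf.1 hh
  obtain ⟨y1, y2⟩ := Subgroup.mem_inf.1 hy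
  exact Subgroup.mem_inf.2 ⟨diag_conj_rootGen hW h1 y1,
    mul_mem (mul_mem h2 y2) (inv_mem h2)⟩

theorem Tw.tor2_chi (p : Kˣ × Kˣ) (r : Root D) :
    ChevSimple.chi (mk4 (T.θU p.2) (T.θU p.1) p.1 p.2) r =
      T.θU p.2 ^ D.cartan 0 r * T.θU p.1 ^ D.cartan 1 r * p.1 ^ D.cartan 2 r *
        p.2 ^ D.cartan 3 r := by
  obtain ⟨v0, v1, v2, v3⟩ := nd_vals.1
  simp [ChevSimple.chi, prod_nodes, mk4_apply, v0, v1, v2, v3]

variable [Finite K]

/-- A torus element moving every slot of a set centralises no fixed element of the set. -/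
theorem Tw.fixfree {S : Root D → Bool} (hS : chkSet S = true) {c : Fin D.rank → Kˣ}
    (hc : ∀ i : Fin 12, S (lb i) = true → ChevSimple.chi c (lb i) ≠ 1) {y : GL D.Idx K}
    (hy : y ∈ T.uF S 0) (hcomm : torC D c * y = y * torC D c) : y = 1 := by
  suffices H : ∀ n i : ℕ, 12 ≤ i + n → ∀ y ∈ T.uF S i, torC D c * y = y * torC D c → y = 1 from
    H 12 0 le_rfl y hy hcomm
  clear hcomm hy y
  intro n
  induction n with
  | zero =>
    intro i hi y hy _
    exact Subgroup.mem_bot.1 (uS_eq_bot (K := K) hS (i := i) (by omega) ▸ (Subgroup.mem_inf.1 hy).1)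
  | succ n ih =>
    intro i hi y hy hcomm
    by_cases h12 : i < 12
    swap
    · exact Subgroup.mem_bot.1
        (uS_eq_bot (K := K) hS (i := i) (by omega) ▸ (Subgroup.mem_inf.1 hy).1)
    obtain ⟨t, ht, z, hz, rfl⟩ := T.exists_split_fix hS ⟨i, h12⟩ hy
    rcases eq_or_ne t 0 with rfl | ht0
    · rw [T.lift_zero, one_mul] at hcomm ⊢
      exact ih (i + 1) (by omega) z hz hcomm
    exfalso
    have hb : S (lb ⟨i, h12⟩) = true := by
      by_contra h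
      exact ht0 (ht (by simpa using h))
    have hconj : torC D c * T.lift ⟨i, h12⟩ t * (torC D c)⁻¹ * (torC D c * z * (torC D c)⁻¹) =
        T.lift ⟨i, h12⟩ t * z := by
      calc torC D c * T.lift ⟨i, h12⟩ t * (torC D c)⁻¹ * (torC D c * z * (torC D c)⁻¹)
          = torC D c * (T.lift ⟨i, h12⟩ t * z) * (torC D c)⁻¹ := by group
        _ = _ := by rw [hcomm]; group
    obtain ⟨z', hz', e⟩ := torC_conj_lift T (c := c) ⟨i, h12⟩ t
    obtain ⟨z'', hz'', e'⟩ := T.lift_eq_lead allS_ok ⟨i, h12⟩ t (slot_facts _).1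
    rw [e, e', mul_assoc (lead _ _ _) z', mul_assoc (lead _ _ _) z''] at hconj
    have hz1 : z ∈ uS K allS (i + 1) := uS_le_allS hS _ (Subgroup.mem_inf.1 hz).1
    have hcz : torC D c * z * (torC D c)⁻¹ ∈ uS K allS (i + 1) :=
      diag_conj_rootGen hW (by rw [diagonalSubgroup_eq_range hW]; exact ⟨c, rfl⟩) hz1
    obtain ⟨-, h2⟩ := lead_unique (i := ⟨i, h12⟩) (mul_mem hz' hcz) (mul_mem hz'' hz1) hconj
    exact hc _ hb (Units.ext ((mul_eq_right₀ ht0).1 h2))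

theorem slot_cartan : (List.finRange 12).map (fun i => (List.range 4).map fun k =>
    D.cartan k (lb i)) =
    [[0, 0, -1, 2], [0, -2, 2, -1], [0, -2, 1, 1], [-2, 2, 0, -1], [-2, 2, -1, 1], [-2, 0, 1, 0],
      [2, 0, 0, -1], [2, 0, -1, 1], [2, -2, 1, 0], [0, 2, -1, 0], [0, 0, 1, -1], [0, 0, 0, 1]] := by
  decide +kernel

omit [Finite K] in
theorem Tw.slot_chi (a b : Kˣ) :
    (List.finRange 12).map (fun i => ChevSimple.chi (mk4 (T.θU b) (T.θU a) a b) (lb i)) =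
      [a⁻¹ * b ^ 2, (T.θU a ^ 2)⁻¹ * a ^ 2 * b⁻¹, (T.θU a ^ 2)⁻¹ * a * b,
        (T.θU b ^ 2)⁻¹ * T.θU a ^ 2 * b⁻¹, (T.θU b ^ 2)⁻¹ * T.θU a ^ 2 * a⁻¹ * b,
        (T.θU b ^ 2)⁻¹ * a, T.θU b ^ 2 * b⁻¹, T.θU b ^ 2 * a⁻¹ * b,
        T.θU b ^ 2 * (T.θU a ^ 2)⁻¹ * a, T.θU a ^ 2 * a⁻¹, a * b⁻¹, b] := by
  have h : (List.finRange 12).map (fun i => ChevSimple.chi (mk4 (T.θU b) (T.θU a) a b) (lb i)) =
      ((List.finRange 12).map fun i => (List.range 4).map fun k => D.cartan k (lb i)).map fun l =>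
        T.θU b ^ l.getD 0 0 * T.θU a ^ l.getD 1 0 * a ^ l.getD 2 0 * b ^ l.getD 3 0 := by
    rw [List.map_map]
    refine List.map_congr_left fun i _ => ?_
    rw [show mk4 (T.θU b) (T.θU a) a b = mk4 (T.θU (a, b).2) (T.θU (a, b).1) (a, b).1 (a, b).2
      from rfl, T.tor2_chi]
    simp [List.range_succ]
  rw [h, slot_cartan]
  simp [zpow_ofNat, zpow_neg]

/-- For `q ≥ 32` some torus element moves every slot. -/
theorem Tw.exists_regular (hq : 32 ≤ Nat.card K) : ∃ a b : Kˣ,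
    ∀ i : Fin 12, ChevSimple.chi (mk4 (T.θU b) (T.θU a) a b) (lb i) ≠ 1 := by
  classical
  haveI := Fintype.ofFinite K
  have hcard : 31 ≤ Fintype.card Kˣ := by
    rw [Fintype.card_units]; rw [Nat.card_eq_fintype_card] at hq; omega
  have hsq : ∀ a a' : Kˣ, T.θU a ^ 2 = T.θU a' ^ 2 → a = a' := fun a a' h => by
    have := congrArg T.θU h
    rw [map_pow, map_pow, T.θU_θU_sq, T.θU_θU_sq] at this
    exact this
  have hdiv : ∀ a a' : Kˣ, (T.θU a ^ 2)⁻¹ * a = (T.θU a' ^ 2)⁻¹ * a' → a = a' := fun a a' h => by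
    rw [← div_eq_one]
    refine T.θU_sq_fix ?_
    rw [map_div, div_pow, div_eq_div_iff_mul_eq_mul]
    rw [inv_mul_eq_iff_eq_mul, mul_comm _ a', ← mul_assoc, eq_mul_inv_iff_mul_eq] at h
    rw [← h, mul_comm]
  have hphi : ∀ a a' : Kˣ, (T.θU a ^ 2)⁻¹ * a ^ 2 = (T.θU a' ^ 2)⁻¹ * a' ^ 2 → a = a' :=
    fun a a' h => T.phi_injective (by
      show a ^ 2 / T.θU a ^ 2 = a' ^ 2 / T.θU a' ^ 2
      rw [div_eq_inv_mul, div_eq_inv_mul, h])
  obtain ⟨b, hb⟩ : ∃ b : Kˣ, b ≠ 1 := by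
    haveI : Nontrivial Kˣ := Fintype.one_lt_card_iff_nontrivial.1 (by omega)
    exact exists_ne 1
  have bad : ∀ f : Kˣ → Kˣ, (∀ a a', f a = f a' → a = a') →
      (Finset.univ.filter fun a => f a = 1).card ≤ 1 := fun f hf => Finset.card_le_one.2
    fun a ha a' ha' => hf a a' (((Finset.mem_filter.1 ha).2).trans (Finset.mem_filter.1 ha').2.symm)
  set P : Kˣ → List Kˣ := fun a => [a⁻¹ * b ^ 2, (T.θU a ^ 2)⁻¹ * a ^ 2 * b⁻¹,
    (T.θU a ^ 2)⁻¹ * a * b, (T.θU b ^ 2)⁻¹ * T.θU a ^ 2 * b⁻¹,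
    (T.θU b ^ 2)⁻¹ * T.θU a ^ 2 * a⁻¹ * b, (T.θU b ^ 2)⁻¹ * a, T.θU b ^ 2 * a⁻¹ * b,
    T.θU b ^ 2 * (T.θU a ^ 2)⁻¹ * a, T.θU a ^ 2 * a⁻¹, a * b⁻¹] with hP
  have hdiv' : ∀ a a' : Kˣ, T.θU a ^ 2 * a⁻¹ = T.θU a' ^ 2 * a'⁻¹ → a = a' := fun a a' h =>
    hdiv a a' (by simpa [mul_comm] using congrArg (fun z : Kˣ => z⁻¹) h)
  have hinj : ∀ k < 10, ∀ a a', (P a).getD k 1 = (P a').getD k 1 → a = a' := by
    intro k hk a a' h
    interval_cases k <;> simp only [hP, List.getD_cons_zero, List.getD_cons_succ, mul_assoc,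
      mul_right_inj] at h <;>
      try simp only [← mul_assoc, mul_left_inj, mul_right_inj, inv_inj] at h
    exacts [h, hphi a a' h, hdiv a a' h, hsq a a' h, hdiv' a a' h, h, h, hdiv a a' h, hdiv' a a' h, h]
  obtain ⟨a, ha⟩ : ∃ a : Kˣ, a ∉ (Finset.range 10).biUnion fun k =>
      Finset.univ.filter fun a => (P a).getD k 1 = 1 := by
    by_contra hc
    push Not at hc
    have h1 := Finset.card_le_card (s := (Finset.univ : Finset Kˣ)) (fun x _ => hc x)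
    have h2 := Finset.card_biUnion_le_card_mul (Finset.range 10)
      (fun k => Finset.univ.filter fun a => (P a).getD k 1 = 1) 1
      fun k hk => bad _ (hinj k (Finset.mem_range.1 hk))
    rw [Finset.card_univ] at h1
    rw [Finset.card_range] at h2
    omega
  simp only [Finset.mem_biUnion, Finset.mem_range, Finset.mem_filter, Finset.mem_univ, true_and,
    not_exists, not_and] at ha
  refine ⟨a, b, fun i => ?_⟩
  have hb2 : T.θU b ^ 2 * b⁻¹ ≠ 1 := fun h => hb (T.θU_sq_fix (mul_inv_eq_one.1 h))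
  have : ChevSimple.chi (mk4 (T.θU b) (T.θU a) a b) (lb i) ∈ (List.finRange 12).map
      (fun i => ChevSimple.chi (mk4 (T.θU b) (T.θU a) a b) (lb i)) :=
    List.mem_map.2 ⟨i, List.mem_finRange i, rfl⟩
  rw [T.slot_chi] at this
  intro e
  rw [e] at this
  simp only [List.mem_cons, List.not_mem_nil, or_false] at this
  rcases this with h | h | h | h | h | h | h | h | h | h | h | h
  exacts [ha 0 (by norm_num) h.symm, ha 1 (by norm_num) h.symm, ha 2 (by norm_num) h.symm,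
    ha 3 (by norm_num) h.symm, ha 4 (by norm_num) h.symm, ha 5 (by norm_num) h.symm, hb2 h.symm,
    ha 6 (by norm_num) h.symm, ha 7 (by norm_num) h.symm, ha 8 (by norm_num) h.symm,
    ha 9 (by norm_num) h.symm, hb h.symm]

omit [CharP K 2] in
theorem even_card [CharP K 2] : Even (Nat.card K) := by
  haveI := Fintype.ofFinite K
  rw [Nat.card_eq_fintype_card]
  exact Nat.even_iff.2 (FiniteField.even_card_of_char_two (ringChar.eq K 2))

omit [Finite K] in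
theorem Tw.tor2_orderOf [Finite K] (p : Kˣ × Kˣ) : Odd (orderOf (T.tor2 p)) := by
  refine Odd.of_dvd_nat ?_ ((orderOf_map_dvd T.tor2 p).trans (orderOf_dvd_natCard p))
  rw [Nat.card_prod, Nat.card_units]
  have h := even_card (K := K)
  have : 0 < Nat.card K := Nat.card_pos
  obtain ⟨k, hk⟩ := h
  exact Odd.mul ⟨k - 1, by omega⟩ ⟨k - 1, by omega⟩

/-- The statement for the twisted group over a field with at least 32 elements. -/
theorem Tw.covers_large (hq : 32 ≤ Nat.card K) :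
    ∃ x ∈ T.fix, Odd (orderOf x) ∧ ∀ g ∈ T.fix, g ≠ 1 →
      ∃ u ∈ T.fix, ∃ v ∈ T.fix, g = (u * x * u⁻¹) * (v * x * v⁻¹) := by
  obtain ⟨a, b, hreg⟩ := T.exists_regular hq
  set x := T.tor2 (a, b) with hx
  refine ⟨x, T.tor2_fix _, T.tor2_orderOf _, fun g hg hne => ?_⟩
  have hxH : x ∈ T.H1 := T.tor2_mem_H1_sq _
  have hfU : ∀ y ∈ T.U1, x * y = y * x → y = 1 := fun y hy h =>
    T.fixfree allS_ok (fun i _ => hreg i) (T.U1_eq ▸ hy) (by rwa [hx, T.tor2_apply] at h)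
  have hfV : ∀ y ∈ T.V1, x * y = y * x → y = 1 := fun y hy h => by
    have h1 : x⁻¹ * (n4 K * y * (n4 K)⁻¹) = (n4 K * y * (n4 K)⁻¹) * x⁻¹ := by
      rw [← T.n4_conj_H1 hxH]
      calc n4 K * x * (n4 K)⁻¹ * (n4 K * y * (n4 K)⁻¹) = n4 K * (x * y) * (n4 K)⁻¹ := by group
        _ = n4 K * (y * x) * (n4 K)⁻¹ := by rw [h]
        _ = _ := by group
    have h2 : x * (n4 K * y * (n4 K)⁻¹) = (n4 K * y * (n4 K)⁻¹) * x := by
      have := congrArg (fun z => x * z * x) h1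
      simpa [mul_assoc] using this.symm
    have := hfU _ (T.n4_conj_V1 hy) h2
    rwa [conj_eq_one_iff] at this
  obtain ⟨c, hc, v, hv, u, hu, e⟩ := T.reach_target (by omega) hg hne (a * a) (b * b)
  rw [show ((a * a, b * b) : Kˣ × Kˣ) = (a, b) * (a, b) from rfl, map_mul, ← hx] at e
  haveI : Finite ↥T.V1 := inferInstance
  obtain ⟨y, hy, ey⟩ := (exists_conj_of_fixfree T.V1 (fun y hy => T.conj_V1 hxH hy) hfV hv).1
  obtain ⟨z, hz, ez⟩ := (exists_conj_of_fixfree T.U1 (fun y hy => T.conj_U1 hxH hy) hfU hu).2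
  refine ⟨c⁻¹ * y, mul_mem (inv_mem hc) (Subgroup.mem_inf.1 hy).2, c⁻¹ * z,
    mul_mem (inv_mem hc) (Subgroup.mem_inf.1 hz).2, ?_⟩
  calc g = c⁻¹ * (c * g * c⁻¹) * c := by group
    _ = c⁻¹ * (v * x * (x * u)) * c := by rw [e]; group
    _ = c⁻¹ * (y * x * y⁻¹ * (z * x * z⁻¹)) * c := by rw [ey, ez]
    _ = _ := by group

end CfsgLib.ReeF4
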