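import Cfsg.Agent.ReeF4Square.TitsTree

/-!
# The Tits group: sorting trees, the cell of the longest element, part 1
-/

set_option autoImplicit false
set_option maxRecDepth 20000
set_option maxHeartbeats 4000000

namespace CfsgLib.ReeF4.Sq2

/-- A tree. -/
def tR4_0 : Tr :=
 (.split (.split (.split (.split (.split (.split (.split (.split (.split (.leaf 361 42393850222)
 (.leaf 1165 5568206046))
 (.split (.leaf 72 89091296749)
 (.leaf 362 42393850222)))
 (.split (.split (.leaf 910477 738168266305)
 (.leaf 0 1425460747998))
 (.split (.leaf 362 678301602926)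
 (.leaf 148 89091296749))))
 (.split (.split (.split (.leaf 101357 5517874398)
 (.leaf 4 89091296749))
 (.split (.leaf 13 19404811757)
 (.leaf 10 1425460747998)))
 (.split (.split (.leaf 22 42393850222)
 (.leaf 2237 19404811757))
 (.split (.leaf 1161 1381876493805)
 (.leaf 97 42393850222)))))
 (.split (.split (.split (.split (.leaf 11 1425460747998)
 (.leaf 5770 42393850222))
 (.split (.leaf 13 222)
 (.leaf 13 162393581)))
 (.split (.split (.leaf 141 39646)
 (.leaf 73 89091296749))
 (.split (.leaf 298468 2117803566302)
 (.leaf 8 1425460747998))))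
 (.split (.split (.split (.leaf 363 42393850222)
 (.leaf 4 1381876493805))
 (.split (.leaf 4775502 132362722893)
 (.leaf 75 89091296749)))
 (.split (.split (.leaf 132 89091296749)
 (.leaf 363 678301602926))
 (.split (.leaf 171 1425460747998)
 (.leaf 857837 5063209774573))))))
 .vac)
 (.split (.split (.split (.split (.split (.split (.leaf 139 1412575846110)
 (.leaf 0 1212800734))
 (.split (.leaf 77 5568206046)
 (.leaf 0 9166558)))
 (.split (.split (.leaf 139 9166558)
 (.leaf 154 1412575846110))
 (.split (.leaf 139 1212800734)
 (.leaf 0 1412575846110))))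
 (.split (.split (.split (.leaf 1156 1212800734)
 (.leaf 10 1412575846110))
 (.split (.leaf 446 75800045)
 (.leaf 9 1412575846110)))
 (.split (.split (.leaf 1668 88285990381)
 (.leaf 9 1212800734))
 (.split (.leaf 157 19404811757)
 (.leaf 9 9166558)))))
 (.split (.split (.split (.split (.leaf 8 9166558)
 (.leaf 30 572909))
 (.split (.leaf 8 1212800734)
 (.leaf 11 1412575846110)))
 (.split (.split (.leaf 8 1412575846110)
 (.leaf 11 1212800734))
 (.split (.leaf 141 2598297165)
 (.leaf 11 9166558))))
 (.split (.split (.split (.leaf 137 1412575846110)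
 (.leaf 30 88285990381))
 (.split (.leaf 138 1412575846110)
 (.leaf 155 9166558)))
 (.split (.split (.leaf 137 9166558)
 (.leaf 171 1412575846110))
 (.split (.leaf 137 1212800734)
 (.leaf 155 1412575846110))))))
 .vac))
 (.split (.split .vac
 (.split (.split (.split (.split (.split (.leaf 20 572909)
 (.leaf 1563 9166558))
 (.split (.leaf 328 88285990381)
 (.leaf 1560 1412575846110)))
 (.split (.split (.leaf 330 88285990381)
 (.leaf 329 1381339622893))
 (.split (.leaf 360 1212800734)
 (.leaf 404 88285990381))))
 (.split (.split (.split (.leaf 20 88285990381)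
 (.leaf 5274 1381339622893))
 (.split (.leaf 328 572909)
 (.leaf 2749 678301603565)))
 (.split (.split (.leaf 330 572909)
 (.leaf 329 75800045))
 (.split (.leaf 5258 88285990381)
 (.leaf 404 572909)))))
 (.split (.split (.split (.split (.leaf 20 75800045)
 (.leaf 97 1412575846110))
 (.split (.leaf 22 1412575846110)
 (.leaf 6292 88285990381)))
 (.split (.split (.leaf 22 1212800734)
 (.leaf 97 9166558))
 (.split (.leaf 22 9166558)
 (.leaf 97 1212800734))))
 (.split (.split (.split (.leaf 20 1381339622893)
 (.leaf 222 6054403806))
 (.split (.leaf 222 26187063006)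
 (.leaf 361 9166558)))
 (.split (.split (.leaf 222 6104735454)
 (.leaf 329 572909))
 (.split (.leaf 1565 39646)
 (.leaf 222 417259081)))))))
 (.split .vac
 (.split (.split (.split (.split (.split (.leaf 137 42393850222)
 (.leaf 6477 35806))
 (.split (.leaf 138 42393850222)
 (.leaf 1560 1425460747998)))
 (.split (.split (.leaf 5226 1381876493805)
 (.leaf 137 678301602926))
 (.split (.leaf 333 5517874398)
 (.leaf 138 678301602926))))
 (.split (.split (.split (.leaf 8 678301602926)
 (.leaf 141 678301603565))
 (.split (.leaf 11 42393850222)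
 (.leaf 1556 1381876493805)))
 (.split (.split (.leaf 5764 89091296749)
 (.leaf 8 42393850222))
 (.split (.leaf 189 678301603565)
 (.leaf 11 678301602926)))))
 (.split (.split (.split (.split (.leaf 97 1425460747998)
 (.leaf 10 42393850222))
 (.split (.leaf 321 42393850182)
 (.leaf 9 42393850222)))
 (.split (.split (.leaf 10 678301602926)
 (.leaf 5225 1381876493805))
 (.split (.leaf 9 678301602926)
 (.leaf 5146 2649615638))))
 (.split (.split (.split (.leaf 222 97104355038)
 (.leaf 139 42393850222))
 (.split (.leaf 5227 1381876493805)
 (.leaf 0 678301602926)))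
 (.split (.split (.leaf 139 678301602926)
 (.leaf 222 96802365150))
 (.split (.leaf 0 42393850222)
 (.leaf 24964 1381876493805)))))))))
 (.split (.split (.split (.split (.split (.split (.split (.split (.leaf 18621 5568206046)
 (.leaf 0 3565))
 (.split (.leaf 92333 678301603565)
 (.leaf 0 10149598)))
 (.split (.split (.leaf 8 634349)
 (.leaf 35806 2054316707405))
 (.split (.leaf 138 41572754660)
 (.leaf 2381 86367280862))))
 (.split (.split (.split (.leaf 11 162393572)
 (.leaf 2270 10149454))
 (.split (.leaf 8 41572754660)
 (.leaf 141 19404811757)))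
 (.split (.split (.leaf 189 19404811757)
 (.leaf 9 10149598))
 (.split (.leaf 26701 4737502)
 (.leaf 8 162393572)))))
 (.split (.split (.split (.split (.leaf 14602600 1411941998302)
 (.leaf 0 634349))
 (.split (.leaf 13 41572754669)
 (.leaf 10 41572754660)))
 (.split (.split (.leaf 8 3565)
 (.leaf 13 39646))
 (.split (.leaf 0 2598297166)
 (.leaf 31346241 86400885789))))
 (.split (.split (.split (.leaf 9 2598297166)
 (.leaf 222 2054316707405))
 (.split (.leaf 0 162393572)
 (.leaf 23780941 2649562701)))
 (.split (.split (.leaf 34014 1425460747854)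
 (.leaf 10 634349))
 (.split (.leaf 28120301 10347757)
 (.leaf 0 41572754660))))))
 .vac)
 (.split (.split (.split (.split (.split (.split (.leaf 5821 678301603565)
 (.leaf 4279262 4513453958285))
 (.split (.leaf 77 86367280862)
 (.leaf 1213 5568206046)))
 (.split (.split (.leaf 2125 5568206046)
 (.leaf 5773 678301603565))
 (.split (.leaf 3038 182374734)
 (.leaf 53614 316450610910))))
 (.split (.split (.split (.leaf 493 5517874398)
 (.leaf 2493 146664941))
 (.split (.leaf 35806 2313084638)
 (.leaf 7149 35806)))
 (.split (.split (.leaf 6637 35806)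
 (.leaf 26957 35806))
 (.split (.leaf 2205 146664941)
 (.leaf 2205 19404811757)))))
 (.split (.split (.split (.split (.leaf 173 39646)
 (.leaf 13 665164074573))
 (.split (.leaf 712270 1558517309006)
 (.leaf 122441 665164071238)))
 (.split (.split (.leaf 3565 128394794212)
 (.leaf 1486308 165597668))
 (.split (.leaf 157 41572754669)
 (.leaf 13 2598297165))))
 (.split (.split (.split (.leaf 306142 454493544014)
 (.leaf 18910 454493544014))
 (.split (.leaf 563934 182374734)
 (.leaf 2270 182374734)))
 (.split (.split (.leaf 646734 350110189)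
 (.leaf 268766 19409064270))
 (.split (.leaf 302573 7271896704237)
 (.leaf 36333 2917995757))))))
 .vac))
 (.split (.split .vac
 (.split (.split (.split (.split (.split (.leaf 365 19404811757)
 (.leaf 365 146664941))
 (.split (.leaf 1565 146664941)
 (.leaf 1565 19404811757)))
 (.split (.split (.leaf 333 4737502)
 (.leaf 5261 86333726430))
 (.split (.leaf 35806 1641995998)
 (.leaf 100685 5517874398))))
 (.split (.split (.split (.leaf 82349 41572703953)
 (.leaf 83613 86367280862))
 (.split (.leaf 18509 678301603565)
 (.leaf 34029 678301603565)))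
 (.split (.split (.leaf 157 678301603565)
 (.leaf 173 678301603565))
 (.split (.leaf 5149 665163261137)
 (.leaf 82317 41572703953)))))
 (.split (.split (.split (.split (.leaf 310558 37264219857)
 (.leaf 110302 28137414353))
 (.split (.leaf 3565 901488960740)
 (.leaf 1347150 634349)))
 (.split (.split (.leaf 85582 10149598)
 (.leaf 703972 97675767268))
 (.split (.leaf 222 488525389)
 (.leaf 39646 488525389))))
 (.split (.split (.split (.leaf 222 30494417)
 (.leaf 365 162393581))
 (.split (.leaf 1565 162393581)
 (.leaf 222 1641995998)))
 (.split (.split (.leaf 5773 39646)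
 (.leaf 222 96835919582))
 (.split (.leaf 222 418958466782)
 (.leaf 24973 39646)))))))
 (.split .vac
 (.split (.split (.split (.split (.split (.leaf 22 634349)
 (.leaf 361 41572754660))
 (.split (.leaf 362 41572754660)
 (.leaf 97 634349)))
 (.split (.split (.leaf 97 2598297166)
 (.leaf 1560 10149598))
 (.split (.leaf 333 86333726430)
 (.leaf 22 2598297166))))
 (.split (.split (.split (.leaf 13 678301603565)
 (.leaf 2477 678301603565))
 (.split (.leaf 5770 10149598)
 (.leaf 22 162393572)))
 (.split (.split (.leaf 362 634349)
 (.leaf 97 41572754660))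
 (.split (.leaf 22 41572754660)
 (.leaf 361 634349)))))
 (.split (.split (.split (.split (.leaf 22 3565)
 (.leaf 97 10149598))
 (.split (.leaf 22 10149598)
 (.leaf 97 3565)))
 (.split (.split (.leaf 360 634349)
 (.leaf 363 2598297166))
 (.split (.leaf 1563 2598297166)
 (.leaf 1560 634349))))
 (.split (.split (.split (.leaf 5770 634349)
 (.leaf 222 1548803301086))
 (.split (.leaf 222 1402388537054)
 (.leaf 5769 634349)))
 (.split (.split (.leaf 222 6071181022)
 (.leaf 361 10149598))
 (.split (.leaf 362 10149598)
 (.leaf 222 6087958238))))))))))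

theorem okR4_0 : chk [12, 13, 12, 13, 12, 13, 12, 13] 3 [] tR4_0 = true := by decide +kernel

/-- A tree. -/
def tR4_1 : Tr :=
 (.split (.split (.split (.split .vac
 (.split (.split (.split (.split (.split (.leaf 334 9166558)
 (.leaf 2237 378400237))
 (.split (.leaf 13 125062499812)
 (.leaf 1046 88285990381)))
 (.split (.split (.leaf 334 1412575846110)
 (.leaf 37910 572909))
 (.split (.leaf 2477 378400237)
 (.leaf 13 378400237))))
 (.split (.split (.split (.leaf 2237 381545965)
 (.leaf 16744 88285990381))
 (.split (.leaf 366 75800045)
 (.leaf 1046 572909)))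
 (.split (.split (.leaf 5294 9166558)
 (.leaf 5278 1212800734))
 (.split (.leaf 13 381545965)
 (.leaf 2477 381545965)))))
 (.split (.split (.split (.split (.leaf 2237 1636691437)
 (.leaf 6221 419798312173))
 (.split (.leaf 366 88285990381)
 (.leaf 1046 1381339622893)))
 (.split (.split (.leaf 5262 9166558)
 (.leaf 5309 419798312173))
 (.split (.leaf 13 1636691437)
 (.leaf 2477 1636691437))))
 (.split (.split (.split (.leaf 5774 75800045)
 (.leaf 2237 1639837165))
 (.split (.leaf 366 572909)
 (.leaf 13 1412590071277)))
 (.split (.split (.leaf 26945 88285990381)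
 (.leaf 2237 1412590071277))
 (.split (.leaf 493 7203178074596)
 (.leaf 13 1639837165)))))))
 (.split .vac
 (.split (.split (.split (.split (.split (.leaf 157 125062499812)
 (.leaf 173 125062499812))
 (.split (.leaf 398 42393850182)
 (.leaf 16778 1381876493805)))
 (.split (.split (.leaf 65 1381876493805)
 (.leaf 157 378400237))
 (.split (.leaf 1051 89091296749)
 (.leaf 16788 1412575846110))))
 (.split (.split (.split (.leaf 1049 89091296749)
 (.leaf 1050 1381876493805))
 (.split (.leaf 2369 1381876493805)
 (.leaf 398 2649615638)))
 (.split (.split (.leaf 157 381545965)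
 (.leaf 173 381545965))
 (.split (.leaf 1048 1381876493805)
 (.leaf 5869 26237394504)))))
 (.split (.split (.split (.split (.leaf 30 42393850182)
 (.leaf 2113 1381876493805))
 (.split (.leaf 446 2649615638)
 (.leaf 16713 1412575846110)))
 (.split (.split (.leaf 65 89091296749)
 (.leaf 173 1636691437))
 (.split (.leaf 1051 1381876493805)
 (.leaf 5310 1425460747998))))
 (.split (.split (.split (.leaf 173 1412590071277)
 (.leaf 30 2649615638))
 (.split (.leaf 2369 89091296749)
 (.leaf 446 42393850182)))
 (.split (.split (.leaf 173 1639837165)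
 (.leaf 157 1639837165))
 (.split (.leaf 1048 89091296749)
 (.leaf 1044 1412575846110))))))))
 (.split (.split (.split (.split (.split (.split (.split (.leaf 5773 125062499812)
 (.leaf 404 42393850182))
 (.split (.leaf 330 42393850182)
 (.leaf 16797 1562812239437)))
 (.split (.split (.leaf 5821 125062499812)
 (.leaf 328 42393850182))
 (.split (.leaf 20 2649615638)
 (.leaf 25021 125062499812))))
 (.split (.split (.split (.leaf 404 2649615638)
 (.leaf 5262 678301602926))
 (.split (.leaf 5310 42393850222)
 (.leaf 330 2649615638)))
 (.split (.split (.leaf 328 2649615638)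
 (.leaf 5142 1381876493805))
 (.split (.leaf 82333 26237394504)
 (.leaf 20 42393850182)))))
 (.split (.split (.split (.split (.leaf 5257 2649615638)
 (.leaf 399582 2000999997006))
 (.split (.leaf 48406 2054308043757)
 (.leaf 329 42393850182)))
 (.split (.split (.leaf 331 2649615638)
 (.leaf 493 419798312173))
 (.split (.leaf 5278 42393850222)
 (.leaf 5259 42393850182))))
 (.split (.split (.split (.leaf 334 42393850222)
 (.leaf 5257 42393850182))
 (.split (.leaf 329 2649615638)
 (.leaf 84158 678301602926)))
 (.split (.split (.leaf 712257 59661607956)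
 (.leaf 331 42393850182))
 (.split (.leaf 5259 2649615638)
 (.leaf 24897 1381876493805))))))
 .vac)
 (.split (.split (.split (.split (.split (.split (.leaf 5147 75800045)
 (.leaf 5144 88285990381))
 (.split (.leaf 321 572909)
 (.leaf 82315 1381339622893)))
 (.split (.split (.leaf 36333 87759407261)
 (.leaf 6465 88285990381))
 (.split (.leaf 6209 75800045)
 (.leaf 1044 678301602926))))
 (.split (.split (.split (.leaf 5147 1381339622893)
 (.leaf 5144 572909))
 (.split (.leaf 321 88285990381)
 (.leaf 16772 42393850222)))
 (.split (.split (.leaf 16714 42393850222)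
 (.leaf 6465 572909))
 (.split (.leaf 6209 1381339622893)
 (.leaf 5145 75800045)))))
 (.split (.split (.split (.split (.leaf 5147 572909)
 (.leaf 5144 1381339622893))
 (.split (.leaf 321 75800045)
 (.leaf 16715 678301602926)))
 (.split (.split (.leaf 16712 678301602926)
 (.leaf 6465 1381339622893))
 (.split (.leaf 6209 572909)
 (.leaf 5145 88285990381))))
 (.split (.split (.split (.leaf 5147 88285990381)
 (.leaf 5144 75800045))
 (.split (.leaf 321 1381339622893)
 (.leaf 16788 42393850222)))
 (.split (.split (.leaf 82313 88285990381)
 (.leaf 6465 75800045))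
 (.split (.leaf 6209 88285990381)
 (.leaf 5145 572909))))))
 .vac)))
 (.split (.split (.split .vac
 (.split (.split (.split (.split (.split (.leaf 2749 378400237)
 (.leaf 1044 41572754660))
 (.split (.leaf 2205 125062499812)
 (.leaf 1745 2054308043757)))
 (.split (.split (.leaf 1044 162393572)
 (.leaf 2749 125062499812))
 (.split (.leaf 2221 378400237)
 (.leaf 2205 378400237))))
 (.split (.split (.split (.leaf 1044 2598297166)
 (.leaf 2749 381545965))
 (.split (.leaf 3565 4486327037421)
 (.leaf 5342 1435619943582)))
 (.split (.split (.leaf 5854 10149454)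
 (.leaf 3565 125062472941))
 (.split (.leaf 2205 381545965)
 (.leaf 1044 634349)))))
 (.split (.split (.split (.split (.leaf 2493 1636691437)
 (.leaf 2749 1636691437))
 (.split (.leaf 3565 4486863908333)
 (.leaf 5261 419798312173)))
 (.split (.split (.leaf 6477 419798312173)
 (.leaf 3565 3521441252))
 (.split (.leaf 2205 1636691437)
 (.leaf 2221 1636691437))))
 (.split (.split (.split (.leaf 2749 1639837165)
 (.leaf 2493 1639837165))
 (.split (.leaf 2221 1412590071277)
 (.leaf 2205 1412590071277)))
 (.split (.split (.leaf 2749 1412590071277)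
 (.leaf 1044 10149598))
 (.split (.leaf 2221 1639837165)
 (.leaf 1044 3565)))))))
 (.split .vac
 (.split (.split (.split (.split (.split (.leaf 141 125062499812)
 (.leaf 35245 125062499812))
 (.split (.leaf 334 10149598)
 (.leaf 189 378400237)))
 (.split (.split (.leaf 5310 634349)
 (.leaf 141 378400237))
 (.split (.leaf 189 125062499812)
 (.leaf 6478 41572754660))))
 (.split (.split (.split (.leaf 3565 331220966990)
 (.leaf 5262 162393572))
 (.split (.leaf 189 381545965)
 (.leaf 25054 182374734)))
 (.split (.split (.leaf 141 381545965)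
 (.leaf 3565 1416783388382))
 (.split (.leaf 3565 1421078355678)
 (.leaf 5278 10149598)))))
 (.split (.split (.split (.split (.leaf 334 634349)
 (.leaf 84158 2598297166))
 (.split (.leaf 189 1636691437)
 (.leaf 5278 41572754660)))
 (.split (.split (.leaf 141 1636691437)
 (.leaf 5294 162393572))
 (.split (.leaf 5278 162393572)
 (.leaf 333 419798312173))))
 (.split (.split (.split (.leaf 6222 634349)
 (.leaf 141 1412590071277))
 (.split (.leaf 5278 2598297166)
 (.leaf 189 1639837165)))
 (.split (.split (.leaf 5854 182374734)
 (.leaf 141 1639837165))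
 (.split (.leaf 334 41572754660)
 (.leaf 189 1412590071277))))))))
 (.split (.split (.split (.split (.split (.split (.split (.leaf 5789 125062499812)
 (.leaf 56909 87759407582))
 (.split (.leaf 1053 1562812239437)
 (.leaf 5342 104401595675)))
 (.split (.split (.leaf 609773 96974331469)
 (.leaf 5789 378400237))
 (.split (.leaf 5805 378400237)
 (.leaf 398366 162393572))))
 (.split (.split (.split (.leaf 606573 418993005592)
 (.leaf 35793 5007477104200))
 (.split (.leaf 6353 2054308043757)
 (.leaf 3565 111112439524)))
 (.split (.split (.leaf 5789 381545965)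
 (.leaf 568606 1777648657437))
 (.split (.leaf 209 5007477104200)
 (.leaf 5149 26237394504)))))
 (.split (.split (.split (.split (.leaf 83486 162393572)
 (.leaf 101357 419798312173))
 (.split (.leaf 82286 162393572)
 (.leaf 48612 1915087674958)))
 (.split (.split (.leaf 5789 1636691437)
 (.leaf 16862 331220930020))
 (.split (.leaf 3565 1403083678942)
 (.leaf 5805 1636691437))))
 (.split (.split (.split (.leaf 6477 7203178074596)
 (.leaf 3565 5076347524318))
 (.split (.leaf 5805 1412590071277)
 (.leaf 5293 7203178074596)))
 (.split (.split (.leaf 3565 1999019855569)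
 (.leaf 5789 1639837165))
 (.split (.leaf 5805 1639837165)
 (.leaf 5261 7203178074596))))))
 .vac)
 (.split (.split (.split (.split (.split (.split (.leaf 3565 1380439744077)
 (.leaf 1565 125062499812))
 (.split (.leaf 365 125062499812)
 (.leaf 2769 5007477104200)))
 (.split (.split (.leaf 1565 378400237)
 (.leaf 267286 41572754660))
 (.split (.leaf 82246 634349)
 (.leaf 365 378400237))))
 (.split (.split (.split (.leaf 82246 41572754660)
 (.leaf 16749 418993005592))
 (.split (.leaf 92349 381545965)
 (.leaf 92382 6087958238)))
 (.split (.split (.leaf 93150 89628208612)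
 (.leaf 1565 381545965))
 (.split (.leaf 365 381545965)
 (.leaf 82349 26237394504)))))
 (.split (.split (.split (.split (.leaf 400350 1548803301086)
 (.leaf 83476 2598297166))
 (.split (.leaf 92349 1636691437)
 (.leaf 26701 419798312173)))
 (.split (.split (.leaf 82246 10149598)
 (.leaf 1565 1636691437))
 (.split (.leaf 365 1636691437)
 (.leaf 93761 41572754660))))
 (.split (.split (.split (.leaf 1565 1412590071277)
 (.leaf 3565 1777799064862))
 (.split (.leaf 398356 41572754660)
 (.leaf 333 7203178074596)))
 (.split (.split (.leaf 1565 1639837165)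
 (.leaf 83476 162393572))
 (.split (.leaf 93761 2598297166)
 (.leaf 365 1639837165))))))
 .vac))))

theorem okR4_1 : chk [12, 13, 12, 13, 12, 13, 12, 13] 3 [2] tR4_1 = true := by decide +kernel

end CfsgLib.ReeF4.Sq2
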