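import Cfsg.Agent.ReeF4Square.TitsTree

/-!
# The Tits group: sorting trees, the cell of the longest element, part 2
-/

set_option autoImplicit false
set_option maxRecDepth 20000
set_option maxHeartbeats 4000000

namespace CfsgLib.ReeF4.Sq2

/-- A tree. -/
def tR4_2 : Tr :=
 (.split (.split (.split (.split .vac
 (.split (.split (.split (.split (.split (.leaf 360 89733914334)
 (.leaf 1246 5394521672))
 (.split (.leaf 363 23650014)
 (.leaf 1049 97675764964)))
 (.split (.split (.leaf 363 89733914334)
 (.leaf 333 41572703953))
 (.split (.leaf 360 23650014)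
 (.leaf 1563 89733914334))))
 (.split (.split (.split (.leaf 5803 23650014)
 (.leaf 1051 97675764964))
 (.split (.leaf 5662 97675764964)
 (.leaf 5787 23650014)))
 (.split (.split (.leaf 2270 5484962953)
 (.leaf 2113 97675764964))
 (.split (.leaf 5803 89733914334)
 (.leaf 5769 23650014)))))
 (.split (.split (.split (.split (.leaf 361 89733914334)
 (.leaf 65 97675764964))
 (.split (.leaf 3556 1404150521325)
 (.leaf 362 89733914334)))
 (.split (.split (.leaf 38110 6060895716)
 (.leaf 362 23650014))
 (.split (.leaf 361 23650014)
 (.leaf 83588 89733914334))))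
 (.split (.split (.split (.leaf 222 86277484004)
 (.leaf 22 89733914334))
 (.split (.leaf 97 89733914334)
 (.leaf 2369 97675764964)))
 (.split (.split (.leaf 97 23650014)
 (.leaf 222 1400509488862))
 (.split (.leaf 24971 89733914334)
 (.leaf 22 23650014)))))))
 (.split .vac
 (.split (.split (.split (.split (.split (.leaf 82315 96870458596)
 (.leaf 1560 1415968644830))
 (.split (.leaf 360 1415968644830)
 (.leaf 84973 678301603565)))
 (.split (.split (.leaf 5348 97675764964)
 (.leaf 333 665163261137))
 (.split (.leaf 360 23846622)
 (.leaf 5145 96870458596))))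
 (.split (.split (.split (.leaf 5770 1415968644830)
 (.leaf 35806 2649613332))
 (.split (.leaf 82313 96870458596)
 (.leaf 5149 5517874398)))
 (.split (.split (.leaf 5770 23846622)
 (.leaf 5147 96870458596))
 (.split (.leaf 84708 97675764964)
 (.leaf 5769 23846622)))))
 (.split (.split (.split (.split (.leaf 222 1400677261022)
 (.leaf 222 1380544601822))
 (.split (.leaf 2257 128394252734)
 (.leaf 361 1415968644830)))
 (.split (.split (.leaf 321 96870458596)
 (.leaf 572900 2648971501))
 (.split (.leaf 3025 128394252734)
 (.leaf 361 23846622))))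
 (.split (.split (.split (.leaf 39646 1573063155422)
 (.leaf 97 1415968644830))
 (.split (.leaf 22 1415968644830)
 (.leaf 85582 23650014)))
 (.split (.split (.leaf 5146 96870458596)
 (.leaf 97 23846622))
 (.split (.leaf 22 23846622)
 (.leaf 709092 591931907806))))))))
 (.split (.split (.split (.split (.split (.split (.split (.leaf 5357 146664941)
 (.leaf 0 89733914334))
 (.split (.leaf 139 23650014)
 (.leaf 154 89733914334)))
 (.split (.split (.leaf 139 89733914334)
 (.leaf 154 23650014))
 (.split (.leaf 18505 89733914334)
 (.leaf 0 23650014))))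
 (.split (.split (.split (.leaf 1156 23650014)
 (.leaf 9 89733914334))
 (.split (.leaf 2126 23650014)
 (.leaf 10 89733914334)))
 (.split (.split (.leaf 2126 89733914334)
 (.leaf 10 23650014))
 (.split (.leaf 1156 89733914334)
 (.leaf 9 23650014)))))
 (.split (.split (.split (.split (.leaf 171 23650014)
 (.leaf 137 89733914334))
 (.split (.leaf 155 23650014)
 (.leaf 138 89733914334)))
 (.split (.split (.leaf 155 89733914334)
 (.leaf 138 23650014))
 (.split (.leaf 171 89733914334)
 (.leaf 137 23650014))))
 (.split (.split (.split (.leaf 2475 23650014)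
 (.leaf 8 89733914334))
 (.split (.leaf 11 23650014)
 (.leaf 2202 89733914334)))
 (.split (.split (.leaf 11 89733914334)
 (.leaf 2202 23650014))
 (.split (.leaf 2475 89733914334)
 (.leaf 8 23650014))))))
 .vac)
 (.split (.split (.split (.split (.split (.split (.leaf 139 23846622)
 (.leaf 0 1415968644830))
 (.split (.leaf 5822 96870458596)
 (.leaf 154 1415968644830)))
 (.split (.split (.leaf 139 1415968644830)
 (.leaf 0 23846622))
 (.split (.leaf 5147 6703888089485)
 (.leaf 154 23846622))))
 (.split (.split (.split (.leaf 2126 23846622)
 (.leaf 9 1415968644830))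
 (.split (.leaf 1156 23846622)
 (.leaf 10 1415968644830)))
 (.split (.split (.leaf 2126 1415968644830)
 (.leaf 9 23846622))
 (.split (.leaf 366 96870458596)
 (.leaf 10 23846622)))))
 (.split (.split (.split (.split (.leaf 137 1415968644830)
 (.leaf 155 23846622))
 (.split (.leaf 138 1415968644830)
 (.leaf 171 23846622)))
 (.split (.split (.leaf 137 23846622)
 (.leaf 155 1415968644830))
 (.split (.leaf 138 23846622)
 (.leaf 171 1415968644830))))
 (.split (.split (.split (.leaf 8 1415968644830)
 (.leaf 11 23846622))
 (.split (.leaf 2202 1415968644830)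
 (.leaf 222 1737563758302)))
 (.split (.split (.leaf 8 23846622)
 (.leaf 11 1415968644830))
 (.split (.leaf 222 88564752094)
 (.leaf 2475 1415968644830))))))
 .vac)))
 (.split (.split (.split .vac
 (.split (.split (.split (.split (.split (.leaf 363 102293214)
 (.leaf 1560 1420532047582))
 (.split (.leaf 360 1420532047582)
 (.leaf 1563 102293214)))
 (.split (.split (.leaf 360 102293214)
 (.leaf 1563 1420532047582))
 (.split (.leaf 30 26237394510)
 (.leaf 1560 102293214))))
 (.split (.split (.split (.leaf 446 26237394510)
 (.leaf 5769 1420532047582))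
 (.split (.leaf 5770 1420532047582)
 (.leaf 5149 4737502)))
 (.split (.split (.leaf 5770 102293214)
 (.leaf 414 26237394510))
 (.split (.leaf 5803 1420532047582)
 (.leaf 1684 26237394510)))))
 (.split (.split (.split (.split (.leaf 362 102293214)
 (.leaf 82281 26187062862))
 (.split (.leaf 430 26237394510)
 (.leaf 361 102293214)))
 (.split (.split (.leaf 83480 26187062862)
 (.leaf 361 1420532047582))
 (.split (.leaf 362 1420532047582)
 (.leaf 26772 26237394510))))
 (.split (.split (.split (.leaf 22 102293214)
 (.leaf 6574 26237394510))
 (.split (.leaf 5771 1420532047582)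
 (.leaf 97 102293214)))
 (.split (.split (.leaf 222 1547294336228)
 (.leaf 97 1420532047582))
 (.split (.leaf 22 1420532047582)
 (.leaf 24971 102293214)))))))
 (.split .vac
 (.split (.split (.split (.split (.split (.leaf 360 88286879454)
 (.leaf 1318465 26237394510))
 (.split (.leaf 5357 678301603565)
 (.leaf 1560 88286879454)))
 (.split (.split (.leaf 360 102489822)
 (.leaf 18654 746856177230))
 (.split (.leaf 633822 678136700494)
 (.leaf 1560 102489822))))
 (.split (.split (.split (.leaf 5770 88286879454)
 (.leaf 5149 86333726430))
 (.split (.leaf 35806 7551657591105)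
 (.leaf 5769 88286879454)))
 (.split (.split (.leaf 5770 102489822)
 (.leaf 99357 5517874398))
 (.split (.leaf 35806 128394796753)
 (.leaf 5769 102489822)))))
 (.split (.split (.split (.split (.leaf 222 6683487035102)
 (.leaf 362 102489822))
 (.split (.leaf 361 102489822)
 (.leaf 27934 9077914922468)))
 (.split (.split (.leaf 2270 678136700494)
 (.leaf 362 88286879454))
 (.split (.leaf 361 88286879454)
 (.leaf 38110 746856177230))))
 (.split (.split (.split (.leaf 39646 7551657591105)
 (.leaf 22 102489822))
 (.split (.leaf 97 102489822)
 (.leaf 1355486 1777812676068)))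
 (.split (.split (.leaf 222 4485587853022)
 (.leaf 22 88286879454))
 (.split (.leaf 97 88286879454)
 (.leaf 1658446 1420532047582))))))))
 (.split (.split (.split (.split (.split (.split (.split (.leaf 139 102293214)
 (.leaf 154 1420532047582))
 (.split (.leaf 388 26237394510)
 (.leaf 0 1420532047582)))
 (.split (.split (.leaf 18505 1420532047582)
 (.leaf 0 102293214))
 (.split (.leaf 139 1420532047582)
 (.leaf 154 102293214))))
 (.split (.split (.split (.leaf 1156 102293214)
 (.leaf 9 1420532047582))
 (.split (.leaf 2126 102293214)
 (.leaf 10 1420532047582)))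
 (.split (.split (.leaf 2126 1420532047582)
 (.leaf 10 102293214))
 (.split (.leaf 329 26237394510)
 (.leaf 9 102293214)))))
 (.split (.split (.split (.split (.leaf 138 102293214)
 (.leaf 155 1420532047582))
 (.split (.leaf 137 102293214)
 (.leaf 171 1420532047582)))
 (.split (.split (.leaf 137 1420532047582)
 (.leaf 171 102293214))
 (.split (.leaf 138 1420532047582)
 (.leaf 155 102293214))))
 (.split (.split (.split (.leaf 8 102293214)
 (.leaf 1051 26187062862))
 (.split (.leaf 2202 102293214)
 (.leaf 11 1420532047582)))
 (.split (.split (.leaf 2202 1420532047582)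
 (.leaf 11 102293214))
 (.split (.leaf 8 1420532047582)
 (.leaf 2475 102293214))))))
 .vac)
 (.split (.split (.split (.split (.split (.split (.leaf 18505 102489822)
 (.leaf 154 88286879454))
 (.split (.leaf 139 102489822)
 (.leaf 0 88286879454)))
 (.split (.split (.leaf 18505 88286879454)
 (.leaf 154 102489822))
 (.split (.leaf 139 88286879454)
 (.leaf 0 102489822))))
 (.split (.split (.split (.leaf 2126 102489822)
 (.leaf 9 88286879454))
 (.split (.leaf 1156 102489822)
 (.leaf 10 88286879454)))
 (.split (.split (.leaf 2126 88286879454)
 (.leaf 9 102489822))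
 (.split (.leaf 1156 88286879454)
 (.leaf 10 102489822)))))
 (.split (.split (.split (.split (.leaf 155 88286879454)
 (.leaf 137 102489822))
 (.split (.leaf 171 88286879454)
 (.leaf 138 102489822)))
 (.split (.split (.leaf 155 102489822)
 (.leaf 137 88286879454))
 (.split (.leaf 171 102489822)
 (.leaf 138 88286879454))))
 (.split (.split (.split (.leaf 2475 88286879454)
 (.leaf 222 1411683114718))
 (.split (.leaf 11 88286879454)
 (.leaf 8 102489822)))
 (.split (.split (.leaf 222 1420541484766)
 (.leaf 2202 88286879454))
 (.split (.leaf 11 102489822)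
 (.leaf 8 88286879454))))))
 .vac))))

theorem okR4_2 : chk [12, 13, 12, 13, 12, 13, 12, 13] 3 [1] tR4_2 = true := by decide +kernel

/-- A tree. -/
def tR4_3 : Tr :=
 (.split (.split (.split (.split (.split (.split (.split (.split (.split (.leaf 333 26237394504)
 (.leaf 6222 89733914334))
 (.split (.leaf 36333 115407447182)
 (.leaf 5226 97675764964)))
 (.split (.split (.leaf 6381 418993005592)
 (.leaf 5294 89733914334))
 (.split (.leaf 5224 97675764964)
 (.leaf 6222 23650014))))
 (.split (.split (.split (.leaf 1556 97675764964)
 (.leaf 3556 282090872397))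
 (.split (.leaf 19133 1562812239437)
 (.leaf 326 97675764964)))
 (.split (.split (.leaf 16788 1415968644830)
 (.leaf 334 89733914334))
 (.split (.leaf 18621 1562812239437)
 (.leaf 35149 1562812239437)))))
 (.split (.split (.split (.split (.leaf 5262 89733914334)
 (.leaf 99357 7203178074596))
 (.split (.leaf 5310 23650014)
 (.leaf 5227 97675764964)))
 (.split (.split (.leaf 5310 89733914334)
 (.leaf 24964 97675764964))
 (.split (.leaf 5262 23650014)
 (.leaf 16714 23846622))))
 (.split (.split (.split (.leaf 1044 1415968644830)
 (.leaf 6478 23650014))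
 (.split (.leaf 84670 23650014)
 (.leaf 24905 97675764964)))
 (.split (.split (.leaf 1044 23846622)
 (.leaf 56905 310545028324))
 (.split (.leaf 83595 97675764964)
 (.leaf 6478 89733914334))))))
 .vac)
 (.split (.split (.split (.split (.split (.split (.leaf 6846 96870458596)
 (.leaf 5258 6703888089485))
 (.split (.leaf 478 1435757569261)
 (.leaf 1316589 381545965)))
 (.split (.split (.leaf 20 6703888089485)
 (.leaf 5294 1415968644830))
 (.split (.leaf 398 96870458596)
 (.leaf 6474 6703888089485))))
 (.split (.split (.split (.leaf 92382 1415978082014)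
 (.leaf 328 6703888089485))
 (.split (.leaf 1213 1562812239437)
 (.leaf 6334 96870458596)))
 (.split (.split (.leaf 330 6703888089485)
 (.leaf 334 1415968644830))
 (.split (.leaf 2125 1562812239437)
 (.leaf 404 6703888089485)))))
 (.split (.split (.split (.split (.leaf 26697 96870458596)
 (.leaf 5259 6703888089485))
 (.split (.leaf 446 96870458596)
 (.leaf 399582 1415978082014)))
 (.split (.split (.leaf 1684 96870458596)
 (.leaf 5262 23846622))
 (.split (.leaf 414 96870458596)
 (.leaf 329 6703888089485))))
 (.split (.split (.split (.leaf 92237 418993005805)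
 (.leaf 388 6703888089485))
 (.split (.leaf 5257 6703888089485)
 (.leaf 6590 96870458596)))
 (.split (.split (.leaf 331 6703888089485)
 (.leaf 5652 96870458596))
 (.split (.leaf 6478 1415968644830)
 (.leaf 30 96870458596))))))
 .vac))
 (.split (.split .vac
 (.split (.split (.split (.split (.split (.leaf 1161 97675764964)
 (.leaf 6893 26237394504))
 (.split (.leaf 132 97675764964)
 (.leaf 5293 418993005592)))
 (.split (.split (.leaf 1178 97675764964)
 (.leaf 5261 418993005592))
 (.split (.leaf 75 97675764964)
 (.leaf 13715172 596227517716))))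
 (.split (.split (.split (.leaf 2196 97675764964)
 (.leaf 5357 125062499812))
 (.split (.leaf 1163 97675764964)
 (.leaf 398356 1415968644830)))
 (.split (.split (.leaf 73 97675764964)
 (.leaf 40420 4509159801230))
 (.split (.leaf 1195 97675764964)
 (.leaf 24909 1562812239437)))))
 (.split (.split (.split (.split (.leaf 2121 97675764964)
 (.leaf 431133 7203178074596))
 (.split (.leaf 72 97675764964)
 (.leaf 82246 23846622)))
 (.split (.split (.leaf 148 97675764964)
 (.leaf 400350 1380544601822))
 (.split (.leaf 74 97675764964)
 (.leaf 82246 1415968644830))))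
 (.split (.split (.split (.leaf 2376 97675764964)
 (.leaf 5854 165560717))
 (.split (.leaf 1162 97675764964)
 (.leaf 83678 182337933)))
 (.split (.split (.leaf 2378 97675764964)
 (.leaf 77 418993005805))
 (.split (.leaf 4 97675764964)
 (.leaf 27934 7343926275350)))))))
 (.split .vac
 (.split (.split (.split (.split (.split (.leaf 6381 26237394504)
 (.leaf 328 96870458596))
 (.split (.leaf 6217 96870458596)
 (.leaf 430 6703888089485)))
 (.split (.split (.leaf 330 96870458596)
 (.leaf 6334 6703888089485))
 (.split (.leaf 82286 23846622)
 (.leaf 404 96870458596))))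
 (.split (.split (.split (.leaf 5258 96870458596)
 (.leaf 398 6703888089485))
 (.split (.leaf 99565 378400237)
 (.leaf 6472 96870458596)))
 (.split (.split (.leaf 2270 1846519154925)
 (.leaf 20 96870458596))
 (.split (.leaf 6474 96870458596)
 (.leaf 6846 6703888089485)))))
 (.split (.split (.split (.split (.leaf 39902 678301048529)
 (.leaf 30 6703888089485))
 (.split (.leaf 5257 96870458596)
 (.leaf 5652 6703888089485)))
 (.split (.split (.leaf 331 96870458596)
 (.leaf 6590 6703888089485))
 (.split (.leaf 6366 1382414209355)
 (.leaf 5274 96870458596))))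
 (.split (.split (.split (.leaf 5259 96870458596)
 (.leaf 414 6703888089485))
 (.split (.leaf 267405 1639837165)
 (.leaf 1684 6703888089485)))
 (.split (.split (.leaf 2381 418993005805)
 (.leaf 446 6703888089485))
 (.split (.leaf 329 96870458596)
 (.leaf 26697 6703888089485)))))))))
 (.split (.split (.split (.split (.split (.split (.split (.split (.leaf 74 26187062862)
 (.leaf 5294 102293214))
 (.split (.leaf 148 26187062862)
 (.leaf 5277 26237394504)))
 (.split (.split (.leaf 72 26187062862)
 (.leaf 6222 102293214))
 (.split (.leaf 2121 26187062862)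
 (.leaf 5294 1420532047582))))
 (.split (.split (.split (.leaf 77 1562812239437)
 (.leaf 2378 26187062862))
 (.split (.leaf 82313 26237394510)
 (.leaf 4 26187062862)))
 (.split (.split (.leaf 5147 26237394510)
 (.leaf 334 1420532047582))
 (.split (.leaf 82330 26237394510)
 (.leaf 1162 26187062862)))))
 (.split (.split (.split (.split (.leaf 100686 102293214)
 (.leaf 321 26237394510))
 (.split (.leaf 16714 102489822)
 (.leaf 132 26187062862)))
 (.split (.split (.leaf 103598 102293214)
 (.leaf 1178 26187062862))
 (.split (.leaf 16714 88286879454)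
 (.leaf 75 26187062862))))
 (.split (.split (.split (.leaf 1163 26187062862)
 (.leaf 6465 26237394510))
 (.split (.leaf 2196 26187062862)
 (.leaf 1044 102489822)))
 (.split (.split (.leaf 1195 26187062862)
 (.leaf 24909 418993005805))
 (.split (.leaf 73 26187062862)
 (.leaf 1044 88286879454))))))
 .vac)
 (.split (.split (.split (.split (.split (.split (.leaf 5278 102489822)
 (.leaf 84397 26237394504))
 (.split (.leaf 5309 26237394504)
 (.leaf 5294 102489822)))
 (.split (.split (.leaf 493 418993005592)
 (.leaf 16712 102293214))
 (.split (.leaf 16715 1420532047582)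
 (.leaf 5294 88286879454))))
 (.split (.split (.split (.leaf 1197 1562812239437)
 (.leaf 334 102489822))
 (.split (.leaf 16788 102293214)
 (.leaf 85278 280495252621)))
 (.split (.split (.leaf 1165 1562812239437)
 (.leaf 334 88286879454))
 (.split (.leaf 84398 88286879454)
 (.leaf 267401 102293214)))))
 (.split (.split (.split (.split (.leaf 5262 102489822)
 (.leaf 16714 102293214))
 (.split (.leaf 16713 102293214)
 (.leaf 100686 102489822)))
 (.split (.split (.leaf 5262 88286879454)
 (.leaf 5149 7203178074596))
 (.split (.leaf 399582 88296316638)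
 (.leaf 16714 1420532047582))))
 (.split (.split (.split (.leaf 1044 102293214)
 (.leaf 6478 88286879454))
 (.split (.leaf 83597 418993005805)
 (.leaf 92909 419798312173)))
 (.split (.split (.leaf 83629 418993005805)
 (.leaf 6478 102489822))
 (.split (.leaf 1044 1420532047582)
 (.leaf 84446 1916862799437))))))
 .vac))
 (.split (.split .vac
 (.split (.split (.split (.split (.split (.leaf 493 26237394504)
 (.leaf 24907 26187062862))
 (.split (.leaf 5227 26187062862)
 (.leaf 5309 418993005592)))
 (.split (.split (.leaf 24964 26187062862)
 (.leaf 6221 418993005592))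
 (.split (.leaf 366 26237394510)
 (.leaf 5764 26187062862))))
 (.split (.split (.split (.leaf 1337533 1562812239437)
 (.leaf 5822 26237394510))
 (.split (.leaf 5225 26187062862)
 (.leaf 7454 17524712676)))
 (.split (.split (.leaf 5790 26237394510)
 (.leaf 83476 102489822))
 (.split (.leaf 113950 9077914922468)
 (.leaf 19949 746856177224)))))
 (.split (.split (.split (.split (.leaf 5224 26187062862)
 (.leaf 16717 1636691437))
 (.split (.leaf 5806 26237394510)
 (.leaf 16749 7203178074596)))
 (.split (.split (.leaf 92350 26237394510)
 (.leaf 5226 26187062862))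
 (.split (.leaf 5780 26187062862)
 (.leaf 16744 26237394510))))
 (.split (.split (.split (.leaf 1046 26237394510)
 (.leaf 103453 419798312173))
 (.split (.leaf 35149 418993005805)
 (.leaf 5774 26237394510)))
 (.split (.split (.leaf 16717 1412590071277)
 (.leaf 1556 26187062862))
 (.split (.leaf 326 26187062862)
 (.leaf 19133 418993005805)))))))
 (.split .vac
 (.split (.split (.split (.split (.split (.leaf 6637 26237394504)
 (.leaf 26957 26237394504))
 (.split (.leaf 5277 418993005592)
 (.leaf 5342 1306846230)))
 (.split (.split (.leaf 7149 26237394504)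
 (.leaf 398558 1380478477540))
 (.split (.leaf 5854 1666832000228)
 (.leaf 84157 418993005592))))
 (.split (.split (.split (.leaf 267437 381545965)
 (.leaf 398356 1420532047582))
 (.split (.leaf 84205 378400237)
 (.leaf 83476 1420532047582)))
 (.split (.split (.leaf 83645 1562812239437)
 (.leaf 82404 26237394510))
 (.split (.leaf 84973 378400237)
 (.leaf 84205 125062499812)))))
 (.split (.split (.split (.split (.leaf 267437 1636691437)
 (.leaf 82246 1420532047582))
 (.split (.leaf 84205 1639837165)
 (.leaf 92909 7203178074596)))
 (.split (.split (.leaf 399582 1547294336228)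
 (.leaf 267917 7203178074596))
 (.split (.leaf 84205 1412590071277)
 (.leaf 82246 102293214))))
 (.split (.split (.split (.leaf 267286 1420532047582)
 (.leaf 25054 1666832000228))
 (.split (.leaf 5149 419798312173)
 (.leaf 2125 418993005805)))
 (.split (.split (.leaf 16718 26187062862)
 (.leaf 267437 1412590071277))
 (.split (.leaf 18861 418993005805)
 (.leaf 1213 418993005805))))))))))

theorem okR4_3 : chk [12, 13, 12, 13, 12, 13, 12, 13] 3 [1, 2] tR4_3 = true := by decide +kernel

end CfsgLib.ReeF4.Sq2
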