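import Cfsg.Agent.ReeF4Square.TitsTree

/-!
# The Tits group: sorting trees, the cell of the longest element, part 3
-/

set_option autoImplicit false
set_option maxRecDepth 20000
set_option maxHeartbeats 4000000

namespace CfsgLib.ReeF4.Sq2

/-- A tree. -/
def tR4_4 : Tr :=
 (.split (.split (.split (.split (.split (.split (.split (.split (.split (.leaf 395 1412575846110)
 (.leaf 1 1212800734))
 (.split (.leaf 13 1213066733)
 (.leaf 1 9166558)))
 (.split (.split (.leaf 132 572909)
 (.leaf 73 88285990381))
 (.split (.leaf 148 1381339622893)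
 (.leaf 1 1412575846110))))
 (.split (.split (.split (.leaf 77 1775365406)
 (.leaf 4 1381339622893))
 (.split (.leaf 75 88285990381)
 (.leaf 25 1412575846110)))
 (.split (.split (.leaf 132 88285990381)
 (.leaf 25 1212800734))
 (.split (.leaf 148 75800045)
 (.leaf 25 9166558)))))
 (.split (.split (.split (.split (.leaf 1163 1381339622893)
 (.leaf 4 572909))
 (.split (.leaf 27 1412575846110)
 (.leaf 24 1212800734)))
 (.split (.split (.leaf 27 1212800734)
 (.leaf 24 1412575846110))
 (.split (.leaf 27 9166558)
 (.leaf 1161 75800045))))
 (.split (.split (.split (.leaf 411 1212800734)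
 (.leaf 4 88285990381))
 (.split (.leaf 13 10350061)
 (.leaf 13 646865)))
 (.split (.split (.leaf 132 1381339622893)
 (.leaf 73 75800045))
 (.split (.leaf 148 572909)
 (.leaf 141 712401))))))
 .vac)
 (.split (.split (.split (.split (.split (.split (.leaf 65 2649615638)
 (.leaf 2381 1775365406))
 (.split (.leaf 365 42393850349)
 (.leaf 106 42393850222)))
 (.split (.split (.leaf 34001 5607878366)
 (.leaf 1 1425460747998))
 (.split (.leaf 106 678301602926)
 (.leaf 77 41572703809))))
 (.split (.split (.split (.leaf 33821 1421166374171)
 (.leaf 6 678301602926))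
 (.split (.leaf 157 1213066733)
 (.leaf 26 1425460747998)))
 (.split (.split (.leaf 6 42393850222)
 (.leaf 7149 665164071278))
 (.split (.leaf 2270 665164071390)
 (.leaf 353 42393850222)))))
 (.split (.split (.split (.split (.leaf 141 41572754461)
 (.leaf 27 1425460747998))
 (.split (.leaf 157 10350061)
 (.leaf 157 646865)))
 (.split (.split (.leaf 1049 42393850182)
 (.leaf 30 1381876493805))
 (.split (.leaf 24 1425460747998)
 (.leaf 2205 712401))))
 (.split (.split (.split (.leaf 394 1425460747998)
 (.leaf 107 42393850222))
 (.split (.leaf 104 678301602926)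
 (.leaf 27601 41572754641)))
 (.split (.split (.leaf 107 678301602926)
 (.leaf 411 1425460747998))
 (.split (.leaf 2526 165600990)
 (.leaf 104 42393850222))))))
 .vac))
 (.split (.split .vac
 (.split (.split (.split (.split (.split (.leaf 5274 89091296749)
 (.leaf 20 1381876493805))
 (.split (.leaf 331 89091296749)
 (.leaf 394 42393850222)))
 (.split (.split (.leaf 393 678301602926)
 (.leaf 388 89091296749))
 (.split (.leaf 394 678301602926)
 (.leaf 107 1425460747998))))
 (.split (.split (.split (.leaf 2221 678301603053)
 (.leaf 24 678301602926))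
 (.split (.leaf 328 1381876493805)
 (.leaf 27 42393850222)))
 (.split (.split (.leaf 24 42393850222)
 (.leaf 330 1381876493805))
 (.split (.leaf 27 678301602926)
 (.leaf 404 1381876493805)))))
 (.split (.split (.split (.split (.leaf 353 1425460747998)
 (.leaf 20 89091296749))
 (.split (.leaf 331 1381876493805)
 (.leaf 6 1425460747998)))
 (.split (.split (.leaf 26 678301602926)
 (.leaf 388 1381876493805))
 (.split (.leaf 25 678301602926)
 (.leaf 2782 417259081))))
 (.split (.split (.split (.leaf 2782 2000999997006)
 (.leaf 365 665163261165))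
 (.split (.leaf 328 89091296749)
 (.leaf 1 678301602926)))
 (.split (.split (.leaf 329 1381876493805)
 (.leaf 106 1425460747998))
 (.split (.leaf 1 42393850222)
 (.leaf 365 712401)))))))
 (.split .vac
 (.split (.split (.split (.split (.split (.leaf 141 678301603053)
 (.leaf 104 1412575846110))
 (.split (.leaf 5656 1412575846110)
 (.leaf 107 9166558)))
 (.split (.split (.leaf 326 572909)
 (.leaf 104 9166558))
 (.split (.leaf 189 678301603053)
 (.leaf 104 1212800734))))
 (.split (.split (.split (.leaf 1673 9166558)
 (.leaf 1674 1212800734))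
 (.split (.leaf 1673 1212800734)
 (.leaf 1674 9166558)))
 (.split (.split (.leaf 326 88285990381)
 (.leaf 1707 9166558))
 (.split (.leaf 1556 88285990381)
 (.leaf 1674 1412575846110)))))
 (.split (.split (.split (.split (.leaf 1565 41572754461)
 (.leaf 353 1412575846110))
 (.split (.leaf 6 1412575846110)
 (.leaf 2782 97372790494)))
 (.split (.split (.leaf 6 1212800734)
 (.leaf 353 9166558))
 (.split (.leaf 6 9166558)
 (.leaf 353 1212800734))))
 (.split (.split (.split (.leaf 106 9166558)
 (.leaf 105 1212800734))
 (.split (.leaf 106 1212800734)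
 (.leaf 105 9166558)))
 (.split (.split (.leaf 106 1412575846110)
 (.leaf 24904 75800045))
 (.split (.leaf 1556 1381339622893)
 (.leaf 105 1412575846110)))))))))
 (.split (.split (.split (.split (.split (.split (.split (.split (.leaf 119113 665164071405)
 (.leaf 6353 310476988113))
 (.split (.leaf 1233 544478)
 (.leaf 19409 296158)))
 (.split (.split (.leaf 7121 310476988113)
 (.leaf 296158 36958035678))
 (.split (.leaf 18897 5400436446)
 (.leaf 7121 2346639057))))
 (.split (.split (.split (.leaf 3565 501542164)
 (.leaf 5805 646865))
 (.split (.leaf 5789 10350061)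
 (.leaf 5789 646865)))
 (.split (.split (.leaf 27601 7275371425046)
 (.leaf 5821 41572754461))
 (.split (.leaf 92333 712401)
 (.leaf 25021 41572754461)))))
 (.split (.split (.split (.split (.leaf 5805 1213066733)
 (.leaf 5261 665164071278))
 (.split (.leaf 2782 2054316707405)
 (.leaf 2526 2054316707405)))
 (.split (.split (.leaf 5293 665164071278)
 (.leaf 82285 1421166374171))
 (.split (.leaf 6477 665164071278)
 (.leaf 398365 1382511730385))))
 (.split (.split (.split (.leaf 2526 36958035678)
 (.leaf 2526 148823774))
 (.split (.leaf 13 678301603053)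
 (.leaf 2237 42393850349)))
 (.split (.split (.leaf 2237 678301603053)
 (.leaf 13 42393850349))
 (.split (.leaf 2270 665164073182)
 (.leaf 1745 2782))))))
 .vac)
 (.split (.split (.split (.split (.split (.split (.leaf 365 10350061)
 (.leaf 1 3565))
 (.split (.leaf 24 2598297166)
 (.leaf 1 10149598)))
 (.split (.split (.leaf 395 10149598)
 (.leaf 24 634349))
 (.split (.leaf 395 3565)
 (.leaf 394 41572754660))))
 (.split (.split (.split (.leaf 3565 1691108634093)
 (.leaf 27 162393572))
 (.split (.leaf 3565 1410056711661)
 (.leaf 24 41572754660)))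
 (.split (.split (.leaf 27 41572754660)
 (.leaf 25 10149598))
 (.split (.leaf 24 162393572)
 (.leaf 25 3565)))))
 (.split (.split (.split (.split (.leaf 27 10149598)
 (.leaf 1 634349))
 (.split (.leaf 27 3565)
 (.leaf 26 41572754660)))
 (.split (.split (.leaf 25 162393572)
 (.leaf 24 3565))
 (.split (.leaf 1 2598297166)
 (.leaf 24 10149598))))
 (.split (.split (.split (.leaf 25 2598297166)
 (.leaf 365 2230185453))
 (.split (.leaf 1 162393572)
 (.leaf 393 3565)))
 (.split (.split (.leaf 411 3565)
 (.leaf 26 634349))
 (.split (.leaf 411 10149598)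
 (.leaf 1 41572754660))))))
 .vac))
 (.split (.split .vac
 (.split (.split (.split (.split (.split (.leaf 6 634349)
 (.leaf 105 41572754660))
 (.split (.leaf 106 41572754660)
 (.leaf 107 3565)))
 (.split (.split (.leaf 105 162393572)
 (.leaf 104 3565))
 (.split (.leaf 1675 634349)
 (.leaf 6 2598297166))))
 (.split (.split (.split (.leaf 105 2598297166)
 (.leaf 1674 3565))
 (.split (.leaf 173 712401)
 (.leaf 6 162393572)))
 (.split (.split (.leaf 13 41572754461)
 (.leaf 157 665163261165))
 (.split (.leaf 6 41572754660)
 (.leaf 105 634349)))))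
 (.split (.split (.split (.split (.leaf 6 3565)
 (.leaf 353 10149598))
 (.split (.leaf 6 10149598)
 (.leaf 107 634349)))
 (.split (.split (.leaf 107 2598297166)
 (.leaf 104 634349))
 (.split (.leaf 1675 3565)
 (.leaf 1674 41572754660))))
 (.split (.split (.split (.leaf 107 162393572)
 (.leaf 1674 634349))
 (.split (.leaf 1673 634349)
 (.leaf 104 41572754660)))
 (.split (.split (.leaf 106 3565)
 (.leaf 105 10149598))
 (.split (.leaf 104 162393572)
 (.leaf 105 3565)))))))
 (.split .vac
 (.split (.split (.split (.split (.split (.leaf 13 712401)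
 (.leaf 1758 1421077466689))
 (.split (.leaf 189 646865)
 (.leaf 189 10350061)))
 (.split (.split (.leaf 141 646865)
 (.leaf 141 10350061))
 (.split (.leaf 13 665163261165)
 (.leaf 157 41572754461))))
 (.split (.split (.split (.leaf 27089 2346639057)
 (.leaf 27345 2346639057))
 (.split (.leaf 27345 310476988113)
 (.leaf 27089 310476988113)))
 (.split (.split (.leaf 44308 665164071405)
 (.leaf 40212 665164071405))
 (.split (.leaf 19940 5531124045)
 (.leaf 85270 5607878366)))))
 (.split (.split (.split (.split (.leaf 2782 1402388537054)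
 (.leaf 1181 41572703809))
 (.split (.leaf 2526 1548803301086)
 (.leaf 2782 1548803301086)))
 (.split (.split (.leaf 2526 6087958238)
 (.leaf 2782 6087958238))
 (.split (.leaf 2782 6071181022)
 (.leaf 1213 1775365406))))
 (.split (.split (.split (.leaf 2782 89628208612)
 (.leaf 2526 89628208612))
 (.split (.leaf 189 2230185453)
 (.leaf 189 1213066733)))
 (.split (.split (.leaf 141 2230185453)
 (.leaf 141 1213066733))
 (.split (.leaf 105197 665164071278)
 (.leaf 6381 665164071278))))))))))

theorem okR4_4 : chk [12, 13, 12, 13, 12, 13, 12, 13] 3 [0] tR4_4 = true := by decide +kernel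

/-- A tree. -/
def tR4_5 : Tr :=
 (.split (.split (.split (.split .vac
 (.split (.split (.split (.split (.split (.leaf 1161 42393850182)
 (.leaf 2237 6069022189))
 (.split (.leaf 13 1421180005869)
 (.leaf 73 2649615638)))
 (.split (.split (.leaf 75 42393850182)
 (.leaf 2237 1421180005869))
 (.split (.leaf 13 6069022189)
 (.leaf 1053 59675370633))))
 (.split (.split (.split (.leaf 2237 6050147821)
 (.leaf 1161 2649615638))
 (.split (.leaf 13 4486870199789)
 (.leaf 2477 4486870199789)))
 (.split (.split (.leaf 26945 1381876493805)
 (.leaf 75 2649615638))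
 (.split (.leaf 209 600738713165)
 (.leaf 13 6050147821)))))
 (.split (.split (.split (.split (.leaf 148 2649615638)
 (.leaf 16747 89091296749))
 (.split (.leaf 1046 1381876493805)
 (.leaf 74 2649615638)))
 (.split (.split (.leaf 72 2649615638)
 (.leaf 5140 1212800734))
 (.split (.leaf 2477 6085799405)
 (.leaf 4 42393850182))))
 (.split (.split (.split (.leaf 5342 344867149)
 (.leaf 148 42393850182))
 (.split (.leaf 74 42393850182)
 (.leaf 82249 9166558)))
 (.split (.split (.leaf 5357 454700428772)
 (.leaf 72 42393850182))
 (.split (.leaf 4 2649615638)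
 (.leaf 2477 6051196397)))))))
 (.split .vac
 (.split (.split (.split (.split (.split (.leaf 65 75800045)
 (.leaf 173 6050147821))
 (.split (.leaf 5230 9166558)
 (.leaf 1048 1381339622893)))
 (.split (.split (.leaf 173 4486870199789)
 (.leaf 157 4486870199789))
 (.split (.leaf 5230 1412575846110)
 (.leaf 2369 1381339622893))))
 (.split (.split (.split (.leaf 65 1381339622893)
 (.leaf 157 6069022189))
 (.split (.leaf 18641 26187062856)
 (.leaf 1048 75800045)))
 (.split (.split (.leaf 173 1421180005869)
 (.leaf 157 1421180005869))
 (.split (.leaf 16778 1381339622893)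
 (.leaf 2369 75800045)))))
 (.split (.split (.split (.split (.leaf 65 572909)
 (.leaf 157 6051196397))
 (.split (.leaf 5140 1425460747998)
 (.leaf 1048 88285990381)))
 (.split (.split (.leaf 1049 1381339622893)
 (.leaf 1050 88285990381))
 (.split (.leaf 16778 572909)
 (.leaf 2369 88285990381))))
 (.split (.split (.split (.leaf 65 88285990381)
 (.leaf 173 6085799405))
 (.split (.leaf 35137 75800045)
 (.leaf 1048 572909)))
 (.split (.split (.leaf 1049 75800045)
 (.leaf 1050 572909))
 (.split (.leaf 16778 88285990381)
 (.leaf 2369 572909))))))))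
 (.split (.split (.split (.split (.split (.split (.split (.leaf 5309 6703887279341)
 (.leaf 5821 6050147821))
 (.split (.leaf 24973 4486870199789)
 (.leaf 25021 6050147821)))
 (.split (.split (.leaf 5142 1381339622893)
 (.leaf 1053 6716772181229))
 (.split (.leaf 25021 4486870199789)
 (.leaf 24897 88285990381))))
 (.split (.split (.split (.leaf 5773 1421180005869)
 (.leaf 5150 9166558))
 (.split (.leaf 5140 678301602926)
 (.leaf 5150 1212800734)))
 (.split (.split (.leaf 5142 75800045)
 (.leaf 5150 1412575846110))
 (.split (.leaf 1233 124938740763)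
 (.leaf 5140 42393850222)))))
 (.split (.split (.split (.split (.leaf 5821 6051196397)
 (.leaf 36126 5076348167195))
 (.split (.leaf 2769 600739565128)
 (.leaf 2513 600739565128)))
 (.split (.split (.leaf 5142 88285990381)
 (.leaf 267438 2649615638))
 (.split (.leaf 24973 6051196397)
 (.leaf 24897 1381339622893))))
 (.split (.split (.split (.leaf 1197 6703888091345)
 (.leaf 2381 6703888091345))
 (.split (.leaf 82251 42393850222)
 (.leaf 25021 6085799405)))
 (.split (.split (.leaf 5142 572909)
 (.leaf 5773 6085799405))
 (.split (.leaf 33949 6703888091345)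
 (.leaf 1165 6703888091345))))))
 .vac)
 (.split (.split (.split (.split (.split (.split (.leaf 5226 42393850182)
 (.leaf 6465 89091296749))
 (.split (.leaf 5145 1381876493805)
 (.leaf 1316525 59675370633)))
 (.split (.split (.leaf 326 2649615638)
 (.leaf 5144 89091296749))
 (.split (.leaf 1556 2649615638)
 (.leaf 92494 42393850222))))
 (.split (.split (.split (.leaf 53576 6054403793)
 (.leaf 5226 2649615638))
 (.split (.leaf 18641 124938740763)
 (.leaf 5780 2649615638)))
 (.split (.split (.leaf 5147 1381876493805)
 (.leaf 326 42393850182))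
 (.split (.leaf 92317 4486870199789)
 (.leaf 321 89091296749)))))
 (.split (.split (.split (.split (.leaf 27926 600739565128)
 (.leaf 209 600739565128))
 (.split (.leaf 5145 89091296749)
 (.leaf 24905 42393850182)))
 (.split (.split (.leaf 28141 50973470286)
 (.leaf 5144 1381876493805))
 (.split (.leaf 77 6703888091345)
 (.leaf 5227 2649615638))))
 (.split (.split (.split (.leaf 5225 2649615638)
 (.leaf 315885 38088568398))
 (.split (.leaf 5230 42393850222)
 (.leaf 6209 89091296749)))
 (.split (.split (.leaf 5147 89091296749)
 (.leaf 1757668 5063201070814))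
 (.split (.leaf 5227 42393850182)
 (.leaf 321 1381876493805))))))
 .vac)))
 (.split (.split (.split .vac
 (.split (.split (.split (.split (.split (.leaf 365 6051196397)
 (.leaf 3565 1709093194206))
 (.split (.leaf 1565 6051196397)
 (.leaf 24910 2598297166)))
 (.split (.split (.leaf 24910 634349)
 (.leaf 1053 471992231054))
 (.split (.leaf 83598 2598297166)
 (.leaf 83646 634349))))
 (.split (.split (.split (.leaf 39889 600738713165)
 (.leaf 365 6085799405))
 (.split (.leaf 24910 41572754660)
 (.leaf 1565 6085799405)))
 (.split (.split (.leaf 5854 665164073182)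
 (.leaf 1181 6703888091345))
 (.split (.leaf 35281 600738713165)
 (.leaf 18897 26187062856)))))
 (.split (.split (.split (.split (.leaf 36333 956993945165)
 (.leaf 365 6050147821))
 (.split (.leaf 5230 634349)
 (.leaf 1565 6050147821)))
 (.split (.split (.leaf 333 6703887279341)
 (.leaf 5230 2598297166))
 (.split (.leaf 1565 4486870199789)
 (.leaf 7446 600739565128))))
 (.split (.split (.split (.leaf 365 6069022189)
 (.leaf 5230 162393572))
 (.split (.leaf 1565 6069022189)
 (.leaf 83485 59675370633)))
 (.split (.split (.leaf 365 1421180005869)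
 (.leaf 84190 1435619943582))
 (.split (.leaf 1565 1421180005869)
 (.leaf 83614 634349)))))))
 (.split .vac
 (.split (.split (.split (.split (.split (.leaf 18861 6703888091345)
 (.leaf 1213 6703888091345))
 (.split (.leaf 16705 41572754660)
 (.leaf 268609 10149598)))
 (.split (.split (.leaf 5789 6085799405)
 (.leaf 48621 1404150487197))
 (.split (.leaf 2125 6703888091345)
 (.leaf 16705 162393572))))
 (.split (.split (.split (.leaf 16813 471992231054)
 (.leaf 267289 162393572))
 (.split (.leaf 3025 600738713165)
 (.leaf 3565 678301013021)))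
 (.split (.split (.leaf 2257 600738713165)
 (.leaf 5789 6051196397))
 (.split (.leaf 82324 10149598)
 (.leaf 5140 41572754660)))))
 (.split (.split (.split (.split (.leaf 35550 1777648721617)
 (.leaf 3565 282902581732))
 (.split (.leaf 82248 2598297166)
 (.leaf 5140 10149598)))
 (.split (.split (.leaf 267291 162393572)
 (.leaf 5789 6069022189))
 (.split (.leaf 92625 600739565128)
 (.leaf 5805 6069022189))))
 (.split (.split (.split (.leaf 3565 7551657591117)
 (.leaf 5789 4486870199789))
 (.split (.leaf 5293 6703887279341)
 (.leaf 5805 4486870199789)))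
 (.split (.split (.leaf 3565 501542174)
 (.leaf 16797 6716772181229))
 (.split (.leaf 5261 6703887279341)
 (.leaf 82249 3565))))))))
 (.split (.split (.split (.split (.split (.split (.split (.leaf 83629 6703888091345)
 (.leaf 82413 600738713153))
 (.split (.leaf 39613 6085799405)
 (.leaf 189 6085799405)))
 (.split (.split (.leaf 141 6085799405)
 (.leaf 35245 6085799405))
 (.split (.leaf 16710 41572754660)
 (.leaf 93768 162393572))))
 (.split (.split (.split (.leaf 16710 634349)
 (.leaf 3565 98467500516))
 (.split (.leaf 189 6051196397)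
 (.leaf 3565 1915238631661)))
 (.split (.split (.leaf 35245 6051196397)
 (.leaf 141 6051196397))
 (.split (.leaf 82285 471992231054)
 (.leaf 16710 2598297166)))))
 (.split (.split (.split (.split (.leaf 5342 28137414353)
 (.leaf 141 1421180005869))
 (.split (.leaf 189 6069022189)
 (.leaf 2257 600739565128)))
 (.split (.split (.leaf 35245 6069022189)
 (.leaf 141 6069022189))
 (.split (.leaf 189 1421180005869)
 (.leaf 5860 41572754660))))
 (.split (.split (.split (.leaf 3565 434032966)
 (.leaf 141 4486870199789))
 (.split (.leaf 3565 4504864835741)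
 (.leaf 189 6050147821)))
 (.split (.split (.leaf 141 6050147821)
 (.leaf 35245 6050147821))
 (.split (.leaf 189 4486870199789)
 (.leaf 6381 6703887279341))))))
 .vac)
 (.split (.split (.split (.split (.split (.split (.leaf 2221 6051196397)
 (.leaf 2205 6051196397))
 (.split (.leaf 6366 1421077466689)
 (.leaf 19742 6703888126286)))
 (.split (.split (.leaf 48612 570927476196)
 (.leaf 48612 59675370637))
 (.split (.leaf 2493 6051196397)
 (.leaf 2749 6051196397))))
 (.split (.split (.split (.leaf 2205 6085799405)
 (.leaf 2221 6085799405))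
 (.split (.leaf 16717 454700428772)
 (.leaf 5150 10149598)))
 (.split (.split (.leaf 19409 124938740763)
 (.leaf 7446 600738713165))
 (.split (.leaf 2749 6085799405)
 (.leaf 2493 6085799405)))))
 (.split (.split (.split (.split (.leaf 2205 6050147821)
 (.leaf 2221 6050147821))
 (.split (.leaf 2493 4486870199789)
 (.leaf 2749 4486870199789)))
 (.split (.split (.leaf 2221 4486870199789)
 (.leaf 2205 4486870199789))
 (.split (.leaf 2749 6050147821)
 (.leaf 2493 6050147821))))
 (.split (.split (.split (.leaf 2221 6069022189)
 (.leaf 2205 6069022189))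
 (.split (.leaf 2493 1421180005869)
 (.leaf 2749 1421180005869)))
 (.split (.split (.leaf 2221 1421180005869)
 (.leaf 2205 1421180005869))
 (.split (.leaf 2493 6069022189)
 (.leaf 2749 6069022189))))))
 .vac))))

theorem okR4_5 : chk [12, 13, 12, 13, 12, 13, 12, 13] 3 [0, 2] tR4_5 = true := by decide +kernel

end CfsgLib.ReeF4.Sq2
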