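import Cfsg.Agent.ReeF4Square.TitsTree

/-!
# The Tits group: sorting trees, the cell of the longest element, part 4
-/

set_option autoImplicit false
set_option maxRecDepth 20000
set_option maxHeartbeats 4000000

namespace CfsgLib.ReeF4.Sq2

/-- A tree. -/
def tR4_6 : Tr :=
 (.split (.split (.split (.split .vac
 (.split (.split (.split (.split (.split (.leaf 1165 6716772181229)
 (.leaf 33949 6716772181229))
 (.split (.leaf 1050 6703888089485)
 (.leaf 104 1415968644830)))
 (.split (.split (.leaf 1197 6716772181229)
 (.leaf 2381 6716772181229))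
 (.split (.leaf 36333 7498545119710)
 (.leaf 104 23846622))))
 (.split (.split (.split (.leaf 27102 1382414209355)
 (.leaf 1674 1415968644830))
 (.split (.leaf 1673 1415968644830)
 (.leaf 65 6703888089485)))
 (.split (.split (.leaf 37912 6703888089485)
 (.leaf 1674 23846622))
 (.split (.leaf 1673 23846622)
 (.leaf 38110 5394521672)))))
 (.split (.split (.split (.split (.leaf 106 1415968644830)
 (.leaf 302356 2598297297))
 (.split (.leaf 1051 6703888089485)
 (.leaf 105 1415968644830)))
 (.split (.split (.leaf 106 23846622)
 (.leaf 16777 6703888089485))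
 (.split (.leaf 2782 86277484004)
 (.leaf 105 23846622))))
 (.split (.split (.split (.leaf 6301 600738713153)
 (.leaf 353 1415968644830))
 (.split (.leaf 6 1415968644830)
 (.leaf 5217 96870458596)))
 (.split (.split (.leaf 7902 3511181796)
 (.leaf 353 23846622))
 (.split (.leaf 6 23846622)
 (.leaf 6589 600738713153)))))))
 (.split .vac
 (.split (.split (.split (.split (.split (.leaf 5659 23650014)
 (.leaf 104 89733914334))
 (.split (.leaf 5656 89733914334)
 (.leaf 107 23650014)))
 (.split (.split (.leaf 5656 23650014)
 (.leaf 107 89733914334))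
 (.split (.leaf 5659 89733914334)
 (.leaf 104 23650014))))
 (.split (.split (.split (.leaf 1673 89733914334)
 (.leaf 1707 23650014))
 (.split (.leaf 1046 97675764964)
 (.leaf 77 6716772181229)))
 (.split (.split (.leaf 1691 89733914334)
 (.leaf 1674 23650014))
 (.split (.leaf 1673 23650014)
 (.leaf 1707 89733914334)))))
 (.split (.split (.split (.split (.leaf 105 89733914334)
 (.leaf 366 97675764964))
 (.split (.leaf 2526 2649613332)
 (.leaf 106 89733914334)))
 (.split (.split (.leaf 26779 89733914334)
 (.leaf 106 23650014))
 (.split (.leaf 105 23650014)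
 (.leaf 397 600738713153))))
 (.split (.split (.split (.leaf 2125 471992231054)
 (.leaf 6 89733914334))
 (.split (.leaf 353 89733914334)
 (.leaf 1675 23650014)))
 (.split (.split (.leaf 353 23650014)
 (.leaf 365 454700428772))
 (.split (.leaf 2526 1380544601822)
 (.leaf 6 23650014))))))))
 (.split (.split (.split (.split (.split (.split (.split (.leaf 395 23846622)
 (.leaf 1 1415968644830))
 (.split (.leaf 84041 23846622)
 (.leaf 410 1415968644830)))
 (.split (.split (.leaf 395 1415968644830)
 (.leaf 1 23846622))
 (.split (.leaf 65 96870458596)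
 (.leaf 410 23846622))))
 (.split (.split (.split (.leaf 6299 23846622)
 (.leaf 25 1415968644830))
 (.split (.leaf 5142 6703888089485)
 (.leaf 26 1415968644830)))
 (.split (.split (.leaf 2369 96870458596)
 (.leaf 25 23846622))
 (.split (.leaf 1050 96870458596)
 (.leaf 26 23846622)))))
 (.split (.split (.split (.split (.leaf 411 23846622)
 (.leaf 393 1415968644830))
 (.split (.leaf 427 23846622)
 (.leaf 109 600738713153)))
 (.split (.split (.leaf 411 1415968644830)
 (.leaf 393 23846622))
 (.split (.leaf 427 1415968644830)
 (.leaf 394 23846622))))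
 (.split (.split (.split (.leaf 27 23846622)
 (.leaf 24 1415968644830))
 (.split (.leaf 2526 4486258941662)
 (.leaf 141 454700428772)))
 (.split (.split (.leaf 27 1415968644830)
 (.leaf 24 23846622))
 (.split (.leaf 1051 96870458596)
 (.leaf 189 454700428772))))))
 .vac)
 (.split (.split (.split (.split (.split (.split (.leaf 6465 97675764964)
 (.leaf 1 89733914334))
 (.split (.leaf 395 23650014)
 (.leaf 410 89733914334)))
 (.split (.split (.leaf 395 89733914334)
 (.leaf 410 23650014))
 (.split (.leaf 18641 41572703821)
 (.leaf 1 23650014))))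
 (.split (.split (.split (.leaf 5252 23650014)
 (.leaf 25 89733914334))
 (.split (.leaf 321 97675764964)
 (.leaf 26 89733914334)))
 (.split (.split (.leaf 6299 89733914334)
 (.leaf 26 23650014))
 (.split (.leaf 5252 89733914334)
 (.leaf 25 23650014)))))
 (.split (.split (.split (.split (.leaf 393 89733914334)
 (.leaf 427 23650014))
 (.split (.leaf 394 89733914334)
 (.leaf 411 23650014)))
 (.split (.split (.leaf 394 23650014)
 (.leaf 411 89733914334))
 (.split (.leaf 393 23650014)
 (.leaf 427 89733914334))))
 (.split (.split (.split (.leaf 24 89733914334)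
 (.leaf 2526 7816404558))
 (.split (.leaf 2526 1519963266782)
 (.leaf 27 23650014)))
 (.split (.split (.leaf 1709 600738713153)
 (.leaf 27 89733914334))
 (.split (.leaf 24 23650014)
 (.leaf 2782 280395439838))))))
 .vac)))
 (.split (.split (.split .vac
 (.split (.split (.split (.split (.split (.leaf 16717 6051196397)
 (.leaf 104 88286879454))
 (.split (.leaf 5656 88286879454)
 (.leaf 1725 600738713153)))
 (.split (.split (.leaf 1354705 665164071405)
 (.leaf 104 102489822))
 (.split (.leaf 5656 102489822)
 (.leaf 1677 600738713153))))
 (.split (.split (.split (.leaf 2237 454700428772)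
 (.leaf 1674 88286879454))
 (.split (.leaf 1673 88286879454)
 (.leaf 1475812 26187062862)))
 (.split (.split (.leaf 13 454700428772)
 (.leaf 1674 102489822))
 (.split (.leaf 1673 102489822)
 (.leaf 83645 471992231054)))))
 (.split (.split (.split (.split (.leaf 2782 1547294336228)
 (.leaf 106 102489822))
 (.split (.leaf 105 102489822)
 (.leaf 35149 59675370633)))
 (.split (.split (.leaf 2782 1379873513182)
 (.leaf 106 88286879454))
 (.split (.leaf 105 88286879454)
 (.leaf 1181 59675370633))))
 (.split (.split (.split (.leaf 5229 6716772181229)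
 (.leaf 6 102489822))
 (.split (.leaf 353 102489822)
 (.leaf 1346029 6050147821)))
 (.split (.split (.leaf 16717 1421180005869)
 (.leaf 6 88286879454))
 (.split (.leaf 353 88286879454)
 (.leaf 18654 1380461700324)))))))
 (.split .vac
 (.split (.split (.split (.split (.split (.leaf 173 454700428772)
 (.leaf 107 102293214))
 (.split (.leaf 1162 26237394510)
 (.leaf 104 1420532047582)))
 (.split (.split (.leaf 5659 1420532047582)
 (.leaf 104 102293214))
 (.split (.leaf 4 26237394510)
 (.leaf 107 1420532047582))))
 (.split (.split (.split (.leaf 1673 1420532047582)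
 (.leaf 72 26237394510))
 (.split (.leaf 1691 102293214)
 (.leaf 1674 1420532047582)))
 (.split (.split (.leaf 1691 1420532047582)
 (.leaf 74 26237394510))
 (.split (.leaf 148 26237394510)
 (.leaf 1707 1420532047582)))))
 (.split (.split (.split (.split (.leaf 106 102293214)
 (.leaf 1195 26237394510))
 (.split (.leaf 73 26237394510)
 (.leaf 105 102293214)))
 (.split (.split (.leaf 2526 7551657591105)
 (.leaf 105 1420532047582))
 (.split (.leaf 106 1420532047582)
 (.leaf 5146 26187062862))))
 (.split (.split (.split (.leaf 6 102293214)
 (.leaf 1178 26237394510))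
 (.split (.leaf 75 26237394510)
 (.leaf 353 102293214)))
 (.split (.split (.leaf 1675 102293214)
 (.leaf 321 26187062862))
 (.split (.leaf 6 1420532047582)
 (.leaf 2125 59675370633))))))))
 (.split (.split (.split (.split (.split (.split (.split (.leaf 84041 102489822)
 (.leaf 410 88286879454))
 (.split (.leaf 395 102489822)
 (.leaf 1 88286879454)))
 (.split (.split (.leaf 19409 41572703821)
 (.leaf 410 102489822))
 (.split (.leaf 395 88286879454)
 (.leaf 1 102489822))))
 (.split (.split (.split (.leaf 6299 102489822)
 (.leaf 25 88286879454))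
 (.split (.leaf 5252 102489822)
 (.leaf 26 88286879454)))
 (.split (.split (.leaf 6299 88286879454)
 (.leaf 25 102489822))
 (.split (.leaf 5252 88286879454)
 (.leaf 26 102489822)))))
 (.split (.split (.split (.split (.leaf 393 102489822)
 (.leaf 411 88286879454))
 (.split (.leaf 394 102489822)
 (.leaf 427 88286879454)))
 (.split (.split (.leaf 393 88286879454)
 (.leaf 411 102489822))
 (.split (.leaf 394 88286879454)
 (.leaf 427 102489822))))
 (.split (.split (.split (.leaf 2782 280412217054)
 (.leaf 2526 280412217054))
 (.split (.leaf 24 102489822)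
 (.leaf 27 88286879454)))
 (.split (.split (.leaf 2782 56343060045)
 (.leaf 2526 56343060045))
 (.split (.leaf 24 88286879454)
 (.leaf 27 102489822))))))
 .vac)
 (.split (.split (.split (.split (.split (.split (.leaf 395 102293214)
 (.leaf 410 1420532047582))
 (.split (.leaf 33814 26187062862)
 (.leaf 1 1420532047582)))
 (.split (.split (.leaf 5764 26237394510)
 (.leaf 1 102293214))
 (.split (.leaf 395 1420532047582)
 (.leaf 29 600738713153))))
 (.split (.split (.split (.leaf 5225 26237394510)
 (.leaf 25 1420532047582))
 (.split (.leaf 5822 26187062862)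
 (.leaf 26 1420532047582)))
 (.split (.split (.leaf 6299 1420532047582)
 (.leaf 26 102293214))
 (.split (.leaf 5252 1420532047582)
 (.leaf 25 102293214)))))
 (.split (.split (.split (.split (.leaf 411 1420532047582)
 (.leaf 394 102293214))
 (.split (.leaf 427 1420532047582)
 (.leaf 393 102293214)))
 (.split (.split (.leaf 427 102293214)
 (.leaf 393 1420532047582))
 (.split (.leaf 411 102293214)
 (.leaf 394 1420532047582))))
 (.split (.split (.split (.leaf 1213 6716772181229)
 (.leaf 24 102293214))
 (.split (.leaf 27 1420532047582)
 (.leaf 2782 4486292496094)))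
 (.split (.split (.leaf 27 102293214)
 (.leaf 326 26237394510))
 (.split (.leaf 2526 4486544154334)
 (.leaf 24 1420532047582))))))
 .vac))))

theorem okR4_6 : chk [12, 13, 12, 13, 12, 13, 12, 13] 3 [0, 1] tR4_6 = true := by decide +kernel

/-- A tree. -/
def tR4_7 : Tr :=
 (.split (.split (.split (.split (.split (.split (.split (.split (.split (.leaf 75 96870458596)
 (.leaf 82324 23650014))
 (.split (.leaf 53574 26187062856)
 (.leaf 1178 96870458596)))
 (.split (.split (.leaf 326 6703888089485)
 (.leaf 132 96870458596))
 (.split (.leaf 1161 96870458596)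
 (.leaf 5841 1700023685604))))
 (.split (.split (.split (.leaf 5224 6703888089485)
 (.leaf 1195 96870458596))
 (.split (.leaf 73 96870458596)
 (.leaf 6353 6054403793)))
 (.split (.split (.leaf 1163 96870458596)
 (.leaf 5230 1415968644830))
 (.split (.leaf 5780 6703888089485)
 (.leaf 2196 96870458596)))))
 (.split (.split (.split (.split (.leaf 83598 1415968644830)
 (.leaf 74 96870458596))
 (.split (.leaf 148 96870458596)
 (.leaf 333 1670274477339)))
 (.split (.split (.leaf 72 96870458596)
 (.leaf 5140 23650014))
 (.split (.leaf 38097 6716772994769)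
 (.leaf 2121 96870458596))))
 (.split (.split (.split (.leaf 4 96870458596)
 (.leaf 5229 139386577))
 (.split (.leaf 268365 678301603053)
 (.leaf 2378 96870458596)))
 (.split (.split (.leaf 27601 26237394641)
 (.leaf 1162 96870458596))
 (.split (.leaf 2376 96870458596)
 (.leaf 24907 6703888089485))))))
 .vac)
 (.split (.split (.split (.split (.split (.split (.leaf 6474 97675764964)
 (.leaf 92238 89733914334))
 (.split (.leaf 20 97675764964)
 (.leaf 82324 23846622)))
 (.split (.split (.leaf 6353 6104735441)
 (.leaf 83630 89733914334))
 (.split (.leaf 5258 97675764964)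
 (.leaf 82324 1415968644830))))
 (.split (.split (.split (.leaf 404 97675764964)
 (.leaf 109521 2000999996993))
 (.split (.leaf 330 97675764964)
 (.leaf 5230 23650014)))
 (.split (.split (.leaf 6217 97675764964)
 (.leaf 3358 7236463224017))
 (.split (.leaf 328 97675764964)
 (.leaf 82251 1415968644830)))))
 (.split (.split (.split (.split (.leaf 24910 23650014)
 (.leaf 329 97675764964))
 (.split (.leaf 5140 1415968644830)
 (.leaf 5291 97675764964)))
 (.split (.split (.leaf 5229 1421166374171)
 (.leaf 6292 97675764964))
 (.split (.leaf 5140 23846622)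
 (.leaf 1233 6716772994769))))
 (.split (.split (.split (.leaf 82308 23846622)
 (.leaf 5274 97675764964))
 (.split (.leaf 82249 1415968644830)
 (.leaf 331 97675764964)))
 (.split (.split (.leaf 82308 1415968644830)
 (.leaf 5257 97675764964))
 (.split (.leaf 82249 23846622)
 (.leaf 388 97675764964))))))
 .vac))
 (.split (.split .vac
 (.split (.split (.split (.split (.split (.leaf 1745 6104735441)
 (.leaf 2196 6703888089485))
 (.split (.leaf 1163 6703888089485)
 (.leaf 35537 1700023685604)))
 (.split (.split (.leaf 73 6703888089485)
 (.leaf 53582 346811876))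
 (.split (.leaf 5780 96870458596)
 (.leaf 1195 6703888089485))))
 (.split (.split (.split (.leaf 99358 23846622)
 (.leaf 1161 6703888089485))
 (.split (.leaf 132 6703888089485)
 (.leaf 27345 2000999996993)))
 (.split (.split (.leaf 1178 6703888089485)
 (.leaf 326 96870458596))
 (.split (.leaf 646729 310545028324)
 (.leaf 75 6703888089485)))))
 (.split (.split (.split (.split (.leaf 2376 6703888089485)
 (.leaf 5764 96870458596))
 (.split (.leaf 16797 41572703809)
 (.leaf 1162 6703888089485)))
 (.split (.split (.leaf 16829 1775365406)
 (.leaf 465 26187062993))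
 (.split (.leaf 4 6703888089485)
 (.leaf 24907 96870458596))))
 (.split (.split (.split (.leaf 1165 75816657)
 (.leaf 6609 26237394641))
 (.split (.leaf 77 1382511730385)
 (.leaf 72 6703888089485)))
 (.split (.split (.leaf 2381 75816657)
 (.leaf 148 6703888089485))
 (.split (.leaf 74 6703888089485)
 (.leaf 18605 1382511730385)))))))
 (.split .vac
 (.split (.split (.split (.split (.split (.leaf 6302 97675764964)
 (.leaf 27345 6104735441))
 (.split (.leaf 2257 1700023685604)
 (.leaf 430 97675764964)))
 (.split (.split (.leaf 5150 23650014)
 (.leaf 6334 97675764964))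
 (.split (.leaf 3025 1700023685604)
 (.leaf 268621 10350061))))
 (.split (.split (.split (.leaf 398 97675764964)
 (.leaf 82334 89733914334))
 (.split (.leaf 1745 2000999996993)
 (.leaf 3350 2000999996993)))
 (.split (.split (.leaf 3350 6054403793)
 (.leaf 1668 97675764964))
 (.split (.leaf 6846 97675764964)
 (.leaf 82334 23650014)))))
 (.split (.split (.split (.split (.leaf 18605 75816657)
 (.leaf 30 97675764964))
 (.split (.leaf 1197 1382511730385)
 (.leaf 2381 1382511730385)))
 (.split (.split (.leaf 5357 1213066733)
 (.leaf 77 75816657))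
 (.split (.leaf 6865 26187062993)
 (.leaf 1165 1382511730385))))
 (.split (.split (.split (.leaf 16829 41572703809)
 (.leaf 414 97675764964))
 (.split (.leaf 1684 97675764964)
 (.leaf 82366 89733914334)))
 (.split (.split (.leaf 446 97675764964)
 (.leaf 16710 1415968644830))
 (.split (.leaf 493 1435618897179)
 (.leaf 3038 678301048529)))))))))
 (.split (.split (.split (.split (.split (.split (.split (.split (.leaf 493 1670274477339)
 (.leaf 90445 1670274477339))
 (.split (.leaf 6381 1435618897179)
 (.leaf 82324 102293214)))
 (.split (.split (.leaf 465 6104735441)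
 (.leaf 7444 124938740763))
 (.split (.leaf 16781 1775365406)
 (.leaf 26701 1435618897179))))
 (.split (.split (.split (.leaf 77 139386577)
 (.leaf 5230 102489822))
 (.split (.leaf 1165 1421166374171)
 (.leaf 6609 6054403793)))
 (.split (.split (.leaf 1181 1382511730385)
 (.leaf 5230 88286879454))
 (.split (.leaf 2381 1421166374171)
 (.leaf 1197 1421166374171)))))
 (.split (.split (.split (.split (.leaf 3348 6703888092881)
 (.leaf 34001 6716772994769))
 (.split (.leaf 19949 59661409864)
 (.leaf 5357 665163261165)))
 (.split (.split (.leaf 126230 6716772994769)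
 (.leaf 5357 712401))
 (.split (.leaf 1745 26187062993)
 (.leaf 3350 26187062993))))
 (.split (.split (.split (.leaf 27089 26237394641)
 (.leaf 16705 102293214))
 (.split (.leaf 82249 102293214)
 (.leaf 19422 128389606893)))
 (.split (.split (.leaf 82249 1420532047582)
 (.leaf 36333 6943940318))
 (.split (.leaf 267421 10350061)
 (.leaf 16705 1420532047582))))))
 .vac)
 (.split (.split (.split (.split (.split (.split (.leaf 1181 75816657)
 (.leaf 18605 1421166374171))
 (.split (.leaf 2381 139386577)
 (.leaf 1197 139386577)))
 (.split (.split (.leaf 77 1421166374171)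
 (.leaf 5142 26237394510))
 (.split (.leaf 1165 139386577)
 (.leaf 30 26187062862))))
 (.split (.split (.split (.leaf 6893 1435618897179)
 (.leaf 446 26187062862))
 (.split (.leaf 16862 5007615082830)
 (.leaf 465 6054403793)))
 (.split (.split (.leaf 414 26187062862)
 (.leaf 5230 1420532047582))
 (.split (.leaf 7149 1670274477339)
 (.leaf 1684 26187062862)))))
 (.split (.split (.split (.split (.leaf 82281 26237394510)
 (.leaf 6302 26187062862))
 (.split (.leaf 430 26187062862)
 (.leaf 5140 102489822)))
 (.split (.split (.leaf 6334 26187062862)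
 (.leaf 24910 102293214))
 (.split (.leaf 16717 10350061)
 (.leaf 5140 88286879454))))
 (.split (.split (.split (.leaf 1745 26237394641)
 (.leaf 3350 26237394641))
 (.split (.leaf 398 26187062862)
 (.leaf 82308 88286879454)))
 (.split (.split (.leaf 6846 26187062862)
 (.leaf 82249 88286879454))
 (.split (.leaf 16705 88286879454)
 (.leaf 1668 26187062862))))))
 .vac))
 (.split (.split .vac
 (.split (.split (.split (.split (.split (.leaf 209 1700023685604)
 (.leaf 27926 1700023685604))
 (.split (.leaf 5150 88286879454)
 (.leaf 3556 1549926523924)))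
 (.split (.split (.leaf 5261 1435618897179)
 (.leaf 84717 42393850349))
 (.split (.leaf 5150 102489822)
 (.leaf 84461 42393850349))))
 (.split (.split (.split (.leaf 48406 6054403793)
 (.leaf 27601 6054403793))
 (.split (.leaf 5149 665164071278)
 (.leaf 36118 2000999996993)))
 (.split (.split (.leaf 5229 1382511730385)
 (.leaf 26833 6054403793))
 (.split (.leaf 24909 1382511730385)
 (.leaf 48406 2000999996993)))))
 (.split (.split (.split (.split (.leaf 92638 678136700494)
 (.leaf 1317038 88286879454))
 (.split (.leaf 103454 102489822)
 (.leaf 105425 26187062993)))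
 (.split (.split (.leaf 5348 26237394510)
 (.leaf 99550 5072874262081))
 (.split (.leaf 92900 102293214)
 (.leaf 857222 600739565128))))
 (.split (.split (.split (.leaf 1315949 646865)
 (.leaf 6353 26237394641))
 (.split (.leaf 82318 88286879454)
 (.leaf 82366 102489822)))
 (.split (.split (.leaf 84708 26237394510)
 (.leaf 85278 5535294692))
 (.split (.leaf 82318 102489822)
 (.leaf 7121 26237394641)))))))
 (.split .vac
 (.split (.split (.split (.split (.split (.leaf 329 26187062862)
 (.leaf 1050 26237394510))
 (.split (.leaf 5229 75816657)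
 (.leaf 2369 26237394510)))
 (.split (.split (.leaf 5860 102489822)
 (.leaf 1048 26237394510))
 (.split (.leaf 5150 102293214)
 (.leaf 33817 26237394510))))
 (.split (.split (.split (.leaf 85268 600738713165)
 (.leaf 331 26187062862))
 (.split (.leaf 126436 280270597604)
 (.leaf 65 26237394510)))
 (.split (.split (.leaf 5357 42393850349)
 (.leaf 388 26187062862))
 (.split (.leaf 84446 19828842049)
 (.leaf 5257 26187062862)))))
 (.split (.split (.split (.split (.leaf 5258 26187062862)
 (.leaf 16777 26237394510))
 (.split (.leaf 6472 26187062862)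
 (.leaf 2113 26237394510)))
 (.split (.split (.leaf 20 26187062862)
 (.leaf 5662 26237394510))
 (.split (.leaf 6474 26187062862)
 (.leaf 1051 26237394510))))
 (.split (.split (.split (.leaf 92388 88286879454)
 (.leaf 6217 26187062862))
 (.split (.leaf 16710 88286879454)
 (.leaf 328 26187062862)))
 (.split (.split (.leaf 82366 1420532047582)
 (.leaf 404 26187062862))
 (.split (.leaf 16710 102489822)
 (.leaf 330 26187062862))))))))))

theorem okR4_7 : chk [12, 13, 12, 13, 12, 13, 12, 13] 3 [0, 1, 2] tR4_7 = true := by decide +kernel

end CfsgLib.ReeF4.Sq2
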