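import Cfsg.Agent.ReeF4Square.TitsSmall
import Cfsg.Agent.ReeF4Square.TitsR3
import Cfsg.Agent.ReeF4Square.TitsTop1
import Cfsg.Agent.ReeF4Square.TitsTop2
import Cfsg.Agent.ReeF4Square.TitsTop3
import Cfsg.Agent.ReeF4Square.TitsTop4

/-!
# The Tits group: every non-identity element is a product of two conjugates of an element of order five

A cell `U¹ n U¹` reduces to two shorter ones unless the monomial element is one of seven.
-/

set_option autoImplicit false
set_option maxHeartbeats 1000000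
set_option linter.style.haveILetI false

namespace CfsgLib.ReeF4.Sq2

open Cfsg.Lie CfsgLib.Chevalley
open CfsgLib.ReeF4.Mult (wG symG commutator_eq_ker parHom_symG wPar wG_mem)
open CfsgLib.Schur.Pc (ev)
open scoped MatrixGroups

local instance : Fact (Nat.card (ZMod 2) = 2) := ⟨Nat.card_zmod 2⟩

/-- A monomial element in the twisted group. -/
def nG (d : DihedralGroup 8) : G2 := ⟨nD (ZMod 2) d, (t₂ (ZMod 2)).nD_mem d⟩

theorem nG_mul (d e : DihedralGroup 8) : nG d * nG e = nG (d * e) := Subtype.ext (nD₂_mul d e)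

theorem nG_one : nG 1 = 1 := Subtype.ext nD₂_one

theorem symG_mono (j : Bool) : symG (bif j then 13 else 12) = nG (dJ j) := by
  refine Subtype.ext ?_
  show Mult.symGL _ = nD (ZMod 2) (dJ j)
  rw [← nJ₂_eq]
  cases j <;> rfl

/-- Every element `u n` is good. -/
def Cov (d : DihedralGroup 8) : Prop := ∀ u ∈ H 0, Good (u * nG d)

theorem H0_iff (g : G2) : g ∈ H 0 ↔ (g : GL D.Idx (ZMod 2)) ∈ (t₂ (ZMod 2)).U1 := by
  constructor
  · intro h
    refine (Subgroup.closure_le ((t₂ (ZMod 2)).U1.subgroupOf (t₂ (ZMod 2)).G1)).2 ?_ h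
    rintro _ ⟨j, ⟨-, hj⟩, rfl⟩
    rw [SetLike.mem_coe, Subgroup.mem_subgroupOf]
    show Mult.symGL j ∈ _
    unfold Mult.symGL
    rw [dif_pos hj, (t₂ (ZMod 2)).U1_eq]
    exact Subgroup.mem_inf.2 ⟨uS_anti (Nat.zero_le _)
      ((t₂ (ZMod 2)).lift_mem_uS allS_ok ⟨j, hj⟩ 1 (slot_facts _).1), (t₂ (ZMod 2)).lift_fix _ _⟩
  · intro h
    rw [show (t₂ (ZMod 2)).U1 = Two.tw.U1 from rfl, Two.tw.U1_eq] at h
    obtain ⟨w, -, e⟩ := Two.exists_word 12 0 rfl _ h
    have hg : g = wG (w.map (Fin.val : Fin 12 → ℕ)) := by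
      refine Subtype.ext ?_
      rw [← e]
      clear e h
      induction w with
      | nil => rfl
      | cons i w ih =>
        rw [List.map_cons, List.map_cons, List.prod_cons, ih, wG_cons, Subgroup.coe_mul]
        refine congrArg (· * _) ?_
        show _ = Mult.symGL i
        unfold Mult.symGL
        rw [dif_pos i.2]
    rw [hg]
    exact wG_mem_H _ fun j hj => by
      obtain ⟨i, -, rfl⟩ := List.mem_map.1 hj
      exact ⟨Nat.zero_le _, i.2⟩

theorem Cov.base {dw : List ℕ} {d : DihedralGroup 8} (e : wG dw = nG d) (h : Cl dw 0 []) : Cov d :=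
  fun u hu => by simpa [wG_nil, e] using h u hu

theorem good_cell {d : DihedralGroup 8} (h : Cov d) {g : G2}
    (hg : (t₂ (ZMod 2)).inCell (nD (ZMod 2) d) (g : GL D.Idx (ZMod 2))) : Good g := by
  obtain ⟨u, hu, k, hk, v, hv, e⟩ := hg
  rw [H1₂_eq_bot, Subgroup.mem_bot] at hk
  rw [hk, mul_one] at e
  let u' : G2 := ⟨u, (t₂ (ZMod 2)).U1_le_G1 hu⟩
  let v' : G2 := ⟨v, (t₂ (ZMod 2)).U1_le_G1 hv⟩
  have eg : g = u' * nG d * v' := Subtype.ext e.symm
  have key := (h (v' * u') (mul_mem ((H0_iff v').2 hv) ((H0_iff u').2 hu))).conj v'⁻¹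
  rw [eg]
  convert key using 1
  group

theorem Cov.step {d d' : DihedralGroup 8} (j : Bool) (e : DihedralGroup 8) (hd : e * dJ j = d)
    (he : Cov e) (hd' : dJ j * e = d') (h' : Cov d') : Cov d := by
  intro u hu
  have hn : nG (dJ j) * nG (dJ j) = 1 := by rw [nG_mul, dJ_sq, nG_one]
  have key : Good (nG (dJ j) * u * nG e) := by
    have hv : ((nG (dJ j) * u * nG e : G2) : GL D.Idx (ZMod 2)) =
        nJ (ZMod 2) j * (u : GL D.Idx (ZMod 2)) * nD (ZMod 2) e := by
      rw [nJ₂_eq]; rfl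
    rcases (t₂ (ZMod 2)).nJ_mul_U1_mul j ((H0_iff u).1 hu) e with h | h
    · rw [← hv, nJ₂_eq, nD₂_mul, hd'] at h
      exact good_cell h' h
    · rw [← hv] at h
      exact good_cell he h
  have h := key.conj (nG (dJ j))⁻¹
  rw [show (nG (dJ j))⁻¹ * (nG (dJ j) * u * nG e) * (nG (dJ j))⁻¹⁻¹ = u * (nG e * nG (dJ j)) by group,
    nG_mul, hd] at h
  exact h

theorem wG_rot : ∀ k : ℕ, wG ((List.replicate k [12, 13]).flatten) = nG (.r 1 ^ k)
  | 0 => by rw [pow_zero, nG_one]; rfl
  | k + 1 => by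
    rw [List.replicate_succ, List.flatten_cons, wG_app, wG_rot k, pow_succ', wG_cons, wG_single]
    have e0 := symG_mono false
    have e1 := symG_mono true
    simp only [cond_false, cond_true] at e0 e1
    rw [e0, e1, nG_mul, nG_mul]
    exact congrArg (fun d => nG (d * _)) (by decide)

theorem top_state : Cl [12, 13, 12, 13, 12, 13, 12, 13] 0 [] :=
  Cl.split (by norm_num)
    (Cl.split (by norm_num)
      (Cl.split (by norm_num) (chk_sound _ _ _ _ okR4_0) (chk_sound _ _ _ _ okR4_1))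
      (Cl.split (by norm_num) (chk_sound _ _ _ _ okR4_2) (chk_sound _ _ _ _ okR4_3)))
    (Cl.split (by norm_num)
      (Cl.split (by norm_num) (chk_sound _ _ _ _ okR4_4) (chk_sound _ _ _ _ okR4_5))
      (Cl.split (by norm_num) (chk_sound _ _ _ _ okR4_6) (chk_sound _ _ _ _ okR4_7)))

theorem cov_all (d : DihedralGroup 8) : Cov d := by
  have c_r0 : Cov (.r 0) := Cov.base (dw := []) (nG_one.symm.trans rfl) (chk_sound _ _ _ _ okE)
  have c_s0 : Cov (.sr 0) := Cov.base (dw := [12])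
    ((wG_single 12).trans (symG_mono false)) (chk_sound _ _ _ _ okS0)
  have c_s1 : Cov (.sr 1) := Cov.base (dw := [13])
    ((wG_single 13).trans (symG_mono true)) (chk_sound _ _ _ _ okS1)
  have c_r1 : Cov (.r 1) := Cov.base (dw := [12, 13])
    ((wG_rot 1).trans (congrArg nG (by decide))) (chk_sound _ _ _ _ okR1)
  have c_r2 : Cov (.r 2) := Cov.base (dw := [12, 13, 12, 13])
    ((wG_rot 2).trans (congrArg nG (by decide))) (chk_sound _ _ _ _ okR2)
  have c_r3 : Cov (.r 3) := Cov.base (dw := [12, 13, 12, 13, 12, 13])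
    ((wG_rot 3).trans (congrArg nG (by decide))) (chk_sound _ _ _ _ okR3)
  have c_r4 : Cov (.r 4) := Cov.base (dw := [12, 13, 12, 13, 12, 13, 12, 13])
    ((wG_rot 4).trans (congrArg nG (by decide))) top_state
  have c_r7 := Cov.step (d := .r 7) false (.sr 1) (by decide) c_s1 (d' := .r 1) (by decide) c_r1
  have c_s7 := Cov.step (d := .sr 7) false (.r 1) (by decide) c_r1 (d' := .sr 1) (by decide) c_s1
  have c_s2 := Cov.step (d := .sr 2) true (.r 7) (by decide) c_r7 (d' := .sr 0) (by decide) c_s0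
  have c_s6 := Cov.step (d := .sr 6) false (.r 2) (by decide) c_r2 (d' := .sr 2) (by decide) c_s2
  have c_r6 := Cov.step (d := .r 6) false (.sr 2) (by decide) c_s2 (d' := .r 2) (by decide) c_r2
  have c_s3 := Cov.step (d := .sr 3) true (.r 6) (by decide) c_r6 (d' := .sr 7) (by decide) c_s7
  have c_s5 := Cov.step (d := .sr 5) false (.r 3) (by decide) c_r3 (d' := .sr 3) (by decide) c_s3
  have c_r5 := Cov.step (d := .r 5) false (.sr 3) (by decide) c_s3 (d' := .r 3) (by decide) c_r3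
  have c_s4 := Cov.step (d := .sr 4) true (.r 5) (by decide) c_r5 (d' := .sr 6) (by decide) c_s6
  rcases d with i | i <;> fin_cases i
  exacts [c_r0, c_r1, c_r2, c_r3, c_r4, c_r5, c_r6, c_r7, c_s0, c_s1, c_s2, c_s3, c_s4, c_s5, c_s6,
    c_s7]

theorem good_all (g : G2) : Good g := by
  obtain ⟨d, u, hu, h, hh, v, hv, e⟩ := (t₂ (ZMod 2)).exists_form ((t₂ (ZMod 2)).G1_le_fix g.2)
  exact good_cell (cov_all d) ⟨u, hu, h, hh, v,
    (t₂ (ZMod 2)).uF_le_U1 (List.all_eq_true.1 invS_ok d (mem_dList d)) 0 hv, e⟩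

theorem x_facts : wEq (xW ++ xW ++ xW ++ xW ++ xW) [] = true ∧ wPar xW = 0 ∧
    wEq ([6] ++ xW) (xW ++ [6]) = true ∧ wPar [6] = 1 ∧ wEq xW [] = false := by
  decide +kernel

/-- In the derived group of ²F₄(2) every non-identity element is a product of two conjugates of one
element of odd order. -/
theorem covers_tits : ∃ x : ↥(commutator G2), Odd (orderOf x) ∧ ∀ g : ↥(commutator G2), g ≠ 1 →
    ∃ u v : ↥(commutator G2), g = (u * x * u⁻¹) * (v * x * v⁻¹) := by
  obtain ⟨h5, hpx, hc, hp6, -⟩ := x_facts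
  have hx : xT ∈ commutator G2 := wG_mem hpx
  refine ⟨⟨xT, hx⟩, ?_, fun g hg => ?_⟩
  · have e5 : xT ^ 5 = 1 := by
      have e := wEq_sound h5
      simp only [wG_app, wG_nil] at e
      rw [xT, ← e]
      simp [pow_succ]
    refine Odd.of_dvd_nat (⟨2, rfl⟩ : Odd 5) (orderOf_dvd_of_pow_eq_one (Subtype.ext ?_))
    simpa using e5
  · -- conjugators may be moved into the derived group by an odd element centralizing `x`
    have hcx : wG [6] * xT = xT * wG [6] := by
      have e := wEq_sound hc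
      rwa [wG_app, wG_app] at e
    have fix1 : ∀ u : G2, ∃ u' : ↥(commutator G2), (u' : G2) * xT * (u' : G2)⁻¹ = u * xT * u⁻¹ := by
      intro u
      by_cases hu : u ∈ commutator G2
      · exact ⟨⟨u, hu⟩, rfl⟩
      · have h6 : wG [6] ∉ commutator G2 := by
          rw [commutator_eq_ker, MonoidHom.mem_ker, parHom_wG, hp6]
          decide
        have hi : (commutator G2).index = 2 := (tits_facts (K := ZMod 2)).1
        refine ⟨⟨u * wG [6], (Subgroup.mul_mem_iff_of_index_two hi).2 (iff_of_false hu h6)⟩, ?_⟩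
        show u * wG [6] * xT * (u * wG [6])⁻¹ = _
        rw [mul_assoc u (wG [6]) xT, hcx]
        group
    obtain ⟨u, v, e⟩ := good_all (g : G2) g.2 fun h => hg (Subtype.ext h)
    obtain ⟨u', hu'⟩ := fix1 u
    obtain ⟨v', hv'⟩ := fix1 v
    refine ⟨u', v', Subtype.ext ?_⟩
    simp only [Subgroup.coe_mul, Subgroup.coe_inv, hu', hv']
    exact e

end CfsgLib.ReeF4.Sq2
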