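import Cfsg.Agent.ReeF4Square.TitsTree

/-!
# The Tits group: sorting trees, cells of length at most 4
-/

set_option autoImplicit false
set_option maxRecDepth 20000
set_option maxHeartbeats 4000000

namespace CfsgLib.ReeF4.Sq2

/-- A tree. -/
def tE : Tr :=
 (.split (.split (.split (.split (.split (.split (.split (.split (.split (.split (.split (.split .triv
 (.leaf 13 18861))
 (.move 1 0 1
 (.leaf 0 1178)))
 (.move 2 0 2
 (.move 3 0 3
 (.leaf 334 4293790))))
 (.move 2 12 2
 (.move 4 0 4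
 (.move 5 0 5
 (.leaf 20 268361)))))
 (.move 2 186 2
 (.move 4 203 4
 (.split (.move 6 0 6
 (.leaf 0 2196))
 (.move 1 0 1
 (.leaf 0 72))))))
 .vac)
 (.split (.split (.move 1 10 1
 (.move 3 11 3
 (.move 7 0 7
 (.move 8 0 8
 (.leaf 8 21081665)))))
 (.move 1 10 1
 (.move 3 11 3
 (.move 7 0 7
 (.move 6 0 6
 (.leaf 4 21085774))))))
 .vac))
 (.move 2 0 2
 (.split .vac
 (.split (.move 1 12 1
 (.move 5 0 5
 (.move 6 0 6
 (.move 9 0 9
 (.leaf 1 21905801)))))
 (.move 1 12 1
 (.move 4 203 4
 (.move 6 12 6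
 (.move 9 0 9
 (.leaf 0 103652)))))))))
 (.move 1 12228726 1
 (.move 3 202 3
 (.split (.split (.split (.move 8 203 8
 (.move 9 0 9
 (.split (.leaf 13 35149)
 (.leaf 13 1165))))
 (.move 2 12 2
 (.move 4 0 4
 (.move 5 0 5
 (.leaf 13 346964333)))))
 (.move 2 186 2
 (.move 4 203 4
 (.move 9 0 9
 (.move 6 0 6
 (.leaf 209 1626441))))))
 .vac))))
 (.split (.move 2 2711 2
 (.move 4 203 4
 (.split .vac
 (.move 1 0 1
 (.move 3 0 3
 (.move 5 0 5
 (.split (.move 10 0 10
 (.leaf 1 5144))
 (.move 10 0 10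
 (.leaf 0 20)))))))))
 (.move 1 12228726 1
 (.move 3 202 3
 (.split .vac
 (.split (.move 7 11 7
 (.move 5 0 5
 (.move 9 0 9
 (.move 10 0 10
 (.leaf 100830 1850574204493)))))
 (.move 7 11 7
 (.move 5 0 5
 (.move 9 0 9
 (.move 10 0 10
 (.leaf 101662 94991410317)))))))))))
 (.move 1 3190 1
 (.split (.move 3 2934 3
 (.move 5 0 5
 (.split .vac
 (.split (.move 8 203 8
 (.move 9 203 9
 (.move 6 0 6
 (.split (.leaf 13 102256205)
 (.leaf 13 21409357)))))
 (.move 2 186 2
 (.move 4 203 4
 (.move 6 12 6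
 (.move 106 0 106
 (.leaf 1367629 7266527995089)))))))))
 (.move 3 3239 3
 (.move 5 0 5
 (.split .vac
 (.split (.move 8 186 8
 (.move 9 12 9
 (.move 6 0 6
 (.split (.leaf 13 102010445)
 (.leaf 13 21413453)))))
 (.move 2 186 2
 (.move 4 203 4
 (.move 6 12 6
 (.move 106 0 106
 (.leaf 30502477 7236464036049))))))))))))
 (.split (.move 2 764261 2
 (.split (.move 4 13342838 4
 (.split (.split (.move 5 9 5
 (.move 6 10 6
 (.move 1044 12 1044
 (.split (.move 11 0 11
 (.leaf 11 21095561))
 (.move 1 0 1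
 (.leaf 0 1317860))))))
 .vac)
 (.split (.move 5 201 5
 (.move 1 10 1
 (.move 3 11 3
 (.split (.move 8 0 8
 (.leaf 0 1049))
 (.move 8 0 8
 (.leaf 1 1178))))))
 .vac)))
 (.move 1 12228726 1
 (.move 3 202 3
 (.split (.move 5 3241 5
 (.move 6 186 6
 (.move 8 203 8
 (.move 9 0 9
 (.move 11 0 11
 (.leaf 3358 899508226157))))))
 .vac)))))
 (.move 1 3190 1
 (.split (.move 3 2934 3
 (.move 5 3240 5
 (.split .vac
 (.move 7 3257 7
 (.move 6 203 6
 (.move 9 203 9
 (.move 10 0 10
 (.move 11 0 11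
 (.leaf 416408596 954587827684)))))))))
 (.move 3 3239 3
 (.move 5 184 5
 (.split .vac
 (.move 7 2985 7
 (.move 6 12 6
 (.move 9 12 9
 (.move 10 0 10
 (.move 11 0 11
 (.leaf 5396750046 417919213121)))))))))))))

theorem okE : chk [] 0 [] tE = true := by decide +kernel

/-- A tree. -/
def tS0 : Tr :=
 (.split (.move 2 131 3
 (.split (.move 4 8 8
 (.move 5 199 7
 (.move 6 9 9
 (.split (.split (.split (.move 72 203 132
 (.move 11 12 12
 (.split (.leaf 3025 348049768)
 (.leaf 465 1631710484))))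
 (.move 72 12 132
 (.move 11 12 12
 (.split (.leaf 209 7444)
 (.leaf 209 1449681)))))
 (.move 565 186 807
 (.move 87 0 117
 (.move 11 12 12
 (.move 105 0 150
 (.leaf 13755601 639393427009))))))
 .vac))))
 (.move 4 52102 8
 (.move 5 199 7
 (.move 6 52137 9
 (.split .vac
 (.split (.move 35 202 50
 (.move 50 203 35
 (.move 11 12 12
 (.move 10 0 10
 (.leaf 6608015070 1558289768158)))))
 (.move 50 0 35
 (.move 105 0 150
 (.move 11 12 12
 (.move 10 0 10
 (.leaf 2381124742 9461257130350))))))))))))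
 (.move 2 13347190 3
 (.move 35 2422 50
 (.move 4 12228453 8
 (.move 5 2439 7
 (.move 6 10 9
 (.split (.split (.move 87 10 117
 (.split (.move 11 0 12
 (.move 188 0 203
 (.leaf 450810340 115407447249)))
 (.move 11 0 12
 (.move 188 0 203
 (.leaf 342417118 7206487319574)))))
 (.move 87 10 117
 (.move 9512 11 14132
 (.move 11 0 12
 (.move 188 0 203
 (.leaf 378199774 4998785224257))))))
 .vac)))))))

theorem okS0 : chk [12] 0 [] tS0 = true := by decide +kernel

/-- A tree. -/
def tS1 : Tr :=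
 (.move 1 6 6
 (.split (.move 3 181 5
 (.split (.split (.split (.split (.move 8 11 11
 (.move 9 10 10
 (.split (.split (.split (.leaf 910564 2303583460)
 (.leaf 910564 76408036))
 (.move 361 0 1562
 (.leaf 13755620 1425473135844)))
 (.split (.move 53 0 83
 (.leaf 14565860 89739117028))
 (.move 53 0 83
 (.leaf 910564 1404150539286))))))
 .vac)
 (.split (.move 8 203 11
 (.move 9 10 10
 (.move 53 11 83
 (.move 7 0 7
 (.move 139 0 184
 (.leaf 1695309 1670287118820))))))
 .vac))
 (.split (.split .vac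
 (.move 8 11 11
 (.move 9 202 10
 (.move 7 0 7
 (.move 359 12 1559
 (.move 154 0 169
 (.leaf 102293214 96886251085)))))))
 (.split .vac
 (.move 8 203 11
 (.move 9 202 10
 (.move 7 11 7
 (.split (.move 139 0 184
 (.leaf 11398420 88212430558))
 (.move 139 0 184
 (.leaf 1908446 281665203684)))))))))
 (.move 22 51318 97
 (.move 53 202 83
 (.split (.move 8 202 11
 (.move 9 186 10
 (.move 139 203 184
 (.move 154 0 169
 (.split (.leaf 65 1412270658797)
 (.leaf 328 2054089481937))))))
 .vac)))))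
 (.move 3 2422 5
 (.split (.move 53 2983 83
 (.split (.split .vac
 (.move 8 201 11
 (.move 9 203 10
 (.move 154 12 169
 (.split (.split (.leaf 56910 96719463582)
 (.leaf 3556 6701254106846))
 (.move 4971 0 25880
 (.leaf 82398 638573208717)))))))
 (.split .vac
 (.move 8 9 11
 (.move 9 203 10
 (.move 154 12 169
 (.move 7 0 7
 (.move 2203 0 2984
 (.leaf 12391566 1519862566477)))))))))
 (.move 53 3190 83
 (.split (.split .vac
 (.move 8 169 11
 (.move 9 12 10
 (.move 154 203 169
 (.split (.split (.leaf 3556 5478735433)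
 (.leaf 3556 5480795620))
 (.move 5482 0 25369
 (.leaf 910365 2000994360905)))))))
 (.split .vac
 (.move 8 3241 11
 (.move 9 12 10
 (.move 154 203 169
 (.move 7 0 7
 (.move 2219 0 2968
 (.leaf 148786753 5076347577373)))))))))))))

theorem okS1 : chk [13] 0 [] tS1 = true := by decide +kernel

/-- A tree. -/
def tR1 : Tr :=
 (.move 1 9 9
 (.move 5 1620 2
 (.move 3 199 7
 (.move 11 11 4
 (.move 7 2983 5
 (.move 10 10 6
 (.split (.move 8 12 12
 (.move 9 10 10
 (.split (.move 12 12 11
 (.split (.leaf 11396116 281822487709)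
 (.leaf 10347540 281822487709)))
 (.move 12 12 11
 (.split (.leaf 31379782 606097985005)
 (.leaf 14565697 4509159803345))))))
 .vac)))))))

theorem okR1 : chk [12, 13] 0 [] tR1 = true := by decide +kernel

/-- A tree. -/
def tR2 : Tr :=
 (.move 1 10 10
 (.move 7 116 2
 (.move 3 181 5
 (.move 12 12 4
 (.split (.move 9 9 6
 (.split (.move 8 11 11
 (.split (.split (.split (.split (.leaf 137 86249891038)
 (.leaf 13 41572756973))
 (.split (.leaf 8 563934)
 (.leaf 8 2270)))
 (.split (.split (.leaf 8 3038)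
 (.leaf 8 633822))
 (.split (.leaf 13 665164074477)
 (.leaf 138 350491870))))
 (.split (.split (.split (.leaf 8 88497984734)
 (.leaf 4 2598297165))
 (.split (.leaf 11 86307127774)
 (.leaf 11 86249891038)))
 (.split (.split (.leaf 8 86249891038)
 (.leaf 8 86307127774))
 (.split (.leaf 11 350491870)
 (.leaf 11 88497984734))))))
 .vac))
 (.move 9 201 6
 (.split .vac
 (.move 8 11 11
 (.split (.split (.split (.split (.leaf 22 35294)
 (.leaf 8 424562398))
 (.split (.leaf 8 407785182)
 (.leaf 97 35294)))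
 (.split (.split (.leaf 97 39902)
 (.leaf 8 5534686942))
 (.split (.leaf 8 21909214)
 (.leaf 22 39902))))
 (.split (.split (.split (.leaf 8 5854)
 (.leaf 11 6392798))
 (.split (.leaf 11 1477598)
 (.leaf 8 25054)))
 (.split (.split (.leaf 11 25054)
 (.leaf 8 1477598))
 (.split (.leaf 8 6392798)
 (.leaf 11 5854)))))))))))))

theorem okR2 : chk [12, 13, 12, 13] 0 [] tR2 = true := by decide +kernel

end CfsgLib.ReeF4.Sq2
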