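import Cfsg.Agent.ReeF4Square.Packed

/-!
# The Tits group: the elements `u n` are conjugates of products of two conjugates of an element of order five

For a monomial element `n` the elements `u n`, `u ∈ U¹`, are sorted slot by slot up to conjugation by those
elements `σ` of `U¹` with `n σ n⁻¹ ∈ U¹`; at the ends of the tree two conjugating words are given.
-/

set_option autoImplicit false
set_option maxHeartbeats 1000000
set_option maxRecDepth 4000
set_option linter.style.haveILetI false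

namespace CfsgLib.ReeF4.Sq2

open Cfsg.Lie
open CfsgLib.ReeF4.Mult (wG symG parHom_symG symPar wPar commutator_eq_ker symRow wG_mem)
open CfsgLib.Schur.Pc (ev ev_cons ev_nil ev_append)
open scoped MatrixGroups

local instance : Fact (Nat.card (ZMod 2) = 2) := ⟨Nat.card_zmod 2⟩

/-- The twisted group over the field with two elements. -/
abbrev G2 : Type := TG (ZMod 2)

theorem wG_nil : wG [] = 1 := rfl

theorem wG_cons (s : ℕ) (w : List ℕ) : wG (s :: w) = symG s * wG w := ev_cons ..

theorem wG_app (u w : List ℕ) : wG (u ++ w) = wG u * wG w := ev_append ..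

theorem wG_single (s : ℕ) : wG [s] = symG s := by rw [wG_cons, wG_nil, mul_one]

/-- The inverse word of one symbol. -/
def invS' (s : ℕ) : List ℕ := if s ∈ [1, 2, 4, 6] then [s, s, s] else [s]

/-- The inverse word. -/
def invW (w : List ℕ) : List ℕ := w.reverse.flatMap invS'

theorem invS_chk : (List.range 14).all (fun s => wEq (invS' s ++ [s]) []) = true := by decide +kernel

theorem symG_ge {s : ℕ} (h : 13 ≤ s) : symG s = symG 13 := by
  refine Subtype.ext ?_
  show Mult.symGL s = Mult.symGL 13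
  unfold Mult.symGL
  rw [dif_neg (by omega), dif_neg (by norm_num),
    show (s != 12) = true from by simpa using (show s ≠ 12 by omega)]
  rfl

theorem wG_invS (s : ℕ) : wG (invS' s) = (symG s)⁻¹ := by
  have key : ∀ i < 14, wG (invS' i) = (symG i)⁻¹ := fun i hi => by
    have h := wEq_sound (List.all_eq_true.1 invS_chk i (List.mem_range.2 hi))
    rw [wG_app, wG_single, wG_nil] at h
    exact eq_inv_of_mul_eq_one_left h
  rcases Nat.lt_or_ge s 14 with hs | hs
  · exact key s hs
  · have e : invS' s = [s] := if_neg (by simp; omega)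
    have e13 : invS' 13 = [13] := rfl
    rw [e, wG_single, symG_ge (by omega)]
    have h13 := key 13 (by norm_num)
    rwa [e13, wG_single] at h13

theorem wG_invW (w : List ℕ) : wG (invW w) = (wG w)⁻¹ := by
  induction w with
  | nil => simp [invW, wG_nil]
  | cons s w ih =>
    rw [invW, List.reverse_cons, List.flatMap_append, List.flatMap_singleton, wG_app, ← invW, ih, wG_invS,
      wG_cons, mul_inv_rev]

/-- The element of order five. -/
def xW : List ℕ := [3, 13]

/-- The element of order five in the twisted group. -/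
def xT : G2 := wG xW

/-- `g` is outside the derived group, trivial, or a product of two conjugates of `xT`. -/
def Good (g : G2) : Prop :=
  g ∈ commutator G2 → g ≠ 1 → ∃ u v : G2, g = u * xT * u⁻¹ * (v * xT * v⁻¹)

theorem Good.conj {g : G2} (h : Good g) (c : G2) : Good (c * g * c⁻¹) := by
  intro hT hne
  have hg : g ∈ commutator G2 := by
    have := Subgroup.Normal.conj_mem inferInstance _ hT c⁻¹
    simpa [mul_assoc] using this
  obtain ⟨u, v, e⟩ := h hg fun e => hne (by rw [e, mul_one, mul_inv_cancel])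
  exact ⟨c * u, c * v, by rw [e]; group⟩

/-- The tail of the unipotent subgroup from a slot on. -/
def H (k : ℕ) : Subgroup G2 := Subgroup.closure (symG '' {j | k ≤ j ∧ j < 12})

theorem sym_mem_H {k j : ℕ} (h : k ≤ j) (hj : j < 12) : symG j ∈ H k :=
  Subgroup.subset_closure ⟨j, ⟨h, hj⟩, rfl⟩

theorem wG_mem_H {k : ℕ} : ∀ w : List ℕ, (∀ j ∈ w, k ≤ j ∧ j < 12) → wG w ∈ H k
  | [], _ => one_mem _
  | s :: w, h => by
    rw [wG_cons]
    exact mul_mem (sym_mem_H (h s List.mem_cons_self).1 (h s List.mem_cons_self).2)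
      (wG_mem_H w fun j hj => h j (List.mem_cons_of_mem _ hj))

theorem H_top {k : ℕ} (hk : 12 ≤ k) : H k = ⊥ := by
  rw [H, Subgroup.closure_eq_bot_iff]
  rintro _ ⟨j, ⟨h1, h2⟩, rfl⟩
  omega

/-- The word of a conjugate of a lift by a lift. -/
def conjT : List (List (List ℕ)) := [
  [[0], [1, 2, 5, 6, 11], [2], [3, 4, 5, 6, 7, 8, 9, 10], [4, 7, 8, 11], [5, 8, 9], [6, 7], [7], [8], [9], [10, 11], [11]],
  [[0, 2, 4, 5, 8, 9, 10], [1], [2, 4, 6, 8, 9], [3], [4, 5], [5], [6], [7, 8, 9, 10], [8, 9, 11], [9, 10], [10], [11]],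
  [[0], [1, 4, 5, 6, 10], [2], [3, 5, 9, 11], [4], [5, 9, 10], [6, 8], [7], [8], [9, 11], [10], [11]],
  [[0, 4, 5, 6, 7, 8, 10, 11], [1], [2, 5, 10, 11], [3], [4], [5], [6], [7, 9, 10, 11], [8, 10], [9], [10], [11]],
  [[0, 7, 8], [1, 5], [2], [3], [4], [5], [6, 9], [7], [8, 11], [9], [10], [11]],
  [[0, 8, 9], [1], [2, 9, 10, 11], [3], [4], [5], [6, 10], [7, 11], [8], [9], [10], [11]],
  [[0, 7], [1], [2, 8], [3], [4, 9], [5, 10], [6], [7], [8], [9], [10], [11]],
  [[0], [1, 8, 10, 11], [2], [3, 9, 10, 11], [4], [5, 11], [6], [7], [8], [9], [10], [11]],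
  [[0], [1, 9, 10, 11], [2], [3, 10], [4, 11], [5], [6], [7], [8], [9], [10], [11]],
  [[0], [1, 10], [2, 11], [3], [4], [5], [6], [7], [8], [9], [10], [11]],
  [[0, 11], [1], [2], [3], [4], [5], [6], [7], [8], [9], [10], [11]],
  [[0], [1], [2], [3], [4], [5], [6], [7], [8], [9], [10], [11]]]

/-- The word of the square of a lift. -/
def sqW : List (List ℕ) := [[], [3], [7], [], [10], [], [11], [], [], [], [], []]

/-- The relations behind the normality of the tails. -/
noncomputable def relOK : Bool :=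
  (List.range 12).all fun i =>
    ((sqW.getD i []).all fun l => Nat.ble (i + 1) l && Nat.ble (l + 1) 12) &&
    wEq [i, i] (sqW.getD i []) && wEq [i, i, i, i] [] &&
    (List.range 12).all fun j =>
      (((conjT.getD i []).getD j []).all fun l => Nat.ble j l && Nat.ble (l + 1) 12) &&
        wEq [i, j] ((conjT.getD i []).getD j [] ++ [i])

theorem rel_ok : relOK = true := by decide +kernel

theorem rel_spec {i : ℕ} (hi : i < 12) :
    symG i * symG i ∈ H (i + 1) ∧ symG i ^ 4 = 1 ∧
      ∀ j < 12, symG i * symG j * (symG i)⁻¹ ∈ H j := by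
  have h := rel_ok
  simp only [relOK, List.all_eq_true, Bool.and_eq_true, List.mem_range, Nat.ble_eq] at h
  obtain ⟨⟨⟨h1, h2⟩, h3⟩, h4⟩ := h i hi
  refine ⟨?_, ?_, fun j hj => ?_⟩
  · have e := wEq_sound h2
    rw [wG_cons, wG_single] at e
    rw [e]
    exact wG_mem_H _ fun l hl => ⟨(h1 l hl).1, by have := (h1 l hl).2; omega⟩
  · have e := wEq_sound h3
    rw [wG_cons, wG_cons, wG_cons, wG_single, wG_nil] at e
    simpa [pow_succ, mul_assoc] using e
  · obtain ⟨h5, h6⟩ := h4 j hj
    have e := wEq_sound h6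
    rw [wG_cons, wG_single, wG_app, wG_single] at e
    rw [e, mul_inv_cancel_right]
    exact wG_mem_H _ fun l hl => ⟨(h5 l hl).1, by have := (h5 l hl).2; omega⟩

theorem H_anti {a b : ℕ} (h : a ≤ b) : H b ≤ H a :=
  Subgroup.closure_mono (Set.image_mono fun j hj => ⟨le_trans h hj.1, hj.2⟩)

theorem conj_sym {i k : ℕ} (hi : i < 12) {z : G2} (hz : z ∈ H k) :
    symG i * z * (symG i)⁻¹ ∈ H k := by
  have hle : H k ≤ (H k).comap (MulAut.conj (symG i)).toMonoidHom := by
    refine (Subgroup.closure_le _).2 ?_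
    rintro _ ⟨j, ⟨h1, h2⟩, rfl⟩
    rw [SetLike.mem_coe, Subgroup.mem_comap]
    exact H_anti h1 ((rel_spec hi).2.2 j h2)
  simpa [Subgroup.mem_comap, MulAut.conj_apply] using hle hz

theorem conj_sym_inv {i k : ℕ} (hi : i < 12) {z : G2} (hz : z ∈ H k) :
    (symG i)⁻¹ * z * symG i ∈ H k := by
  have h4 := (rel_spec hi).2.1
  have e : (symG i)⁻¹ = symG i ^ 3 := by
    rw [eq_comm, eq_inv_iff_mul_eq_one, ← pow_succ, h4]
  have h := conj_sym hi (conj_sym hi (conj_sym hi hz))
  have e2 : symG i * (symG i * (symG i * z * (symG i)⁻¹) * (symG i)⁻¹) * (symG i)⁻¹ =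
      symG i ^ 3 * z * (symG i ^ 3)⁻¹ := by simp [pow_succ, mul_assoc]
  rwa [e2, ← e, inv_inv] at h

theorem conj_word_inv {k : ℕ} : ∀ (w : List ℕ), (∀ j ∈ w, j < 12) → ∀ {z : G2}, z ∈ H k →
    (wG w)⁻¹ * z * wG w ∈ H k
  | [], _, z, hz => by simpa [wG_nil] using hz
  | s :: w, h, z, hz => by
    have := conj_word_inv w (fun j hj => h j (List.mem_cons_of_mem _ hj))
      (conj_sym_inv (h s List.mem_cons_self) hz)
    rw [wG_cons]
    convert this using 1
    group

theorem H_split {k : ℕ} (hk : k < 12) {z : G2} (hz : z ∈ H k) :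
    z ∈ H (k + 1) ∨ ∃ y ∈ H (k + 1), z = symG k * y := by
  set t := symG k with ht
  have h2 : t * t ∈ H (k + 1) := (rel_spec hk).1
  have hc : ∀ {y : G2}, y ∈ H (k + 1) → t⁻¹ * y * t ∈ H (k + 1) := fun hy => conj_sym_inv hk hy
  refine Subgroup.closure_induction ?_ ?_ ?_ ?_ hz
  · rintro _ ⟨j, ⟨h1, h3⟩, rfl⟩
    rcases Nat.eq_or_lt_of_le h1 with rfl | h
    · exact Or.inr ⟨1, one_mem _, (mul_one _).symm⟩
    · exact Or.inl (sym_mem_H h h3)
  · exact Or.inl (one_mem _)
  · rintro a b - - (ha | ⟨a', ha, rfl⟩) (hb | ⟨b', hb, rfl⟩)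
    · exact Or.inl (mul_mem ha hb)
    · exact Or.inr ⟨(t⁻¹ * a * t) * b', mul_mem (hc ha) hb, by group⟩
    · exact Or.inr ⟨a' * b, mul_mem ha hb, by group⟩
    · refine Or.inl ?_
      rw [show t * a' * (t * b') = (t * t) * ((t⁻¹ * a' * t) * b') by group]
      exact mul_mem h2 (mul_mem (hc ha) hb)
  · rintro a - (ha | ⟨a', ha, rfl⟩)
    · exact Or.inl (inv_mem ha)
    · exact Or.inr ⟨t⁻¹ * a'⁻¹ * t * (t * t)⁻¹, mul_mem (hc (inv_mem ha)) (inv_mem h2), by group⟩

theorem par_H {k : ℕ} (hk : 7 ≤ k) : H k ≤ (parHom (K := ZMod 2)).ker := by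
  refine (Subgroup.closure_le _).2 ?_
  rintro _ ⟨j, ⟨h1, h2⟩, rfl⟩
  rw [SetLike.mem_coe, MonoidHom.mem_ker, parHom_symG]
  have : ∀ j < 12, 7 ≤ j → symPar j = 0 := by decide
  rw [this j h2 (le_trans hk h1), ofAdd_zero]

theorem parHom_wG : ∀ w : List ℕ, parHom (K := ZMod 2) (wG w) = Multiplicative.ofAdd (wPar w)
  | [] => by rw [wG_nil, map_one]; rfl
  | s :: w => by
    rw [wG_cons, map_mul, parHom_symG, parHom_wG w, wPar, wPar, List.map_cons, List.sum_cons, ofAdd_add]

/-- A sorting tree. -/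
inductive Tr where
  /-- outside the derived group -/
  | vac
  /-- the trivial element -/
  | triv
  /-- two conjugating words, packed -/
  | leaf (c e : ℕ)
  /-- both values of the slot -/
  | split (a b : Tr)
  /-- the slot is cleared by conjugation: `σ p = p t z φ` -/
  | move (s z f : ℕ) (a : Tr)

/-- Unpack a word. -/
def decW : ℕ → ℕ → List ℕ
  | 0, _ => []
  | fuel + 1, n => bif Nat.beq n 0 then [] else (n % 16 - 1) :: decW fuel (n / 16)

/-- Whether all symbols lie in a range. -/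
def inR (a b : ℕ) (w : List ℕ) : Bool := w.all fun l => Nat.ble a l && Nat.ble (l + 1) b

/-- Check a tree. -/
noncomputable def chk (dw : List ℕ) : ℕ → List ℕ → Tr → Bool
  | k, p, .vac => Nat.ble 7 k && (wPar (p ++ dw) == 1)
  | k, p, .triv => Nat.ble 12 k && p.isEmpty && dw.isEmpty
  | k, p, .leaf c e => Nat.ble 12 k &&
      wEq (p ++ dw) (decW 30 c ++ xW ++ invW (decW 30 c) ++ (decW 30 e ++ xW ++ invW (decW 30 e)))
  | k, p, .split a b => Nat.ble (k + 1) 12 && chk dw (k + 1) p a && chk dw (k + 1) (p ++ [k]) b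
  | k, p, .move s z f a => Nat.ble (k + 1) 12 && inR 0 12 (decW 30 f) && inR (k + 1) 12 (decW 30 z) &&
      wEq (decW 30 s ++ p) (p ++ [k] ++ decW 30 z ++ decW 30 f) &&
      wEq (decW 30 f ++ dw) (dw ++ decW 30 s) && chk dw (k + 1) p a

/-- All elements of one state are good. -/
def Cl (dw : List ℕ) (k : ℕ) (p : List ℕ) : Prop := ∀ z ∈ H k, Good (wG p * z * wG dw)

theorem Cl.split {dw : List ℕ} {k : ℕ} {p : List ℕ} (hk : k < 12) (ha : Cl dw (k + 1) p)
    (hb : Cl dw (k + 1) (p ++ [k])) : Cl dw k p := by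
  intro z hz
  rcases H_split hk hz with h | ⟨y, hy, rfl⟩
  · exact ha z h
  · have := hb y hy
    rwa [wG_app, wG_single, mul_assoc (wG p)] at this

theorem chk_sound (dw : List ℕ) : ∀ (t : Tr) (k : ℕ) (p : List ℕ), chk dw k p t = true → Cl dw k p := by
  intro t
  induction t with
  | vac =>
    intro k p h z hz hT
    simp only [chk, Bool.and_eq_true, Nat.ble_eq, beq_iff_eq] at h
    exfalso
    rw [commutator_eq_ker, MonoidHom.mem_ker, map_mul, map_mul, MonoidHom.mem_ker.1 (par_H h.1 hz),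
      mul_one, ← map_mul, ← wG_app, parHom_wG, h.2] at hT
    revert hT; decide
  | triv =>
    intro k p h z hz hT hne
    simp only [chk, Bool.and_eq_true, Nat.ble_eq, List.isEmpty_iff] at h
    obtain ⟨⟨hk, rfl⟩, rfl⟩ := h
    rw [H_top hk, Subgroup.mem_bot] at hz
    exact absurd (by simp [hz, wG_nil]) hne
  | leaf c e =>
    intro k p h z hz _ _
    simp only [chk, Bool.and_eq_true, Nat.ble_eq] at h
    generalize decW 30 c = C at h
    generalize decW 30 e = E at h
    rw [H_top h.1, Subgroup.mem_bot] at hz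
    refine ⟨wG C, wG E, ?_⟩
    have e1 := wEq_sound h.2
    simp only [wG_app, wG_invW] at e1
    rw [hz, mul_one, e1, xT]
  | split a b iha ihb =>
    intro k p h
    simp only [chk, Bool.and_eq_true, Nat.ble_eq] at h
    exact Cl.split (by omega) (iha _ _ h.1.2) (ihb _ _ h.2)
  | move s z f a ih =>
    intro k p h
    simp only [chk, inR, Bool.and_eq_true, Nat.ble_eq, List.all_eq_true] at h
    generalize decW 30 s = S at h
    generalize decW 30 z = Zw at h
    generalize decW 30 f = F at h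
    obtain ⟨⟨⟨⟨⟨hk, hf⟩, hz0⟩, h1⟩, h2⟩, ha⟩ := h
    have iha := ih _ _ ha
    refine fun y₀ hy₀ => ?_
    rcases H_split (by omega) hy₀ with h | ⟨y, hy, rfl⟩
    · exact iha y₀ h
    have e1 := wEq_sound h1
    have e2 := wEq_sound h2
    simp only [wG_app, wG_single] at e1 e2
    have hZ : wG Zw ∈ H (k + 1) := wG_mem_H _ fun l hl => ⟨(hz0 l hl).1, by
      have := (hz0 l hl).2; omega⟩
    have hm : (wG Zw)⁻¹ * y ∈ H (k + 1) := (H (k + 1)).mul_mem ((H (k + 1)).inv_mem hZ) hy
    have hy' : (wG F)⁻¹ * ((wG Zw)⁻¹ * y) * wG F ∈ H (k + 1) :=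
      conj_word_inv F (fun l hl => by have := (hf l hl).2; omega) hm
    have key := (iha _ hy').conj (wG S)
    have e3 : wG dw * (wG S)⁻¹ = (wG F)⁻¹ * wG dw := by
      rw [mul_inv_eq_iff_eq_mul, mul_assoc, ← e2, inv_mul_cancel_left]
    convert key using 1
    set σ := wG S
    set φ := wG F
    set P := wG p
    set Z := wG Zw
    set n := wG dw
    calc P * (symG k * y) * n
        = P * symG k * Z * φ * (φ⁻¹ * (Z⁻¹ * y) * φ) * (φ⁻¹ * n) := by group
      _ = σ * P * (φ⁻¹ * (Z⁻¹ * y) * φ) * (n * σ⁻¹) := by rw [e1, e3]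
      _ = σ * (P * (φ⁻¹ * (Z⁻¹ * y) * φ) * n) * σ⁻¹ := by group

end CfsgLib.ReeF4.Sq2
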